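/-
Tools for tabulated permutation groups: equality on the bases, enumeration, distinct conjugates, blocks.
-/
import Cfsg.Agent.Lib.PermChain.Closed
import Cfsg.Agent.Lib.PermChain.Eval
import Mathlib.GroupTheory.Perm.Basic

set_option autoImplicit false
set_option linter.unusedSectionVars false
set_option linter.style.haveILetI false

namespace CfsgLib.Co3Recog.Base

open Equiv Subgroup CfsgPC

variable {n : ℕ}

/-- The bases of a table. -/
def bases (ls : List Level) : List ℕ := ls.map Level.base

/-- Two maps agree on the bases. -/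
def eqB (bs : List ℕ) (f g : ℕ → ℕ) : Bool := bs.all fun b => Nat.beq (f b) (g b)

/-- All codes come with their inverses. -/
def permsB (n : ℕ) (cs is : List ℕ) : Bool :=
  Nat.beq cs.length is.length && (List.range cs.length).all fun a => isPerm n (cs.getD a 0) (is.getD a 0)

/-- All codes lie in a table. -/
def siftsB (n : ℕ) (ls : List Level) (cs : List ℕ) : Bool := cs.all fun c => sift n ls c

/-- The letters of a word are small. -/
def ltB (k : ℕ) (w : List ℕ) : Bool := w.all fun a => Nat.blt a k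

/-- The element of a code. -/
noncomputable def el (n : ℕ) (cs : List ℕ) (a : ℕ) : Perm (Fin n) := decP n (cs.getD a 0)

/-- The product of a word. -/
noncomputable def wd (n : ℕ) (cs w : List ℕ) : Perm (Fin n) := (w.map (el n cs)).prod

theorem rep_el {cs is : List ℕ} (h : permsB n cs is = true) {a : ℕ} (ha : a < cs.length) :
    Rep n (cs.getD a 0) (el n cs a) := by
  simp only [permsB, Bool.and_eq_true, List.all_eq_true, List.mem_range] at h
  exact decP_rep (h.2 a ha)

theorem rep_el_inv (hn : n ≤ 512) {cs is : List ℕ} (h : permsB n cs is = true) {a : ℕ} (ha : a < cs.length) :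
    Rep n (is.getD a 0) (el n cs a)⁻¹ := by
  have hr := rep_el h ha
  simp only [permsB, Bool.and_eq_true, List.all_eq_true, List.mem_range] at h
  exact rep_inv hn hr (h.2 a ha)

theorem valid_of_perms {cs is : List ℕ} (h : permsB n cs is = true) : Valid n cs := fun c hc => by
  obtain ⟨a, ha, rfl⟩ := List.getElem_of_mem hc
  have := rep_el h ha
  rw [List.getD_eq_getElem _ _ ha] at this
  exact ⟨_, this⟩

theorem el_mem_gen {cs is : List ℕ} (h : permsB n cs is = true) {a : ℕ} (ha : a < cs.length) :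
    el n cs a ∈ genG n cs := by
  refine Valid.mem (List.getElem_mem ha) ?_
  rw [← List.getD_eq_getElem _ 0 ha]
  exact rep_el h ha

theorem genG_le {cs is : List ℕ} (h : permsB n cs is = true) {H : Subgroup (Perm (Fin n))}
    (hH : ∀ a < cs.length, el n cs a ∈ H) : genG n cs ≤ H := by
  rw [genG, closure_le]
  rintro g ⟨c, hc, hg⟩
  obtain ⟨a, ha, rfl⟩ := List.getElem_of_mem hc
  have := rep_el h ha
  rw [List.getD_eq_getElem _ _ ha] at this
  exact hg.unique this ▸ hH a ha

theorem mem_table (hn : n ≤ 512) {ls : List Level} {gens : List ℕ} (hT : TableOK n ls gens) (hv : Valid n gens)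
    {cs is : List ℕ} (h : permsB n cs is = true) (hs : siftsB n ls cs = true) {a : ℕ} (ha : a < cs.length) :
    el n cs a ∈ genG n gens := by
  refine mem_of_sift hn hT hv _ _ (rep_el h ha) ?_
  rw [List.getD_eq_getElem _ _ ha]
  exact List.all_eq_true.mp hs _ (List.getElem_mem ha)

theorem rep_wd {cs is : List ℕ} (h : permsB n cs is = true) {w : List ℕ} (hw : ltB cs.length w = true)
    (i : Fin n) : apW cs w i = (wd n cs w i : ℕ) := by
  refine rep_apW (g := el n cs) w (fun a ha => rep_el h ?_) i
  have := List.all_eq_true.mp hw a ha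
  rwa [Nat.blt_eq] at this

theorem wd_mem {cs is : List ℕ} (h : permsB n cs is = true) {w : List ℕ} (hw : ltB cs.length w = true) :
    wd n cs w ∈ genG n cs := by
  refine Subgroup.list_prod_mem _ fun g hg => ?_
  obtain ⟨a, ha, rfl⟩ := List.mem_map.mp hg
  refine el_mem_gen h ?_
  have := List.all_eq_true.mp hw a ha
  rwa [Nat.blt_eq] at this

/-- An element of the products fixing every base is trivial. -/
theorem faithful (hn : n ≤ 512) : ∀ {ls : List Level} {gens : List ℕ}, TableOK n ls gens → Valid n gens →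
    ∀ g ∈ prodSet n ls, (∀ i : Fin n, (i : ℕ) ∈ bases ls → g i = i) → g = 1 := by
  intro ls gens h
  induction h with
  | nil gens => exact fun _ g hg _ => hg
  | @cons L ls gens hb hlen hent hsel hrest ih =>
    intro hv g hg hfix
    obtain ⟨hnv, hnle⟩ := level_next hn hv hb hent hsel
    obtain ⟨k, hk, T, hT, y, hy, rfl⟩ := hg
    obtain ⟨T', -, hr, -, hTb, hpos⟩ := level_entry hv hb hent k hk
    obtain rfl := hT.unique hr
    obtain ⟨T0, -, hr0, -, hT0b, hpos0⟩ := level_entry hv hb hent 0 hlen
    have hyfix : y ⟨L.base, hb⟩ = ⟨L.base, hb⟩ := (hnle ((table_products hn hrest hnv).1 hy)).2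
    have e0 : T0 = 1 := by
      have h0 := hent 0 hlen
      simp only [entryOK, Nat.beq_refl, if_true, Bool.and_eq_true, List.all_eq_true, List.mem_range] at h0
      exact hr0.unique fun i => by rw [Nat.eq_of_beq_eq_true (h0.2 i i.2)]; rfl
    have hk0 : k = 0 := by
      have hfix' : (T * y) ⟨L.base, hb⟩ = ⟨L.base, hb⟩ := hfix ⟨L.base, hb⟩ (by simp [bases])
      rw [Perm.mul_apply, hyfix] at hfix'
      have h1 : L.pt k = L.base := by rw [← hTb, hfix']
      have h2 : L.pt 0 = L.base := by rw [← hT0b, e0]; rfl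
      rw [← hpos, h1, ← h2, hpos0]
    subst hk0
    rw [hr.unique hr0, e0, one_mul] at hfix ⊢
    refine ih hnv y hy fun i hi => hfix i ?_
    simp only [bases, List.map_cons, List.mem_cons]
    exact Or.inr hi

theorem eq_of_eqB (hn : n ≤ 512) {ls : List Level} {gens : List ℕ} (hT : TableOK n ls gens) (hv : Valid n gens)
    (hprod : prodSet n ls = genG n gens) {g h : Perm (Fin n)} (hg : g ∈ genG n gens) (hh : h ∈ genG n gens)
    {f f' : ℕ → ℕ} (e : eqB (bases ls) f f' = true) (hf : ∀ i : Fin n, f i = (g i : ℕ))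
    (hf' : ∀ i : Fin n, f' i = (h i : ℕ)) : g = h := by
  have hm : h⁻¹ * g ∈ prodSet n ls := by rw [hprod]; exact mul_mem (inv_mem hh) hg
  refine (inv_mul_eq_one.mp (faithful hn hT hv _ hm fun i hi => ?_)).symm
  have := Nat.eq_of_beq_eq_true (List.all_eq_true.mp e i hi)
  rw [hf, hf'] at this
  rw [Perm.mul_apply, Fin.ext this]
  exact Equiv.symm_apply_apply h i

/-- The image of a point under a product of transversal entries. -/
def evalT : List Level → List ℕ → ℕ → ℕ
  | [], _, i => i
  | _ :: _, [], i => i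
  | L :: ls, k :: ks, i => ap (L.tc k) (evalT ls ks i)

/-- All lists of transversal indices. -/
def allIdx : List Level → List (List ℕ)
  | [] => [[]]
  | L :: ls => (List.range L.tr.length).flatMap fun k => (allIdx ls).map (k :: ·)

theorem exists_idx : ∀ {ls : List Level}, ∀ g ∈ prodSet n ls,
    ∃ ix ∈ allIdx ls, ∀ i : Fin n, evalT ls ix i = (g i : ℕ) := by
  intro ls
  induction ls with
  | nil => exact fun g hg => ⟨[], by simp [allIdx], fun i => by rw [show g = 1 from hg]; rfl⟩
  | cons L ls ih =>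
    rintro g ⟨k, hk, T, hT, y, hy, rfl⟩
    obtain ⟨ix, hix, he⟩ := ih y hy
    refine ⟨k :: ix, ?_, fun i => ?_⟩
    · simp only [allIdx, List.mem_flatMap, List.mem_range, List.mem_map]
      exact ⟨k, hk, ix, hix, rfl⟩
    · rw [evalT, he, hT]; rfl

theorem scan_idx {α : Type} {ls : List Level} {cert : List α} (hlen : cert.length = (allIdx ls).length)
    {chk : List ℕ × α → Bool} (h : ((allIdx ls).zip cert).all chk = true) {g : Perm (Fin n)}
    (hg : g ∈ prodSet n ls) :
    ∃ ix c, chk (ix, c) = true ∧ ∀ i : Fin n, evalT ls ix i = (g i : ℕ) := by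
  obtain ⟨ix, hix, he⟩ := exists_idx g hg
  obtain ⟨p, hp, rfl⟩ := List.getElem_of_mem hix
  refine ⟨_, cert[p]'(hlen ▸ hp), List.all_eq_true.mp h _ ?_, he⟩
  have hz : p < ((allIdx ls).zip cert).length := by rw [List.length_zip, hlen, min_self]; exact hp
  rw [show ((allIdx ls)[p], cert[p]'(hlen ▸ hp)) = ((allIdx ls).zip cert)[p]'hz from List.getElem_zip.symm]
  exact List.getElem_mem hz

/-- The key of a map on the bases. -/
def keyB (bs : List ℕ) (f : ℕ → ℕ) : ℕ := bs.foldl (fun acc b => acc * 512 + f b) 0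

theorem keyB_congr {f f' : ℕ → ℕ} : ∀ {bs : List ℕ} (_ : ∀ b ∈ bs, f b = f' b), keyB bs f = keyB bs f' := by
  intro bs h
  exact List.foldl_ext _ _ _ fun a b hb => by rw [h b hb]

/-- No entry occurs twice. -/
def nodupB : List ℕ → Bool
  | [] => true
  | a :: l => (l.all fun b => !Nat.beq a b) && nodupB l

theorem nodup_of_nodupB : ∀ {l : List ℕ}, nodupB l = true → l.Nodup := by
  intro l
  induction l with
  | nil => exact fun _ => List.nodup_nil
  | cons a l ih =>
    intro h
    simp only [nodupB, Bool.and_eq_true, List.all_eq_true] at h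
    refine List.nodup_cons.mpr ⟨fun ha => ?_, ih h.2⟩
    have := h.1 a ha
    rw [Nat.beq_refl] at this
    simp at this

/-- The conjugate of a code by a word, at a point. -/
def cev (gs gi : List ℕ) (w : List ℕ) (x i : ℕ) : ℕ := apW gs w (ap x (apW gi w.reverse i))

/-- The words give distinct conjugates. -/
def distinctB (bs gs gi : List ℕ) (x : ℕ) (ws : List (List ℕ)) : Bool :=
  (ws.all (ltB gs.length)) && nodupB (ws.map fun w => keyB bs fun i => cev gs gi w x i)

theorem rep_cev (hn : n ≤ 512) {gs gi : List ℕ} (h : permsB n gs gi = true) {w : List ℕ}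
    (hw : ltB gs.length w = true) {x : ℕ} {g : Perm (Fin n)} (hx : Rep n x g) (i : Fin n) :
    cev gs gi w x i = ((wd n gs w * g * (wd n gs w)⁻¹) i : ℕ) := by
  have hlen : gs.length = gi.length := by
    simp only [permsB, Bool.and_eq_true] at h; exact Nat.eq_of_beq_eq_true h.1
  have hinv : apW gi w.reverse i = ((wd n gs w)⁻¹ i : ℕ) := by
    rw [wd, List.prod_inv_reverse, List.map_map, ← List.map_reverse]
    refine rep_apW (g := fun a => (el n gs a)⁻¹) _ (fun a ha => rep_el_inv hn h ?_) i
    have := List.all_eq_true.mp hw a (List.mem_reverse.mp ha)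
    rwa [Nat.blt_eq] at this
  rw [cev, hinv, hx, rep_wd h hw]
  rfl

theorem card_cent_mul_le (hn : n ≤ 512) {gs gi : List ℕ} (h : permsB n gs gi = true) {x : ℕ} {g : Perm (Fin n)}
    (hx : Rep n x g) {bs : List ℕ} (hbs : ∀ b ∈ bs, b < n) {ws : List (List ℕ)}
    (hd : distinctB bs gs gi x ws = true) (H : Subgroup (Perm (Fin n))) (hH : genG n gs ≤ H) :
    Nat.card (H ⊓ centralizer ({g} : Set (Perm (Fin n))) : Subgroup (Perm (Fin n))) * ws.length ≤ Nat.card H := by
  simp only [distinctB, Bool.and_eq_true, List.all_eq_true] at hd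
  have hnd := nodup_of_nodupB hd.2
  let f : (H ⊓ centralizer ({g} : Set (Perm (Fin n))) : Subgroup (Perm (Fin n))) × Fin ws.length → H := fun p =>
    ⟨wd n gs ws[p.2] * p.1, mul_mem (hH (wd_mem h (hd.1 _ (List.getElem_mem _)))) p.1.2.1⟩
  have hf : Function.Injective f := by
    rintro ⟨⟨c, hc⟩, i⟩ ⟨⟨d, hd'⟩, j⟩ e
    have e' : wd n gs ws[i] * c = wd n gs ws[j] * d := congrArg Subtype.val e
    have hconj : ∀ (k : Fin ws.length) (c : Perm (Fin n)), c * g = g * c →
        wd n gs ws[k] * c * g * (wd n gs ws[k] * c)⁻¹ = wd n gs ws[k] * g * (wd n gs ws[k])⁻¹ := fun k c hc => by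
      rw [mul_assoc (wd n gs ws[k]) c g, hc]; group
    have hij : i = j := by
      refine Fin.ext ((hnd.getElem_inj_iff (hi := by simp) (hj := by simp)).mp ?_)
      simp only [List.getElem_map]
      refine keyB_congr fun b hb => ?_
      rw [rep_cev hn h (hd.1 _ (List.getElem_mem _)) hx ⟨b, hbs b hb⟩,
        rep_cev hn h (hd.1 _ (List.getElem_mem _)) hx ⟨b, hbs b hb⟩]
      congr 2
      show wd n gs ws[i] * g * (wd n gs ws[i])⁻¹ = wd n gs ws[j] * g * (wd n gs ws[j])⁻¹
      rw [← hconj i c (mem_centralizer_singleton_iff.mp hc.2), e', hconj j d (mem_centralizer_singleton_iff.mp hd'.2)]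
    subst hij
    exact Prod.ext (Subtype.ext (mul_left_cancel e')) rfl
  have := Nat.card_le_card_of_injective f hf
  rwa [Nat.card_prod, Nat.card_fin] at this

/-- A block carried to itself. -/
def blockB (off m : ℕ) (cs cs' : List ℕ) : Bool :=
  Nat.beq cs.length cs'.length &&
    (List.range cs.length).all fun a => (List.range m).all fun i =>
      Nat.beq (ap (cs.getD a 0) (off + i)) (off + ap (cs'.getD a 0) i)

theorem exists_block_hom {m off : ℕ} (hoff : off + m ≤ n) {cs is cs' is' : List ℕ} (h : permsB n cs is = true)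
    (h' : permsB m cs' is' = true) (hb : blockB off m cs cs' = true) :
    ∃ f : genG n cs →* Perm (Fin m), f.range = genG m cs' ∧
      (∀ (g : genG n cs) (i : Fin m), ((g : Perm (Fin n)) ⟨off + i, by omega⟩ : ℕ) = off + (f g i : ℕ)) ∧
      ∀ (a : ℕ) (ha : a < cs.length), f ⟨el n cs a, el_mem_gen h ha⟩ = el m cs' a := by
  classical
  simp only [blockB, Bool.and_eq_true, List.all_eq_true, List.mem_range] at hb
  obtain ⟨hlen, hb⟩ := hb
  replace hlen := Nat.eq_of_beq_eq_true hlen
  let emb : Fin m → Fin n := fun i => ⟨off + i, by omega⟩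
  have hemb : Function.Injective emb := fun a b e => Fin.ext (by have := congrArg Fin.val e; simp [emb] at this; omega)
  have hgen : ∀ a < cs.length, ∀ i, el n cs a (emb i) = emb (el m cs' a i) := fun a ha i => Fin.ext (by
    rw [← rep_el h ha (emb i), Nat.eq_of_beq_eq_true (hb a ha i i.2)]
    show _ = off + (el m cs' a i : ℕ)
    rw [← rep_el h' (hlen ▸ ha) i])
  let S : Subgroup (Perm (Fin n)) :=
    { carrier := {g | ∃ k ∈ genG m cs', ∀ i, g (emb i) = emb (k i)}
      one_mem' := ⟨1, one_mem _, fun _ => rfl⟩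
      mul_mem' := fun {a b} ⟨x, hxm, hx⟩ ⟨y, hym, hy⟩ =>
        ⟨x * y, mul_mem hxm hym, fun i => by rw [Perm.mul_apply, hy, hx]; rfl⟩
      inv_mem' := fun {a} ⟨x, hxm, hx⟩ => ⟨x⁻¹, inv_mem hxm, fun i => by
        have h1 : ∀ y, a (a⁻¹ y) = y := a.apply_symm_apply
        have h2 : ∀ y, x (x⁻¹ y) = y := x.apply_symm_apply
        apply a.injective
        rw [hx, h1, h2]⟩ }
  have hle : genG n cs ≤ S := genG_le h fun a ha => ⟨el m cs' a, el_mem_gen h' (hlen ▸ ha), hgen a ha⟩
  choose k hkm hk using fun g : genG n cs => hle g.2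
  let f : genG n cs →* Perm (Fin m) := MonoidHom.mk' k fun a b => Equiv.ext fun i => hemb (by
    rw [← hk, Subgroup.coe_mul, Perm.mul_apply, hk b, hk a]; rfl)
  have hfe : ∀ a (ha : a < cs.length), f ⟨el n cs a, el_mem_gen h ha⟩ = el m cs' a := fun a ha =>
    Equiv.ext fun i => hemb ((hk _ i).symm.trans (hgen a ha i))
  refine ⟨f, le_antisymm ?_ ?_, fun g i => congrArg Fin.val (hk g i), hfe⟩
  · rintro _ ⟨g, rfl⟩
    exact hkm g
  · refine genG_le h' fun a ha => ?_
    have ha' : a < cs.length := hlen.symm ▸ ha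
    exact ⟨_, hfe a ha'⟩

/-- The number of fixed points below `n`. -/
def fixCount (n : ℕ) (f : ℕ → ℕ) : ℕ := (List.range n).countP fun i => Nat.beq (f i) i

/-- The number of fixed points of a permutation. -/
def fixNum (g : Perm (Fin n)) : ℕ := (Finset.univ.filter fun i => g i = i).card

theorem fixCount_eq {f : ℕ → ℕ} {g : Perm (Fin n)} (hf : ∀ i : Fin n, f i = (g i : ℕ)) :
    fixCount n f = fixNum g := by
  have h : ∀ (P : ℕ → Bool), (List.range n).countP P = (Finset.univ.filter fun i : Fin n => P i = true).card := by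
    intro P
    rw [List.countP_eq_length_filter, ← List.toFinset_card_of_nodup (List.nodup_range.filter _),
      ← Finset.card_map Fin.valEmbedding]
    congr 1
    ext i
    simp only [List.mem_toFinset, List.mem_filter, List.mem_range, Finset.mem_map, Finset.mem_filter,
      Finset.mem_univ, true_and, Fin.valEmbedding_apply]
    exact ⟨fun ⟨hi, hP⟩ => ⟨⟨i, hi⟩, hP, rfl⟩, fun ⟨j, hP, e⟩ => e ▸ ⟨j.2, hP⟩⟩
  rw [fixCount, h, fixNum]
  congr 1
  ext i
  simp only [Finset.mem_filter, Finset.mem_univ, true_and, hf]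
  exact ⟨fun e => Fin.ext (Nat.eq_of_beq_eq_true e), fun e => by rw [e]; exact Nat.beq_refl _⟩

theorem fixNum_conj (g h : Perm (Fin n)) : fixNum (h * g * h⁻¹) = fixNum g := by
  have h1 : ∀ y, h (h⁻¹ y) = y := h.apply_symm_apply
  have h2 : ∀ y, h⁻¹ (h y) = y := h.symm_apply_apply
  refine Finset.card_bij (fun i _ => h⁻¹ i) (fun i hi => ?_) (fun a _ b _ e => h⁻¹.injective e)
    (fun j hj => ⟨h j, ?_, h2 j⟩)
  · have hi' := (Finset.mem_filter.mp hi).2
    refine Finset.mem_filter.mpr ⟨Finset.mem_univ _, ?_⟩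
    apply h.injective
    rw [h1]
    exact hi'
  · have hj' := (Finset.mem_filter.mp hj).2
    refine Finset.mem_filter.mpr ⟨Finset.mem_univ _, ?_⟩
    rw [Perm.mul_apply, Perm.mul_apply, h2, hj']

end CfsgLib.Co3Recog.Base
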