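/-
Whole-table tests.
-/
import Cfsg.Agent.Lib.Co3Recog.Base

set_option autoImplicit false

namespace CfsgLib.Co3Recog.Base

open Equiv CfsgPC

variable {n : ℕ}

/-- The length of level `j`. -/
def levLen (ls : List Level) (j : ℕ) : ℕ := (ls.getD j ⟨0, [], [], []⟩).tr.length

/-- A table with all entries. -/
def tableB (n : ℕ) (ls : List Level) (gens : List ℕ) : Bool :=
  shapeOK n ls gens && (List.range ls.length).all fun j => entriesOK n ls gens j 0 (levLen ls j)

/-- Sift a function, testing the residue on a list of points. -/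
def siftF (n : ℕ) (pts : List ℕ) : List Level → (ℕ → ℕ) → Bool
  | [], f => pts.all fun i => Nat.beq (f i) i
  | L :: ls, f =>
    Nat.blt L.base n && L.findsOK (f L.base) &&
      siftF n pts ls fun i => ap (L.ti (L.pos.getD (f L.base) 0)) (f i)

/-- The Schreier generators of the entries `a ≤ k < b` of level `j` sift. -/
def closedF (n : ℕ) (pts : List ℕ) (ls : List Level) (gens : List ℕ) (j a b : ℕ) : Bool :=
  let L := ls.getD j ⟨0, [], [], []⟩
  (List.range (b - a)).all fun d => (gensAt n ls gens j).all fun g =>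
    L.findsOK (ap g (L.pt (a + d))) &&
      siftF n pts (ls.drop (j + 1)) fun i =>
        ap (L.ti (L.pos.getD (ap g (L.pt (a + d))) 0)) (ap g (ap (L.tc (a + d)) i))

/-- All Schreier generators sift and the last generators fix the points. -/
def closedAll (n : ℕ) (pts : List ℕ) (ls : List Level) (gens : List ℕ) : Bool :=
  ((List.range ls.length).all fun j => closedF n pts ls gens j 0 (levLen ls j)) &&
    (gensAt n ls gens ls.length).all fun c => pts.all fun i => Nat.beq (ap c i) i

theorem table_of {ls : List Level} {gens : List ℕ} (h : tableB n ls gens = true) : TableOK n ls gens := by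
  simp only [tableB, Bool.and_eq_true, List.all_eq_true, List.mem_range] at h
  exact tableOK_of_checks h.1 fun j hj k hk => of_entriesOK (h.2 j hj) (Nat.zero_le _) hk

/-- The fixers of the points are trivial. -/
def Faith (n : ℕ) (pts : List ℕ) (H : Subgroup (Perm (Fin n))) : Prop :=
  (∀ i ∈ pts, i < n) ∧ ∀ g ∈ H, (∀ i : Fin n, (i : ℕ) ∈ pts → g i = i) → g = 1

theorem Faith.ids {pts : List ℕ} {H : Subgroup (Perm (Fin n))} (hF : Faith n pts H) {c : ℕ} {g : Perm (Fin n)}
    (hr : Rep n c g) (hg : g ∈ H) (h : (pts.all fun i => Nat.beq (ap c i) i) = true) : ∀ i < n, ap c i = i := by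
  intro i hi
  rw [hr ⟨i, hi⟩, hF.2 g hg fun j hj => Fin.ext ?_]
  · rfl
  · rw [← hr j]
    exact Nat.eq_of_beq_eq_true (List.all_eq_true.mp h j hj)

theorem sift_of_siftF (hn : n ≤ 512) {pts : List ℕ} {H : Subgroup (Perm (Fin n))} (hF : Faith n pts H) :
    ∀ {ls : List Level} {gens : List ℕ}, TableOK n ls gens → Valid n gens → genG n gens ≤ H →
      ∀ (g : Perm (Fin n)) (f : ℕ → ℕ) (c : ℕ), g ∈ H → (∀ i : Fin n, f i = (g i : ℕ)) → Rep n c g →
        siftF n pts ls f = true → sift n ls c = true := by
  intro ls gens h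
  induction h with
  | nil gens =>
    intro _ _ g f c hg hf hr hs
    simp only [siftF, List.all_eq_true] at hs
    simp only [sift, List.all_eq_true, List.mem_range]
    intro i hi
    refine (hF.ids hr hg ?_ i hi).symm ▸ Nat.beq_refl i
    simp only [List.all_eq_true]
    intro j hj
    rw [hr ⟨j, hF.1 j hj⟩, ← hf]
    exact hs j hj
  | @cons L ls gens hb hlen hent hsel hrest ih =>
    intro hv hle g f c hg hf hr hs
    obtain ⟨hnv, hnle⟩ := level_next hn hv hb hent hsel
    simp only [siftF, Bool.and_eq_true] at hs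
    obtain ⟨⟨-, hfind⟩, hs⟩ := hs
    have eb : f L.base = ap c L.base := (hf ⟨L.base, hb⟩).trans (hr ⟨L.base, hb⟩).symm
    rw [eb] at hfind hs
    have hk : L.pos.getD (ap c L.base) 0 < L.tr.length := by
      simp only [Level.findsOK, Bool.and_eq_true, Nat.blt_eq] at hfind
      exact hfind.1
    obtain ⟨U, hU, hUr, hUi, -, -⟩ := level_entry hv hb hent _ hk
    simp only [sift, Bool.and_eq_true]
    refine ⟨hfind, ih hnv (fun x hx => hle (hnle hx).1) (U⁻¹ * g) _ _ (mul_mem (inv_mem (hle hU)) hg)
      (fun i => ?_) (hUi.comp hr) hs⟩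
    show ap (L.ti (L.pos.getD (ap c L.base) 0)) (f i) = _
    rw [hf, hUi, Perm.mul_apply]

theorem closed_facts (hn : n ≤ 512) {pts : List ℕ} {H : Subgroup (Perm (Fin n))} (hF : Faith n pts H) :
    ∀ {ls : List Level} {gens : List ℕ}, TableOK n ls gens → Valid n gens → genG n gens ≤ H →
      (∀ j < ls.length, ∀ k < levLen ls j, ∃ a b, a ≤ k ∧ k < b ∧ closedF n pts ls gens j a b = true) →
      ((gensAt n ls gens ls.length).all fun c => pts.all fun i => Nat.beq (ap c i) i) = true →
      (∀ j < ls.length, ∀ k < (ls.getD j ⟨0, [], [], []⟩).tr.length, ∀ g ∈ gensAt n ls gens j,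
        (ls.getD j ⟨0, [], [], []⟩).findsOK (ap g ((ls.getD j ⟨0, [], [], []⟩).pt k)) = true ∧
          sift n (ls.drop (j + 1)) ((ls.getD j ⟨0, [], [], []⟩).schreier n g k) = true) ∧
      ∀ c ∈ gensAt n ls gens ls.length, ∀ i < n, ap c i = i := by
  intro ls gens h
  induction h with
  | nil gens =>
    intro hv hle _ hlast
    refine ⟨fun j hj => absurd hj (Nat.not_lt_zero j), fun c hc => ?_⟩
    have hc' : c ∈ gens := by simpa [gensAt] using hc
    obtain ⟨g, hg⟩ := hv c hc'
    exact hF.ids hg (hle (Valid.mem hc' hg)) (List.all_eq_true.mp hlast c hc)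
  | @cons L ls gens hb hlen hent hsel hrest ih =>
    intro hv hle hall hlast
    obtain ⟨hnv, hnle⟩ := level_next hn hv hb hent hsel
    obtain ⟨h1, h2⟩ := ih hnv (fun x hx => hle (hnle hx).1)
      (fun j hj k hk => hall (j + 1) (by simpa using hj) k hk) hlast
    refine ⟨fun j hj k hk g hg => ?_, h2⟩
    cases j with
    | succ j => exact h1 j (by simpa using hj) k hk g hg
    | zero =>
      obtain ⟨a, b, ha, hb', hc⟩ := hall 0 (by simp) k hk
      have hg' : g ∈ gens := by simpa [gensAt] using hg
      have hk' : k < L.tr.length := by simpa using hk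
      obtain ⟨p, hp⟩ := hv g hg'
      have hh := List.all_eq_true.mp (List.all_eq_true.mp hc (k - a) (List.mem_range.mpr (by omega))) g hg
      rw [Nat.add_sub_cancel' ha, Bool.and_eq_true] at hh
      simp only [List.getD_cons_zero, List.drop_succ_cons, List.drop_zero] at hh ⊢
      refine ⟨hh.1, ?_⟩
      obtain ⟨T, hT, hTr, -, -, -⟩ := level_entry hv hb hent k hk'
      have hf : L.pos.getD (ap g (L.pt k)) 0 < L.tr.length := by
        have := hh.1
        simp only [Level.findsOK, Bool.and_eq_true, Nat.blt_eq] at this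
        exact this.1
      obtain ⟨U, hU, hUr, hUi, -, -⟩ := level_entry hv hb hent _ hf
      refine sift_of_siftF hn hF hrest hnv (fun x hx => hle (hnle hx).1) (U⁻¹ * (p * T)) _ _
        (mul_mem (inv_mem (hle hU)) (mul_mem (hle (Valid.mem hg' hp)) (hle hT))) (fun i => ?_)
        (hUi.comp (hp.comp hTr)) hh.2
      show ap _ (ap g (ap (L.tc k) i)) = _
      rw [hTr, hp, hUi, Perm.mul_apply, Perm.mul_apply]

theorem closed_ofF (hn : n ≤ 512) {pts : List ℕ} {ls : List Level} {gens : List ℕ} {H : Subgroup (Perm (Fin n))}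
    (hF : Faith n pts H) (hv : Valid n gens) (hle : genG n gens ≤ H) (h : tableB n ls gens = true)
    (hall : closedAll n pts ls gens = true) :
    prodSet n ls = genG n gens ∧ Nat.card (genG n gens) = sizeOfChain ls := by
  simp only [closedAll, Bool.and_eq_true] at hall
  obtain ⟨h1, h2⟩ := closed_facts hn hF (table_of h) hv hle
    (fun j hj k hk => ⟨0, _, Nat.zero_le _, hk, List.all_eq_true.mp hall.1 j (List.mem_range.mpr hj)⟩) hall.2
  have hp : prodSet n ls = genG n gens := table_closed hn (table_of h) hv h1 h2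
  refine ⟨hp, ?_⟩
  rw [← (table_products hn (table_of h) hv).2, hp, ← Nat.card_coe_set_eq]
  rfl

theorem size_le_card (hn : n ≤ 512) {ls : List Level} {gens : List ℕ} (hv : Valid n gens)
    (h : tableB n ls gens = true) {H : Subgroup (Perm (Fin n))} (hH : genG n gens ≤ H) :
    sizeOfChain ls ≤ Nat.card H := by
  obtain ⟨hsub, hc⟩ := table_products hn (table_of h) hv
  rw [← hc, ← SetLike.coe_sort_coe, Nat.card_coe_set_eq]
  exact Set.ncard_le_ncard (hsub.trans hH) (Set.toFinite _)

end CfsgLib.Co3Recog.Base
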