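/-
The tests on the data of the centraliser.
-/
import Cfsg.Agent.Lib.Co3Recog.Tables
import Cfsg.Agent.Lib.Co3Recog.DataX
import Cfsg.Agent.Lib.StemSylow.SpSixData
import Cfsg.Agent.Lib.Co3Recog.EnumH.Data
import Cfsg.Agent.Lib.Co3Recog.EnumG.Data

set_option autoImplicit false

namespace CfsgLib.Co3Recog.Data

open CfsgPC Base

/-- The bases of the table of the centraliser. -/
def xBases : List ℕ := bases xChain

/-- Points whose fixers in the centraliser are trivial: bases on the first block and on the second. -/
def xPts : List ℕ :=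
  [0, 1, 2, 3, 4, 5] ++ (bases StemSylow.SpSixData.smallChain).map (276 + ·)

/-- The generators of the normaliser in the centraliser. -/
def pGens : List ℕ := [xGens.getD 0 0, xGens.getD 1 0, xGens.getD 2 0, xGens.getD 3 0, xGens.getD 5 0]

/-- Their inverses. -/
def pInv : List ℕ := [xInv.getD 0 0, xInv.getD 1 0, xInv.getD 2 0, xInv.getD 3 0, xInv.getD 5 0]

/-- The generators of the small subgroup. -/
def kGens : List ℕ := xGens.take 5

/-- The inverses of the small generators. -/
def kInv : List ℕ := xInv.take 5

/-- Entry `i` of the class. -/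
def qc (i : ℕ) : ℕ := qsList.getD i 0

/-- Entry `i` of the class is an earlier entry conjugated. -/
def qsStepB (i : ℕ) : Bool :=
  let p := qsPar.getD i (0, 0)
  Nat.blt p.1 i && Nat.blt p.2 6 && (List.range 339).all fun b =>
    Nat.beq (ap (qc i) b) (ap (xGens.getD p.2 0) (ap (qc p.1) (ap (xGens.getD p.2 0) b)))

/-- The conjugates of entry `i` stay in the class. -/
def qsNextB (i : ℕ) : Bool :=
  (List.range 6).all fun j =>
    let k := (qsNext.getD i []).getD j 630
    Nat.blt k 630 && eqB xBases (fun b => ap (qc k) b) fun b => ap (xGens.getD j 0) (ap (qc i) (ap (xGens.getD j 0) b))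

/-- The certificate of one element of the Sylow subgroup. -/
def sylB (p : List ℕ × (ℕ × ℕ × List ℕ)) : Bool :=
  let e := evalT sChain p.1
  match p.2.1 with
  | 0 => eqB xBases e id
  | 1 => eqB xBases e (ap zC.1)
  | 2 => Nat.blt p.2.2.1 630 && eqB xBases e (ap (qc p.2.2.1))
  | 3 => ltB 6 p.2.2.2 && eqB xBases (fun b => apW xGens p.2.2.2 (e (apW xGens p.2.2.2.reverse b))) (ap uC.1)
  | 4 => eqB xBases (fun b => e (e b)) (ap zC.1)
  | 5 => Nat.blt p.2.2.1 630 && eqB xBases (fun b => e (e b)) (ap (qc p.2.2.1))
  | _ => !eqB xBases (fun b => e (e (e (e b)))) id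

/-- The only central involution of the Sylow subgroup is `z`. -/
def sylCenB (ix : List ℕ) : Bool :=
  let e := evalT sChain ix
  !eqB xBases (fun b => e (e b)) id || eqB xBases e id || eqB xBases e (ap zC.1) ||
    sGens.any fun g => !eqB xBases (fun b => e (ap g b)) fun b => ap g (e b)

/-- A relator without the fused letter holds in the centraliser. -/
def relXB (r : List ℕ) : Bool := r.contains 5 || eqB xBases (apW xLetters r) id

end CfsgLib.Co3Recog.Data
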