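/-
The tests on the data of the elementary subgroup.
-/
import Cfsg.Agent.Lib.Co3Recog.DefsX
import Cfsg.Agent.Lib.Co3Recog.DataA

set_option autoImplicit false

namespace CfsgLib.Co3Recog.Data

open CfsgPC Base

/-- Element `m` of the elementary subgroup. -/
def ac (m : ℕ) : ℕ := aElems.getD m 0

/-- Generators of the centraliser of the fused involution with inverses. -/
def dBoth : List ℕ := dGens ++ dInv

/-- Their inverses. -/
def dBothInv : List ℕ := dInv ++ dGens

/-- The product law of the elementary subgroup. -/
def aMulB : Bool :=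
  (List.range 16).all fun m => (List.range 16).all fun k =>
    eqB xBases (fun b => ap (ac m) (ap (ac k) b)) (ap (ac (Nat.xor m k)))

/-- An involution having 36 fixed points. -/
def fix36 (f : ℕ → ℕ) : Bool := Nat.beq (fixCount 276 f) 36

/-- The conditions on the first candidate. -/
def candB (i : ℕ) : Bool :=
  eqB xBases (fun b => ap sC.1 (ap (qc i) b)) (fun b => ap (qc i) (ap sC.1 b)) &&
    !eqB xBases (ap (qc i)) (ap sC.1) && !eqB xBases (ap (qc i)) (fun b => ap zC.1 (ap sC.1 b)) &&
    fix36 fun b => ap sC.1 (ap (qc i) b)

/-- The element numbered `m` of the group of `z`, `s` and entry `i`. -/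
def span3 (i m b : ℕ) : ℕ :=
  let f₁ := bif m.testBit 2 then ap (qc i) b else b
  let f₂ := bif m.testBit 1 then ap sC.1 f₁ else f₁
  bif m.testBit 0 then ap zC.1 f₂ else f₂

/-- The conditions on the pair. -/
def pairB (i j : ℕ) : Bool :=
  eqB xBases (fun b => ap (qc j) (ap (qc i) b)) (fun b => ap (qc i) (ap (qc j) b)) &&
    ((List.range 8).all fun m => !eqB xBases (ap (qc j)) (span3 i m)) &&
    ((List.range 8).all fun m => fix36 fun b => span3 i m (ap (qc j) b))

/-- The witness for a pair. -/
def witB (i j : ℕ) (w : List ℕ) : Bool :=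
  Nat.blt 1 w.length && Nat.blt (w.getD 0 16) 16 && Nat.blt (w.getD 1 16) 16 && ltB 8 (w.drop 2) &&
    eqB xBases (cev dBoth dBothInv (w.drop 2) (qc i)) (ap (ac (w.getD 0 16))) &&
    eqB xBases (cev dBoth dBothInv (w.drop 2) (qc j)) (ap (ac (w.getD 1 16)))

/-- The pure pairs with the first member at place `p` have witnesses. -/
def pairsRow (p : ℕ) : Bool :=
  (List.range cand.length).all fun q =>
    !pairB (cand.getD p 0) (cand.getD q 0) || witB (cand.getD p 0) (cand.getD q 0) ((pairWit.getD p []).getD q [])

/-- All pure pairs have witnesses. -/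
def pairsOK : Bool :=
  (List.range cand.length).all pairsRow

/-- A word carrying basis element `2 ^ (lev + 1)` to element `m`, fixing the earlier ones. -/
def quadB (lev m : ℕ) : Bool :=
  match (quadWit.getD lev []).getD m [] with
  | 1 :: w => ltB 5 w && eqB xBases (cev pGens pInv w (ac (2 ^ (lev + 1)))) (ap (ac m)) &&
      (List.range (lev + 1)).all fun f => eqB xBases (cev pGens pInv w (ac (2 ^ f))) (ap (ac (2 ^ f)))
  | _ => Nat.blt m (2 ^ (lev + 1))

/-- The element numbered by `ix` passes the tests of the image of the edge generator. -/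
def alphaB (ix : List ℕ) : Bool :=
  let e := evalT dChain ix
  let step := fun a b => if a = 5 then e b else ap (dZeroImg.getD a 0) b
  (eqB xBases (fun b => e (e b)) id && alphaTests.all fun t =>
    eqB xBases (fun b => (List.replicate t.2 t.1).flatten.foldr step b) id)

/-- Element `ix` fails or is the edge generator. -/
def alphaOK (ix : List ℕ) : Bool := !alphaB ix || eqB xBases (evalT dChain ix) (ap (xGens.getD 4 0))

/-- A twisted generator, at a point. -/
def twist (d : List ℕ) (a b : ℕ) : ℕ := ap (ac (d.getD a 0)) (ap (pGens.getD a 0) b)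

/-- A tuple of twists satisfying the relations is inner. -/
def derB (d : List ℕ) : Bool :=
  (!derRels.all fun r => eqB xBases (fun b => r.foldr (twist d) b) id) ||
    (List.range 16).any fun x => (List.range 5).all fun a =>
      eqB xBases (twist d a) fun b => ap (ac x) (ap (pGens.getD a 0) (ap (ac x) b))

/-- The tuples to be tried. -/
def derTuples : List (List ℕ) :=
  (derCand.getD 0 []).flatMap fun a => (derCand.getD 1 []).flatMap fun b => (derCand.getD 2 []).flatMap fun c =>
    (derCand.getD 3 []).flatMap fun d => (derCand.getD 4 []).map fun e => [a, b, c, d, e]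

/-- Twists outside the lists are no involutions. -/
def derCandB : Bool :=
  (List.range 5).all fun a => (List.range 16).all fun m => (derCand.getD a []).contains m ||
    !eqB xBases (fun b => ap (ac m) (ap (pGens.getD a 0) (ap (ac m) (ap (pGens.getD a 0) b)))) id

end CfsgLib.Co3Recog.Data
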