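/-
Kernel checks for the elementary subgroup of order 16, collected.
-/
import Cfsg.Agent.Lib.Co3Recog.ChecksA.Alpha
import Cfsg.Agent.Lib.Co3Recog.ChecksA.Der
import Cfsg.Agent.Lib.Co3Recog.ChecksA.Pairs
import Cfsg.Agent.Lib.Co3Recog.ChecksA.Basic
import Cfsg.Agent.Lib.Co3Recog.ChecksA.PairRows0
import Cfsg.Agent.Lib.Co3Recog.ChecksA.PairRows1
import Cfsg.Agent.Lib.Co3Recog.ChecksA.PairRows2
import Cfsg.Agent.Lib.Co3Recog.ChecksA.PairRows3

set_option autoImplicit false

namespace CfsgLib.Co3Recog.Data

theorem cand_len : cand.length = 36 := by decide +kernel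

theorem pairs_ok : pairsOK = true := by
  rw [pairsOK, List.all_eq_true]
  intro p hp
  rw [List.mem_range, cand_len] at hp
  have key : ∀ j, ((List.range 9).all fun d => pairsRow (j + d)) = true → j ≤ p → p < j + 9 → pairsRow p = true :=
    fun j h h1 h2 => by
      have := List.all_eq_true.mp h (p - j) (List.mem_range.mpr (by omega))
      rwa [show j + (p - j) = p by omega] at this
  by_cases h0 : p < 9
  · exact key 0 pairs_rows0 (by omega) (by omega)
  by_cases h1 : p < 18
  · exact key 9 pairs_rows1 (by omega) (by omega)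
  by_cases h2 : p < 27
  · exact key 18 pairs_rows2 (by omega) (by omega)
  exact key 27 pairs_rows3 (by omega) (by omega)

end CfsgLib.Co3Recog.Data
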