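/-
Kernel checks for the centraliser of the involution, collected.
-/
import Cfsg.Agent.Lib.Co3Recog.ChecksX.Basic
import Cfsg.Agent.Lib.Co3Recog.ChecksX.Next
import Cfsg.Agent.Lib.Co3Recog.ChecksX.Closed
import Cfsg.Agent.Lib.Co3Recog.ChecksX.Step0
import Cfsg.Agent.Lib.Co3Recog.ChecksX.Step1
import Cfsg.Agent.Lib.Co3Recog.ChecksX.Step2
import Cfsg.Agent.Lib.Co3Recog.ChecksX.Step3
import Cfsg.Agent.Lib.Co3Recog.ChecksX.Step4
import Cfsg.Agent.Lib.Co3Recog.ChecksX.Step5

set_option autoImplicit false

namespace CfsgLib.Co3Recog.Data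

open CfsgPC Base

theorem qs_step : ((List.range 630).all fun i => Nat.beq i 0 || qsStepB i) = true := by
  rw [List.all_eq_true]
  intro i hi
  rw [List.mem_range] at hi
  have key : ∀ j, ((List.range 105).all fun i => Nat.beq (j + i) 0 || qsStepB (j + i)) = true → j ≤ i → i < j + 105 →
      (Nat.beq i 0 || qsStepB i) = true := fun j h h1 h2 => by
    have := List.all_eq_true.mp h (i - j) (List.mem_range.mpr (by omega))
    rwa [show j + (i - j) = i by omega] at this
  by_cases h0 : i < 105
  · exact key 0 qs_step0 (by omega) (by omega)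
  by_cases h1 : i < 210
  · exact key 105 qs_step1 (by omega) (by omega)
  by_cases h2 : i < 315
  · exact key 210 qs_step2 (by omega) (by omega)
  by_cases h3 : i < 420
  · exact key 315 qs_step3 (by omega) (by omega)
  by_cases h4 : i < 525
  · exact key 420 qs_step4 (by omega) (by omega)
  exact key 525 qs_step5 (by omega) (by omega)

end CfsgLib.Co3Recog.Data
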