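/-
Two non-split double covers of a perfect group with multiplier of order at most two are isomorphic.
-/
import Cfsg.Prelude.Def_KGroupFacts
import Cfsg.Prelude.Def_SporadicB
import Mathlib.GroupTheory.Commutator.Basic
import Mathlib.GroupTheory.Abelianization.Defs
import Mathlib.GroupTheory.Complement

set_option autoImplicit false
set_option linter.unusedSectionVars false
set_option linter.style.haveILetI false

namespace CfsgLib.Co3Recog.Cover

open Subgroup
open scoped commutatorElement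

universe u v

variable {K : Type v} [Group K]

theorem perfect_of_stem {X : Type u} [Group X] {σ : X →* K} (hσ : Cfsg.IsStemExtension σ)
    (hK : commutator K = ⊤) : commutator X = ⊤ := by
  refine eq_top_iff.mpr fun x _ => ?_
  have h : σ x ∈ (commutator X).map σ := by
    rw [_root_.commutator_def, Subgroup.map_commutator, Subgroup.map_top_of_surjective σ hσ.1,
      ← _root_.commutator_def, hK]
    exact mem_top _
  obtain ⟨y, hy, e⟩ := h
  have hk : y⁻¹ * x ∈ σ.ker := by rw [MonoidHom.mem_ker, map_mul, map_inv, e, inv_mul_cancel]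
  have := mul_mem hy (hσ.2.2 hk)
  rwa [mul_inv_cancel_left] at this

theorem equiv_of_stem {X₁ X₂ : Type u} [Group X₁] [Finite X₁] [Group X₂] [Finite X₂] [Finite K]
    (hK : commutator K = ⊤) {σ₁ : X₁ →* K} {σ₂ : X₂ →* K} (h₁ : Cfsg.IsStemExtension σ₁)
    (h₂ : Cfsg.IsStemExtension σ₂) (c₁ : Nat.card σ₁.ker = 2) (c₂ : Nat.card σ₂.ker = 2)
    (hmult : ∀ (Γ : Type u) [Group Γ] [Finite Γ] (σ : Γ →* K), Cfsg.IsStemExtension σ → Nat.card σ.ker ≤ 2) :
    Nonempty (X₁ ≃* X₂) := by
  classical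
  let P : Subgroup (X₁ × X₂) := (σ₁.comp (MonoidHom.fst X₁ X₂)).eqLocus (σ₂.comp (MonoidHom.snd X₁ X₂))
  have hP : ∀ p : X₁ × X₂, p ∈ P ↔ σ₁ p.1 = σ₂ p.2 := fun p => Iff.rfl
  let Γ : Subgroup (X₁ × X₂) := ⁅P, P⁆
  have hle : Γ ≤ P := commutator_le.mpr fun a ha b hb => by
    rw [commutatorElement_def]; exact mul_mem (mul_mem (mul_mem ha hb) (inv_mem ha)) (inv_mem hb)
  let π : Γ →* K := (σ₁.comp (MonoidHom.fst X₁ X₂)).comp Γ.subtype
  have hπ2 : ∀ g : Γ, π g = σ₂ (g : X₁ × X₂).2 := fun g => (hP _).mp (hle g.2)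
  have hPK : P.map (σ₁.comp (MonoidHom.fst X₁ X₂)) = ⊤ := by
    refine eq_top_iff.mpr fun k _ => ?_
    obtain ⟨a, rfl⟩ := h₁.1 k
    obtain ⟨b, hb⟩ := h₂.1 (σ₁ a)
    exact ⟨(a, b), (hP _).mpr hb.symm, rfl⟩
  have hsurj : Function.Surjective π := by
    intro k
    have : k ∈ Γ.map (σ₁.comp (MonoidHom.fst X₁ X₂)) := by
      rw [Subgroup.map_commutator, hPK, ← _root_.commutator_def, hK]
      exact mem_top _
    obtain ⟨g, hg, e⟩ := this
    exact ⟨⟨g, hg⟩, e⟩
  have hcen : ∀ p : X₁ × X₂, σ₁ p.1 = 1 → σ₂ p.2 = 1 → ∀ q, p * q = q * p := fun p hp hp' q =>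
    Prod.ext (mem_center_iff.mp (h₁.2.1 hp) q.1).symm (mem_center_iff.mp (h₂.2.1 hp') q.2).symm
  -- the derived subgroup is perfect
  have hperf : commutator Γ = ⊤ := by
    refine eq_top_iff.mpr fun g _ => ?_
    have hg : (g : X₁ × X₂) ∈ (commutator Γ).map Γ.subtype := by
      have key : ⁅P, P⁆ ≤ ⁅Γ, Γ⁆ := by
        refine commutator_le.mpr fun a ha b hb => ?_
        obtain ⟨a', ha'⟩ := hsurj (σ₁ a.1)
        obtain ⟨b', hb'⟩ := hsurj (σ₁ b.1)
        have za : ∀ q, (a'⁻¹ : X₁ × X₂) * a * q = q * ((a'⁻¹ : X₁ × X₂) * a) := hcen _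
          (by simp only [Prod.fst_mul, Prod.fst_inv, map_mul, map_inv]; rw [show σ₁ (a' : X₁ × X₂).1 = σ₁ a.1 from ha',
            inv_mul_cancel])
          (by simp only [Prod.snd_mul, Prod.snd_inv, map_mul, map_inv]; rw [← hπ2, ha', (hP _).mp ha, inv_mul_cancel])
        have zb : ∀ q, (b'⁻¹ : X₁ × X₂) * b * q = q * ((b'⁻¹ : X₁ × X₂) * b) := hcen _
          (by simp only [Prod.fst_mul, Prod.fst_inv, map_mul, map_inv]; rw [show σ₁ (b' : X₁ × X₂).1 = σ₁ b.1 from hb',
            inv_mul_cancel])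
          (by simp only [Prod.snd_mul, Prod.snd_inv, map_mul, map_inv]; rw [← hπ2, hb', (hP _).mp hb, inv_mul_cancel])
        rw [show a = (a' : X₁ × X₂) * ((a'⁻¹ : X₁ × X₂) * a) by rw [mul_inv_cancel_left],
          show b = (b' : X₁ × X₂) * ((b'⁻¹ : X₁ × X₂) * b) by rw [mul_inv_cancel_left]]
        generalize (a'⁻¹ : X₁ × X₂) * a = x at za
        generalize (b'⁻¹ : X₁ × X₂) * b = y at zb
        have e : ⁅(a' : X₁ × X₂) * x, (b' : X₁ × X₂) * y⁆ = ⁅(a' : X₁ × X₂), (b' : X₁ × X₂)⁆ := by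
          simp only [commutatorElement_def, mul_inv_rev]
          calc (a' : X₁ × X₂) * x * (b' * y) * (x⁻¹ * (a' : X₁ × X₂)⁻¹) * (y⁻¹ * (b' : X₁ × X₂)⁻¹)
              = (a' : X₁ × X₂) * ((x * (b' * y)) * x⁻¹) * (a' : X₁ × X₂)⁻¹ * y⁻¹ * (b' : X₁ × X₂)⁻¹ := by
                simp only [mul_assoc]
            _ = (a' : X₁ × X₂) * b' * ((y * (a' : X₁ × X₂)⁻¹) * y⁻¹) * (b' : X₁ × X₂)⁻¹ := by
                rw [za (b' * y), mul_inv_cancel_right]; simp only [mul_assoc]
            _ = _ := by rw [zb, mul_inv_cancel_right]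
        rw [e]
        exact commutator_mem_commutator a'.2 b'.2
      rw [_root_.commutator_def, Subgroup.map_commutator, ← MonoidHom.range_eq_map, Subgroup.range_subtype]
      exact key g.2
    obtain ⟨g', hg', e⟩ := hg
    rwa [show g' = g from Subtype.ext e] at hg'
  have hst : Cfsg.IsStemExtension π := ⟨hsurj, fun g hg => mem_center_iff.mpr fun q => Subtype.ext
    (hcen _ hg (by show σ₂ (g : X₁ × X₂).2 = 1; rw [← hπ2]; exact hg) q).symm, by rw [hperf]; exact le_top⟩
  have hcard : Nat.card Γ ≤ 2 * Nat.card K := by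
    have h := π.ker.card_mul_index
    rw [index_ker, MonoidHom.range_eq_top.mpr hsurj, Subgroup.card_top] at h
    rw [← h]
    exact Nat.mul_le_mul_right _ (hmult Γ π hst)
  have hX : ∀ {X : Type u} [Group X] [Finite X] (σ : X →* K), Cfsg.IsStemExtension σ → Nat.card σ.ker = 2 →
      ∀ f : Γ →* X, σ.comp f = π → Function.Bijective f := by
    intro X _ _ σ hσ hc f hf
    have hfs : Function.Surjective f := by
      rw [← MonoidHom.range_eq_top, eq_top_iff, ← perfect_of_stem hσ hK, _root_.commutator_def, commutator_le]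
      intro x _ y _
      obtain ⟨a, ha⟩ := hsurj (σ x)
      obtain ⟨b, hb⟩ := hsurj (σ y)
      rw [← hf] at ha hb
      have hx : (f a)⁻¹ * x ∈ center X := hσ.2.1 (by
        rw [MonoidHom.mem_ker, map_mul, map_inv, show σ (f a) = σ x from ha, inv_mul_cancel])
      have hy : (f b)⁻¹ * y ∈ center X := hσ.2.1 (by
        rw [MonoidHom.mem_ker, map_mul, map_inv, show σ (f b) = σ y from hb, inv_mul_cancel])
      rw [show x = f a * ((f a)⁻¹ * x) by rw [mul_inv_cancel_left], show y = f b * ((f b)⁻¹ * y) by rw [mul_inv_cancel_left]]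
      refine ⟨⁅a, b⁆, ?_⟩
      generalize (f a)⁻¹ * x = x' at hx
      generalize (f b)⁻¹ * y = y' at hy
      rw [map_commutatorElement, commutatorElement_def, commutatorElement_def]
      simp only [mul_inv_rev]
      calc f a * f b * (f a)⁻¹ * (f b)⁻¹ = f a * f b * ((y' * (f a)⁻¹) * y'⁻¹) * (f b)⁻¹ := by
            rw [← mem_center_iff.mp hy, mul_inv_cancel_right]
        _ = f a * ((x' * (f b * y')) * x'⁻¹) * (f a)⁻¹ * y'⁻¹ * (f b)⁻¹ := by
            rw [← mem_center_iff.mp hx, mul_inv_cancel_right]; simp only [mul_assoc]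
        _ = _ := by simp only [mul_assoc]
    refine hfs.bijective_of_nat_card_le (hcard.trans (le_of_eq ?_))
    rw [← hc, ← σ.ker.card_mul_index, index_ker, MonoidHom.range_eq_top.mpr hσ.1, Subgroup.card_top]
  have b₁ := hX σ₁ h₁ c₁ ((MonoidHom.fst X₁ X₂).comp Γ.subtype) rfl
  have b₂ := hX σ₂ h₂ c₂ ((MonoidHom.snd X₁ X₂).comp Γ.subtype) (MonoidHom.ext fun g => (hπ2 g).symm)
  exact ⟨(MulEquiv.ofBijective _ b₁).symm.trans (MulEquiv.ofBijective _ b₂)⟩

/-- A non-split double cover of a perfect group is a stem extension. -/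
theorem stem_of_double {H : Type u} [Group H] [Finite H] {L : Type*} [Group L] (hL : commutator L = ⊤)
    (h : Cfsg.IsNonsplitDoubleCover H L) (e : L ≃* K) :
    ∃ σ : H →* K, Cfsg.IsStemExtension σ ∧ Nat.card σ.ker = 2 := by
  obtain ⟨hc, ⟨f⟩, hns⟩ := h
  let σ : H →* K := e.toMonoidHom.comp (f.toMonoidHom.comp (QuotientGroup.mk' (center H)))
  have hker : σ.ker = center H := by
    ext x
    rw [MonoidHom.mem_ker]
    show e (f (QuotientGroup.mk x)) = 1 ↔ _
    rw [MulEquiv.map_eq_one_iff, MulEquiv.map_eq_one_iff, QuotientGroup.eq_one_iff]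
  have hs : Function.Surjective σ := e.surjective.comp (f.surjective.comp (QuotientGroup.mk'_surjective _))
  refine ⟨σ, ⟨hs, hker.le, ?_⟩, by rw [hker, hc]⟩
  rw [hker]
  intro x hx
  by_contra hxc
  refine hns (commutator H) ?_
  have hdisj : Disjoint (center H) (commutator H) := by
    rw [Subgroup.disjoint_def]
    intro y hy hy'
    by_contra hy1
    haveI : Fact (Nat.Prime 2) := ⟨Nat.prime_two⟩
    have hy0 : (⟨y, hy⟩ : center H) ≠ 1 := fun e => hy1 (congrArg Subtype.val e)
    have := zpowers_eq_top_of_prime_card hc hy0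
    have hxm : (⟨x, hx⟩ : center H) ∈ zpowers (⟨y, hy⟩ : center H) := this ▸ mem_top _
    obtain ⟨n, hn⟩ := mem_zpowers_iff.mp hxm
    refine hxc ?_
    rw [← show y ^ n = x from congrArg Subtype.val hn]
    exact zpow_mem hy' n
  refine Subgroup.isComplement'_of_disjoint_and_mul_eq_univ hdisj ?_
  refine Set.eq_univ_of_forall fun y => ?_
  have hy : σ y ∈ (commutator H).map σ := by
    rw [_root_.commutator_def, Subgroup.map_commutator, Subgroup.map_top_of_surjective σ hs, ← _root_.commutator_def]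
    have : commutator K = ⊤ := by
      have := congrArg (Subgroup.map e.toMonoidHom) hL
      rwa [_root_.commutator_def, Subgroup.map_commutator, Subgroup.map_top_of_surjective _ e.surjective,
        ← _root_.commutator_def] at this
    rw [this]
    exact mem_top _
  obtain ⟨w, hw, hwe⟩ := hy
  have hz : y * w⁻¹ ∈ center H := hker.le (by rw [MonoidHom.mem_ker, map_mul, map_inv, hwe, mul_inv_cancel])
  exact ⟨y * w⁻¹, hz, w, hw, by simp⟩

end CfsgLib.Co3Recog.Cover
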