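/-
Permutations given as functions on numbers, and a count of conjugates.
-/
import Cfsg.Agent.Lib.Co3Recog.Tables

set_option autoImplicit false
set_option linter.unusedSectionVars false

namespace CfsgLib.Co3Recog.Base

open Equiv Subgroup CfsgPC

variable {n : ℕ}

/-- A function describes a permutation. -/
def Fn (n : ℕ) (f : ℕ → ℕ) (g : Perm (Fin n)) : Prop := ∀ i : Fin n, f i = (g i : ℕ)

theorem Fn.of_rep {c : ℕ} {g : Perm (Fin n)} (h : Rep n c g) : Fn n (ap c) g := h

theorem Fn.one : Fn n id 1 := fun _ => rfl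

theorem Fn.mul {f f' : ℕ → ℕ} {g h : Perm (Fin n)} (hf : Fn n f g) (hf' : Fn n f' h) :
    Fn n (fun b => f (f' b)) (g * h) := fun i => by
  show f (f' i) = _
  rw [hf' i, hf, Perm.mul_apply]

theorem Fn.unique {f : ℕ → ℕ} {g h : Perm (Fin n)} (hg : Fn n f g) (hh : Fn n f h) : g = h :=
  Equiv.ext fun i => Fin.ext ((hg i).symm.trans (hh i))

theorem Fn.eqB_of_eq {bs : List ℕ} (hbs : ∀ b ∈ bs, b < n) {f f' : ℕ → ℕ} {g h : Perm (Fin n)}
    (hf : Fn n f g) (hf' : Fn n f' h) (e : g = h) : eqB bs f f' = true := by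
  simp only [eqB, List.all_eq_true]
  intro b hb
  rw [hf ⟨b, hbs b hb⟩, hf' ⟨b, hbs b hb⟩, e]
  exact Nat.beq_refl _

theorem Fn.ne_of_false {bs : List ℕ} (hbs : ∀ b ∈ bs, b < n) {f f' : ℕ → ℕ} {g h : Perm (Fin n)}
    (hf : Fn n f g) (hf' : Fn n f' h) (e : eqB bs f f' = false) : g ≠ h := fun h' => by
  rw [Fn.eqB_of_eq hbs hf hf' h'] at e
  exact Bool.noConfusion e

theorem Fn.word {cs is : List ℕ} (h : permsB n cs is = true) {w : List ℕ} (hw : ltB cs.length w = true) :
    Fn n (apW cs w) (wd n cs w) := rep_wd h hw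

theorem Fn.word_inv (hn : n ≤ 512) {gs gi : List ℕ} (h : permsB n gs gi = true) {w : List ℕ}
    (hw : ltB gs.length w = true) : Fn n (apW gi w.reverse) (wd n gs w)⁻¹ := by
  intro i
  rw [wd, List.prod_inv_reverse, List.map_map, ← List.map_reverse]
  refine rep_apW (g := fun a => (el n gs a)⁻¹) _ (fun a ha => rep_el_inv hn h ?_) i
  have := List.all_eq_true.mp hw a (List.mem_reverse.mp ha)
  rwa [Nat.blt_eq] at this

theorem Fn.conj (hn : n ≤ 512) {gs gi : List ℕ} (h : permsB n gs gi = true) {w : List ℕ}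
    (hw : ltB gs.length w = true) {f : ℕ → ℕ} {g : Perm (Fin n)} (hf : Fn n f g) :
    Fn n (fun i => apW gs w (f (apW gi w.reverse i))) (wd n gs w * g * (wd n gs w)⁻¹) :=
  (mul_assoc (wd n gs w) g (wd n gs w)⁻¹).symm ▸ (Fn.word h hw).mul (hf.mul (Fn.word_inv hn h hw))

theorem card_cent_mul_le_of_conj {P : Type*} [Group P] [Finite P] {H : Subgroup P} {g : P} {ι : Type*} [Finite ι]
    (y : ι → P) (hy : Function.Injective y) (hc : ∀ i, ∃ h ∈ H, h * g * h⁻¹ = y i) :
    Nat.card (H ⊓ centralizer ({g} : Set P) : Subgroup P) * Nat.card ι ≤ Nat.card H := by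
  choose k hkH hk using hc
  let f : (H ⊓ centralizer ({g} : Set P) : Subgroup P) × ι → H := fun p =>
    ⟨k p.2 * p.1, mul_mem (hkH _) p.1.2.1⟩
  have hf : Function.Injective f := by
    rintro ⟨⟨c, hc⟩, i⟩ ⟨⟨d, hd⟩, j⟩ e
    have e' : k i * c = k j * d := congrArg Subtype.val e
    have hconj : ∀ (i : ι) (c : P), c * g = g * c → k i * c * g * (k i * c)⁻¹ = y i := fun i c hc => by
      rw [mul_assoc (k i) c g, hc, ← hk i]; group
    have hij : i = j := hy (by
      rw [← hconj i c (mem_centralizer_singleton_iff.mp hc.2), e', hconj j d (mem_centralizer_singleton_iff.mp hd.2)])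
    subst hij
    exact Prod.ext (Subtype.ext (mul_left_cancel e')) rfl
  have := Nat.card_le_card_of_injective f hf
  rwa [Nat.card_prod] at this

end CfsgLib.Co3Recog.Base
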