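/-
The tests on the data on 276 points.
-/
import Cfsg.Agent.Lib.Co3Recog.DefsA
import Cfsg.Agent.Lib.Co3Recog.DataM
import Cfsg.Agent.Lib.McLInvol.Bound
import Cfsg.Agent.Lib.Leech.Co3PermData

set_option autoImplicit false

namespace CfsgLib.Co3Recog.Data

open CfsgPC Base

/-- The bases of the table of the group of the letters. -/
def mBases : List ℕ := bases mChain

/-- A code on 339 points restricted to the first 276. -/
def cut (x : ℕ) : ℕ := pk (ap x) 276

/-- Letter `a`. -/
def ml (a : ℕ) : ℕ := mLetters.getD a 0

/-- The central involution on 276 points. -/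
def tM : ℕ := cut zC.1

/-- The fused involution on 276 points. -/
def sM : ℕ := cut sC.1

/-- The other involution on 276 points. -/
def uM : ℕ := cut uC.1

/-- The generators of the centraliser as letters. -/
def xInM : List ℕ := [ml 0, ml 1, ml 2, ml 3, ml 4, ml 6]

/-- The letters normalising the elementary subgroup. -/
def nLetters : List ℕ := [ml 0, ml 1, ml 2, ml 3, ml 6, ml 5]

/-- Two codes commute on the bases. -/
def commM (x y : ℕ) : Bool := eqB mBases (fun b => ap x (ap y b)) fun b => ap y (ap x b)

/-- All codes lie in the table and commute with the listed codes. -/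
def inCentB (cs ys : List ℕ) : Bool := siftsB 276 mChain cs && cs.all fun c => ys.all (commM c)

/-- A map conjugated by a word. -/
def cevF (gs gi : List ℕ) (w : List ℕ) (f : ℕ → ℕ) (i : ℕ) : ℕ := apW gs w (f (apW gi w.reverse i))

/-- Generators of the centraliser of the second involution with inverses. -/
def cuBoth : List ℕ := cuGens ++ cuInv

/-- Their inverses. -/
def cuBothInv : List ℕ := cuInv ++ cuGens

/-- The certificate of one element of the Sylow subgroup of this centraliser. -/
def cuB (p : List ℕ × (ℕ × List ℕ)) : Bool :=
  let e := evalT suChain p.1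
  let eu := fun b => e (ap uM b)
  let sends := fun f x => ltB cuBoth.length p.2.2 && eqB mBases (cevF cuBoth cuBothInv p.2.2 f) (ap x)
  match p.2.1 with
  | 0 => !eqB mBases (fun b => e (e b)) id
  | 1 => eqB mBases e id
  | 2 => eqB mBases e (ap uM)
  | 3 => sends e tM
  | 4 => sends eu tM
  | 5 => sends e vC.1
  | 6 => sends eu vC.1
  | _ => false

/-- The four elements of the four-group. -/
def vFour : List (ℕ → ℕ) := [id, ap uM, ap vC.1, fun b => ap uM (ap vC.1 b)]

/-- A map lies in the four-group. -/
def inFourB (f : ℕ → ℕ) : Bool := vFour.any (eqB mBases f)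

/-- An element central modulo the four-group lies in it or in its translate by `t`. -/
def tCenB (ix : List ℕ) : Bool :=
  let e := evalT tTwoChain ix
  inFourB e || inFourB (fun b => e (ap tM b)) ||
    (List.range tTwoGens.length).any fun a =>
      !vFour.any fun f => eqB mBases (fun b => e (ap (tTwoGens.getD a 0) b)) fun b => f (ap (tTwoGens.getD a 0) (e b))

/-- A relator holds on 276 points. -/
def relMB (r : List ℕ) : Bool := ltB 7 r && eqB mBases (apW mLetters r) id

/-- A relator is of one of the three kinds. -/
def relKindB (r : List ℕ) : Bool := !r.contains 5 || !r.contains 4 || r == [5, 4, 5, 4]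

/-- Conjugation of the basis of the elementary subgroup by the normalising letters. -/
def aConjB : Bool :=
  (List.range 6).all fun g => (List.range 4).all fun b =>
    let m := (aConj.getD g []).getD b 16
    Nat.blt m 16 && eqB mBases (fun i => ap (nLetters.getD g 0) (ap (cut (ac (2 ^ b))) (ap (nLetters.getD g 0) i)))
      (ap (cut (ac m)))

/-- The images under the fused element. -/
def dZeroB : Bool :=
  (List.range 5).all fun i =>
    eqB mBases (fun b => ap (ml 5) (ap (cut (dZero.getD i 0)) (ap (ml 5) b))) (ap (cut (dZeroImg.getD i 0)))

end CfsgLib.Co3Recog.Data
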