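/-
Kernel checks on 276 points, collected.
-/
import Cfsg.Agent.Lib.Co3Recog.ChecksM.Tab
import Cfsg.Agent.Lib.Co3Recog.ChecksM.Fix
import Cfsg.Agent.Lib.Co3Recog.ChecksM.Basic
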