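/-
The group of the letters on 276 points and its table.
-/
import Cfsg.Agent.Lib.Co3Recog.Elements
import Cfsg.Agent.Lib.Co3Recog.ChecksM
import Cfsg.Agent.Lib.Leech.Co3Model

set_option autoImplicit false
set_option linter.style.haveILetI false
set_option maxRecDepth 30000

namespace CfsgLib.Co3Recog.M

open Equiv Subgroup CfsgPC Base Data

attribute [local irreducible] mLetters mInv mChain

/-- The group. -/
noncomputable abbrev Grp : Subgroup (Perm (Fin 276)) := genG 276 mLetters

theorem valid : Valid 276 mLetters := valid_of_perms m_perm.1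

theorem table : TableOK 276 mChain mLetters := table_of m_table

theorem closed : prodSet 276 mChain = genG 276 mLetters ∧ Nat.card Grp = 495766656000 ∧
    Grp = genG 276 CfsgLeech.Models.co3Rigid.gens := by
  obtain ⟨hv, ⟨-, -, hc⟩, -⟩ := CfsgLeech.Models.co3_model
  have hle : genG 276 mLetters ≤ genG 276 CfsgLeech.Models.co3Rigid.gens :=
    genG_le m_perm.1 fun a ha => mem_table (by norm_num) CfsgLeech.Models.co3_table hv m_perm.1 m_sift.1 ha
  have h3 : Nat.card (genG 276 CfsgLeech.Models.co3Rigid.gens) = 495766656000 :=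
    hc.trans CfsgLeech.Models.co3_size
  have hup : Nat.card (genG 276 mLetters) ≤ 495766656000 :=
    (Nat.card_le_card_of_injective _ (inclusion_injective hle)).trans h3.le
  obtain ⟨he, hcard⟩ := table_eq (by norm_num) table valid (hup.trans m_sift.2.1.ge)
  rw [m_sift.2.1] at hcard
  exact ⟨he, hcard, eq_of_le_of_card_ge hle (h3.trans hcard.symm).le⟩

theorem bases_lt : ∀ b ∈ mBases, b < 276 := fun b hb => by
  have := List.all_eq_true.mp m_sift.2.2 b hb
  rwa [Nat.blt_eq] at this

end CfsgLib.Co3Recog.M
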