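/-
The centraliser of the involution as a group of permutations.
-/
import Cfsg.Agent.Lib.Co3Recog.Elements
import Cfsg.Agent.Lib.Co3Recog.ChecksX
import Cfsg.Agent.Lib.Co3Recog.MBase
import Cfsg.Agent.Lib.Co3Recog.Cover
import Cfsg.Agent.Lib.StemSylow.SpSixModel
import Cfsg.Agent.Lib.SympSimple
import Cfsg.Prelude.Def_SporadicB

set_option autoImplicit false
set_option linter.unusedSectionVars false
set_option linter.style.haveILetI false
set_option maxRecDepth 30000

namespace CfsgLib.Co3Recog.X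

open Equiv Subgroup CfsgPC Base Data
open scoped commutatorElement

attribute [local irreducible] xGens xInv xLetters xChain kChain pChain sGens sInv sChain qsList qsPar qsNext
  smallImg smallLifts zComm zC sC uC rootZ uWords sylCert StemSylow.SpSixData.smallChain
  StemSylow.SpSixData.smallGens EnumH.rels EnumG.rels

/-- The group. -/
noncomputable abbrev Grp : Subgroup (Perm (Fin 339)) := genG 339 xGens

theorem valid : Valid 339 xGens := valid_of_perms x_perm.1

theorem table : TableOK 339 xChain xGens := table_of x_table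

theorem xpts_ok : (xPts.all fun i => Nat.blt i 339) = true ∧ mBases = [0, 1, 2, 3, 4, 5] := by decide +kernel

theorem xInM_eq : xInM = [ml 0, ml 1, ml 2, ml 3, ml 4, ml 6] := rfl

/-- An element fixing the chosen points is trivial. -/
theorem faith : Faith 339 xPts Grp := by
  refine ⟨fun i hi => ?_, fun g hg hfix => ?_⟩
  · have := List.all_eq_true.mp xpts_ok.1 i hi
    rwa [Nat.blt_eq] at this
  obtain ⟨f, hr, hf, -⟩ := exists_block_hom (n := 339) (m := 276) (off := 0) (by norm_num) x_perm.1 m_perm.2.2.2.1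
    m_block
  have hfi : ∀ i : Fin 276, (g ⟨i, by omega⟩ : ℕ) = (f ⟨g, hg⟩ i : ℕ) := fun i => by
    have := hf ⟨g, hg⟩ i
    simpa using this
  obtain ⟨f', hr', hf', -⟩ := exists_block_hom (n := 339) (m := 63) (off := 276) (by norm_num) x_perm.1
    x_perm.2.2.2.2.2.2.2.2 x_block63.1
  have hm : f ⟨g, hg⟩ = 1 := by
    have hle : genG 276 xInM ≤ M.Grp := genG_le m_perm.2.2.2.1 fun a ha => by
      have ha6 : a < 6 := ha
      have e : el 276 xInM a = el 276 mLetters ([0, 1, 2, 3, 4, 6].getD a 0) := by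
        rw [el, el, xInM_eq]
        interval_cases a <;> rfl
      rw [e]
      exact el_mem_gen m_perm.1
        (m_perm.2.1.symm ▸ (by decide : ∀ a < 6, [0, 1, 2, 3, 4, 6].getD a 0 < 7) a ha6)
    refine faithful (by norm_num) M.table M.valid _ (M.closed.1 ▸ hle (hr ▸ ⟨⟨g, hg⟩, rfl⟩)) fun i hi => Fin.ext ?_
    have hi' : (i : ℕ) ∈ mBases := hi
    rw [xpts_ok.2] at hi'
    have := hfix ⟨i, by omega⟩ (List.mem_append_left _ hi')
    rw [← hfi i, this]
  have hs : f' ⟨g, hg⟩ = 1 := by
    have hle : genG 63 smallImg ≤ genG 63 StemSylow.SpSixData.smallGens :=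
      genG_le x_perm.2.2.2.2.2.2.2.2 fun a ha => mem_table (by norm_num) StemSylow.SpSix.table_small
        StemSylow.SpSix.valid_small x_perm.2.2.2.2.2.2.2.2 x_small.1 ha
    refine faithful (by norm_num) StemSylow.SpSix.table_small StemSylow.SpSix.valid_small _
      (StemSylow.SpSix.small_group.1 ▸ hle (hr' ▸ ⟨⟨g, hg⟩, rfl⟩)) fun i hi => Fin.ext ?_
    have := hf' ⟨g, hg⟩ i
    rw [hfix ⟨276 + i, by omega⟩ (List.mem_append_right _ (List.mem_map.mpr ⟨i, hi, rfl⟩))] at this
    have : 276 + (i : ℕ) = 276 + (f' ⟨g, hg⟩ i : ℕ) := this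
    omega
  refine Equiv.ext fun i => Fin.ext ?_
  by_cases h : (i : ℕ) < 276
  · have := hfi ⟨i, h⟩
    rw [hm] at this
    simpa using this
  · have := hf' ⟨g, hg⟩ ⟨i - 276, by omega⟩
    rw [hs] at this
    have e : (⟨276 + ((i : ℕ) - 276), by omega⟩ : Fin 339) = i := Fin.ext (by show 276 + _ = _; omega)
    simp only [e, Perm.one_apply] at this ⊢
    omega

theorem closed : prodSet 339 xChain = genG 339 xGens ∧ Nat.card Grp = 2903040 := by
  have h := closed_ofF (by norm_num) faith valid le_rfl x_table x_closed_all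
  rw [x_sizes.2.1] at h
  exact h

theorem bases_lt : ∀ b ∈ xBases, b < 276 := fun b hb => by
  have := List.all_eq_true.mp x_sizes.2.2 b hb
  rwa [Nat.blt_eq] at this

theorem bases_lt' : ∀ b ∈ xBases, b < 339 := fun b hb => (bases_lt b hb).trans (by norm_num)

/-- A function describes an element. -/
abbrev Fx (f : ℕ → ℕ) (g : Grp) : Prop := Fn 339 f (g : Perm (Fin 339))

theorem faith_bases : Faith 339 xBases Grp := ⟨bases_lt', fun g hg h =>
  faithful (by norm_num) table valid g (closed.1 ▸ hg) h⟩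

theorem eqX {f f' : ℕ → ℕ} {g h : Grp} (e : eqB xBases f f' = true) (hf : Fx f g) (hf' : Fx f' h) : g = h :=
  Subtype.ext (eq_of_eqB (by norm_num) table valid closed.1 g.2 h.2 e hf hf')

theorem neX {f f' : ℕ → ℕ} {g h : Grp} (e : eqB xBases f f' = false) (hf : Fx f g) (hf' : Fx f' h) : g ≠ h :=
  fun h' => Fn.ne_of_false bases_lt' hf hf' e (congrArg Subtype.val h')

theorem neX' {f f' : ℕ → ℕ} {g h : Grp} (e : (!eqB xBases f f') = true) (hf : Fx f g) (hf' : Fx f' h) : g ≠ h :=
  neX (by simpa using e) hf hf'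

theorem eqB_iff {f f' : ℕ → ℕ} {g h : Grp} (hf : Fx f g) (hf' : Fx f' h) : eqB xBases f f' = true ↔ g = h :=
  ⟨fun e => eqX e hf hf', fun e => Fn.eqB_of_eq bases_lt' hf hf' (congrArg Subtype.val e)⟩

theorem Fx.mul {f f' : ℕ → ℕ} {g h : Grp} (hf : Fx f g) (hf' : Fx f' h) : Fx (fun b => f (f' b)) (g * h) :=
  Fn.mul hf hf'

theorem Fx.one : Fx id (1 : Grp) := Fn.one

open Classical in
/-- The element of a code. -/
noncomputable def xe (c : ℕ) : Grp := if h : decP 339 c ∈ Grp then ⟨_, h⟩ else 1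

theorem xe_spec {c ci : ℕ} (hp : isPerm 339 c ci = true) (hs : sift 339 xChain c = true) : Fx (ap c) (xe c) := by
  have hm : decP 339 c ∈ Grp := mem_of_sift (by norm_num) table valid _ _ (decP_rep hp) hs
  rw [Fx, xe, dif_pos hm]
  exact decP_rep hp

theorem xe_of_mem {c : ℕ} (hm : decP 339 c ∈ Grp) : (xe c : Perm (Fin 339)) = decP 339 c := by
  rw [xe, dif_pos hm]

/-- A generator. -/
noncomputable def gen (a : ℕ) : Grp := xe (xGens.getD a 0)

theorem gens_len : xGens.length = 6 := by decide +kernel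

theorem gen_spec {a : ℕ} (ha : a < 6) : (gen a : Perm (Fin 339)) = el 339 xGens a ∧ Fx (ap (xGens.getD a 0)) (gen a) := by
  have hlt : a < xGens.length := gens_len.symm ▸ ha
  have hm : decP 339 (xGens.getD a 0) ∈ Grp := el_mem_gen x_perm.1 hlt
  refine ⟨xe_of_mem hm, ?_⟩
  rw [Fx, gen, xe_of_mem hm]
  exact rep_el x_perm.1 hlt

/-- The central involution. -/
noncomputable def z : Grp := xe zC.1

/-- The fused involution. -/
noncomputable def s : Grp := xe sC.1

/-- The other involution. -/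
noncomputable def u : Grp := xe uC.1

/-- A square root of the central involution. -/
noncomputable def rz : Grp := xe rootZ.1

theorem named_sift : sift 339 xChain zC.1 = true ∧ sift 339 xChain sC.1 = true ∧ sift 339 xChain uC.1 = true ∧
    sift 339 xChain rootZ.1 = true := by
  have h := List.all_eq_true.mp x_sift.1
  exact ⟨h _ (by simp), h _ (by simp), h _ (by simp), h _ (by simp)⟩

theorem z_spec : Fx (ap zC.1) z := xe_spec x_perm.2.1 named_sift.1

theorem s_spec : Fx (ap sC.1) s := xe_spec x_perm.2.2.1 named_sift.2.1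

theorem u_spec : Fx (ap uC.1) u := xe_spec x_perm.2.2.2.1 named_sift.2.2.1

theorem rz_spec : Fx (ap rootZ.1) rz := xe_spec x_perm.2.2.2.2.1 named_sift.2.2.2

theorem basic : z ≠ 1 ∧ z * z = 1 ∧ s ≠ 1 ∧ s ≠ z ∧ s * s = 1 ∧ u ≠ 1 ∧ u * u = 1 ∧ rz * rz = z ∧
    rz * u = u * rz := by
  obtain ⟨-, h1, h2, -⟩ := z_ok
  obtain ⟨-, -, -, hu2, hs1, hsz, hs2, hu1⟩ := qs_fix
  exact ⟨neX h1 z_spec Fx.one, eqX h2 (z_spec.mul z_spec) Fx.one, neX hs1 s_spec Fx.one, neX hsz s_spec z_spec,
    eqX hs2 (s_spec.mul s_spec) Fx.one, neX hu1 u_spec Fx.one, eqX hu2 (u_spec.mul u_spec) Fx.one,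
    eqX rootZ_ok.1 (rz_spec.mul rz_spec) z_spec, eqX rootZ_ok.2 (rz_spec.mul u_spec) (u_spec.mul rz_spec)⟩

/-- The action on the first 276 points. -/
theorem exists_cut : ∃ f : Grp →* Perm (Fin 276), Function.Injective f ∧
    ∀ (g : Grp) (i : Fin 276), ((g : Perm (Fin 339)) ⟨i, by omega⟩ : ℕ) = (f g i : ℕ) := by
  obtain ⟨f, -, hf, -⟩ := exists_block_hom (n := 339) (m := 276) (off := 0) (by norm_num) x_perm.1 x_block63.2.2
    x_block63.2.1
  have hfi : ∀ (g : Grp) (i : Fin 276), ((g : Perm (Fin 339)) ⟨i, by omega⟩ : ℕ) = (f g i : ℕ) := fun g i => by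
    have := hf g i
    simpa using this
  refine ⟨f, (injective_iff_map_eq_one f).mpr fun g hg => Subtype.ext ?_, hfi⟩
  refine faithful (by norm_num) table valid _ (closed.1 ▸ g.2) fun i hi => Fin.ext ?_
  have := hfi g ⟨i, bases_lt _ hi⟩
  rw [hg] at this
  simpa using this

/-- The quotient by the central involution. -/
theorem exists_proj : ∃ σ : Grp →* genG 63 StemSylow.SpSixData.smallGens, Cfsg.IsStemExtension σ ∧
    Nat.card σ.ker = 2 ∧ z ∈ σ.ker := by
  have hp63 := x_perm.2.2.2.2.2.2.2.2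
  obtain ⟨f, hr, hf, -⟩ := exists_block_hom (n := 339) (m := 63) (off := 276) (by norm_num) x_perm.1 hp63 x_block63.1
  have hsmall := StemSylow.SpSix.table_small
  have hvs := StemSylow.SpSix.valid_small
  obtain ⟨hs63, hlen, hlift⟩ := x_small
  have hle : genG 63 smallImg ≤ genG 63 StemSylow.SpSixData.smallGens :=
    genG_le hp63 fun a ha => mem_table (by norm_num) hsmall hvs hp63 hs63 ha
  have hge : genG 63 StemSylow.SpSixData.smallGens ≤ f.range := by
    rw [genG, closure_le]
    rintro g ⟨c, hc, hg⟩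
    obtain ⟨a, ha, rfl⟩ := List.getElem_of_mem hc
    have ha2 : a < 2 := by
      have : StemSylow.SpSixData.smallGens.length = 2 := StemSylow.SpSixData.perm_ok.2.2.1
      rwa [this] at ha
    have hmem : smallLifts.getD a (0, 0) ∈ smallLifts := by
      rw [List.getD_eq_getElem _ _ (hlen.symm ▸ ha2)]; exact List.getElem_mem _
    have hF : Fx (ap (smallLifts.getD a (0, 0)).1) (xe (smallLifts.getD a (0, 0)).1) :=
      xe_spec (List.all_eq_true.mp x_perm.2.2.2.2.2.1 _ hmem)
        (List.all_eq_true.mp x_sift.2.2.1 _ (List.mem_map_of_mem hmem))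
    refine ⟨xe (smallLifts.getD a (0, 0)).1, Equiv.ext fun i => Fin.ext ?_⟩
    have e := List.all_eq_true.mp (List.all_eq_true.mp hlift a (List.mem_range.mpr ha2)) i (List.mem_range.mpr i.2)
    have e2 := hF ⟨276 + i, by omega⟩
    rw [show ap (smallLifts.getD a (0, 0)).1 ((⟨276 + i, by omega⟩ : Fin 339) : ℕ) =
      276 + ap (StemSylow.SpSixData.smallGens.getD a 0) i from Nat.eq_of_beq_eq_true e, hf,
      List.getD_eq_getElem _ _ ha, hg i] at e2
    omega
  let σ : Grp →* genG 63 StemSylow.SpSixData.smallGens := f.codRestrict _ fun g => hle (hr ▸ ⟨g, rfl⟩)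
  have hsurj : Function.Surjective σ := fun g => by
    obtain ⟨x, hx⟩ := hge g.2
    exact ⟨x, Subtype.ext hx⟩
  have hcard : Nat.card σ.ker = 2 := by
    have h := σ.ker.card_mul_index
    rw [index_ker, MonoidHom.range_eq_top.mpr hsurj, card_top, StemSylow.SpSix.small_group.2.1, closed.2] at h
    omega
  have hzk : z ∈ σ.ker := by
    refine MonoidHom.mem_ker.mpr (Subtype.ext (Equiv.ext fun i => Fin.ext ?_))
    have e := Nat.eq_of_beq_eq_true (List.all_eq_true.mp z_ok.1 i (List.mem_range.mpr i.2))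
    have e2 := z_spec ⟨276 + i, by omega⟩
    rw [show ap zC.1 ((⟨276 + i, by omega⟩ : Fin 339) : ℕ) = 276 + i from e, hf] at e2
    show (f z i : ℕ) = i
    omega
  obtain ⟨hz1, -⟩ := basic
  have hker : ∀ x ∈ σ.ker, x = 1 ∨ x = z := fun x hx => by
    obtain ⟨a, b, hab, huniv⟩ := Nat.card_eq_two_iff.mp hcard
    have hmem : ∀ y : σ.ker, y = a ∨ y = b := fun y => by
      have := (Set.eq_univ_iff_forall.mp huniv) y
      simpa using this
    have hne : (1 : σ.ker) ≠ ⟨z, hzk⟩ := fun h => hz1 (congrArg Subtype.val h).symm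
    rcases hmem ⟨x, hx⟩ with h1 | h1 <;> rcases hmem 1 with h2 | h2 <;> rcases hmem ⟨z, hzk⟩ with h3 | h3
    all_goals first
      | exact absurd (h2.trans h3.symm) hne
      | exact Or.inl (congrArg Subtype.val (h1.trans h2.symm))
      | exact Or.inr (congrArg Subtype.val (h1.trans h3.symm))
  have hzc : z ∈ center Grp := by
    have hcl : (z : Perm (Fin 339)) ∈ centralizer (Grp : Set (Perm (Fin 339))) := by
      show _ ∈ centralizer ((closure {g | ∃ c ∈ xGens, Rep 339 c g} : Subgroup (Perm (Fin 339))) : Set (Perm (Fin 339)))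
      rw [centralizer_closure, mem_centralizer_iff]
      rintro g ⟨c, hc, hg⟩
      have hm : g ∈ Grp := subset_closure ⟨c, hc, hg⟩
      exact congrArg Subtype.val (eqX (List.all_eq_true.mp z_ok.2.2.2.1 c hc)
        ((show Fx (ap c) ⟨g, hm⟩ from hg).mul z_spec) (z_spec.mul (show Fx (ap c) ⟨g, hm⟩ from hg)))
    exact mem_center_iff.mpr fun g => Subtype.ext (mem_centralizer_iff.mp hcl g g.2)
  have hzd : z ∈ commutator Grp := by
    obtain ⟨-, -, -, -, hl, hz⟩ := z_ok
    have hmem : ∀ i < 2, zComm.getD i (0, 0) ∈ zComm := fun i hi => by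
      rw [List.getD_eq_getElem _ _ (hl.symm ▸ hi)]; exact List.getElem_mem _
    have hF : ∀ i < 2, isPerm 339 (zComm.getD i (0, 0)).1 (zComm.getD i (0, 0)).2 = true ∧
        Fx (ap (zComm.getD i (0, 0)).1) (xe (zComm.getD i (0, 0)).1) := fun i hi =>
      ⟨List.all_eq_true.mp x_perm.2.2.2.2.2.2.1 _ (hmem i hi), xe_spec (List.all_eq_true.mp x_perm.2.2.2.2.2.2.1 _ (hmem i hi))
        (List.all_eq_true.mp x_sift.2.2.2 _ (List.mem_map_of_mem (hmem i hi)))⟩
    obtain ⟨hp0, h0⟩ := hF 0 (by norm_num)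
    obtain ⟨hp1, h1⟩ := hF 1 (by norm_num)
    have i0 : Fx (ap (zComm.getD 0 (0, 0)).2) (xe (zComm.getD 0 (0, 0)).1)⁻¹ := fun i =>
      rep_inv (by norm_num) h0 hp0 i
    have i1 : Fx (ap (zComm.getD 1 (0, 0)).2) (xe (zComm.getD 1 (0, 0)).1)⁻¹ := fun i =>
      rep_inv (by norm_num) h1 hp1 i
    have e : xe (zComm.getD 0 (0, 0)).1 * (xe (zComm.getD 1 (0, 0)).1 *
        ((xe (zComm.getD 0 (0, 0)).1)⁻¹ * (xe (zComm.getD 1 (0, 0)).1)⁻¹)) = z :=
      eqX hz (h0.mul (h1.mul (i0.mul i1))) z_spec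
    rw [← e, ← mul_assoc, ← mul_assoc, ← commutatorElement_def, _root_.commutator_def]
    exact Subgroup.commutator_mem_commutator (mem_top _) (mem_top _)
  refine ⟨σ, ⟨hsurj, fun x hx => ?_, fun x hx => ?_⟩, hcard, hzk⟩
  · rcases hker x hx with rfl | rfl
    · exact one_mem _
    · exact hzc
  · rcases hker x hx with rfl | rfl
    · exact one_mem _
    · exact hzd

theorem small_props : commutator (genG 63 StemSylow.SpSixData.smallGens) = ⊤ ∧
    center (genG 63 StemSylow.SpSixData.smallGens) = ⊥ ∧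
    Nonempty (Matrix.symplecticGroup (Fin 3) (ZMod 2) ≃* genG 63 StemSylow.SpSixData.smallGens) ∧
    commutator (Matrix.symplecticGroup (Fin 3) (ZMod 2)) = ⊤ := by
  let e : Matrix.symplecticGroup (Fin 3) (ZMod 2) ≃* genG 63 StemSylow.SpSixData.smallGens :=
    (MonoidHom.ofInjective StemSylow.SpSix.phi_injective).trans
      (MulEquiv.subgroupCongr StemSylow.SpSix.small_group.2.2)
  have hperf : commutator (Matrix.symplecticGroup (Fin 3) (ZMod 2)) = ⊤ :=
    CfsgLib.SympSimple.perfect_fintype (Or.inl le_rfl)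
  refine ⟨?_, ?_, ⟨e⟩, hperf⟩
  · have h := congrArg (Subgroup.map e.toMonoidHom) hperf
    rw [_root_.commutator_def, map_commutator, map_top_of_surjective _ e.surjective] at h
    rw [_root_.commutator_def]
    exact h
  · refine eq_bot_iff.mpr fun x hx => ?_
    have hc : e.symm x ∈ center (Matrix.symplecticGroup (Fin 3) (ZMod 2)) :=
      mem_center_iff.mpr fun g => e.injective (by
        rw [map_mul, map_mul, e.apply_symm_apply]
        exact mem_center_iff.mp hx (e g))
    have hb : center (Matrix.symplecticGroup (Fin 3) (ZMod 2)) = ⊥ := Subgroup.eq_bot_of_card_eq _ (by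
      rw [CfsgLib.SympTransvection.card_center (F := ZMod 2) (m := 3) (by norm_num), ZMod.card]; norm_num)
    rw [hb, mem_bot] at hc
    rw [mem_bot, ← e.apply_symm_apply x, hc, map_one]

/-- The model is the centraliser in any group satisfying the hypothesis. -/
theorem exists_model {G : Type} [Group G] [Finite G] (t : G) (ht : orderOf t = 2)
    (hC : Cfsg.IsNonsplitDoubleCover (centralizer ({t} : Set G)) (Matrix.symplecticGroup (Fin 3) (ZMod 2))) :
    ∃ ψ : Grp →* G, Function.Injective ψ ∧ ψ.range = centralizer ({t} : Set G) ∧ ψ z = t := by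
  obtain ⟨hperfK, hcenK, ⟨e⟩, hperfL⟩ := small_props
  obtain ⟨σ₁, hσ₁, hk₁, hzk⟩ := exists_proj
  obtain ⟨σ₂, hσ₂, hk₂⟩ := Cover.stem_of_double hperfL hC e
  obtain ⟨f⟩ := Cover.equiv_of_stem hperfK hσ₁ hσ₂ hk₁ hk₂ fun Γ _ _ σ hσ => by
    obtain ⟨w, hw, hw2, hle⟩ := StemSylow.SpSix.ker_small hσ
    calc Nat.card σ.ker ≤ Nat.card (zpowers w) := Nat.card_le_card_of_injective _ (inclusion_injective hle)
      _ = orderOf w := Nat.card_zpowers w
      _ ≤ 2 := Nat.le_of_dvd (by norm_num) (orderOf_dvd_of_pow_eq_one hw2)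
  refine ⟨(centralizer ({t} : Set G)).subtype.comp f.toMonoidHom, (subtype_injective _).comp f.injective, ?_, ?_⟩
  · rw [MonoidHom.range_comp, MonoidHom.range_eq_top.mpr f.surjective, ← MonoidHom.range_eq_map, range_subtype]
  · let tC : centralizer ({t} : Set G) := ⟨t, mem_centralizer_singleton_iff.mpr rfl⟩
    have htc : tC ∈ center (centralizer ({t} : Set G)) :=
      mem_center_iff.mpr fun g => Subtype.ext (mem_centralizer_singleton_iff.mp g.2)
    have hfz : f z ∈ center (centralizer ({t} : Set G)) := mem_center_iff.mpr fun g => by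
      rw [← f.apply_symm_apply g, ← map_mul, ← map_mul, mem_center_iff.mp (hσ₁.2.1 hzk) (f.symm g)]
    have h2 := hC.1
    rw [Nat.card_eq_two_iff] at h2
    obtain ⟨a, b, hab, huniv⟩ := h2
    have hmem : ∀ x : center (centralizer ({t} : Set G)), x = a ∨ x = b := fun x => by
      have := (Set.eq_univ_iff_forall.mp huniv) x
      simpa using this
    have ht1 : tC ≠ 1 := fun h => by
      have : t = 1 := congrArg Subtype.val h
      rw [this, orderOf_one] at ht
      omega
    have hfz1 : f z ≠ 1 := fun h => basic.1 (f.injective (h.trans (map_one f).symm))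
    have key : (⟨f z, hfz⟩ : center (centralizer ({t} : Set G))) = ⟨tC, htc⟩ := by
      rcases hmem ⟨f z, hfz⟩ with h1 | h1 <;> rcases hmem ⟨tC, htc⟩ with h3 | h3 <;>
        rcases hmem 1 with h4 | h4
      all_goals first
        | exact h1.trans h3.symm
        | exact absurd (congrArg Subtype.val (h1.trans h4.symm)) hfz1
        | exact absurd (congrArg Subtype.val (h3.trans h4.symm)) ht1
    exact congrArg (fun x : center (centralizer ({t} : Set G)) => ((x : centralizer ({t} : Set G)) : G)) key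

end CfsgLib.Co3Recog.X
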