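/-
Fusion of involutions in a group with this centraliser of an involution.
-/
import Cfsg.Agent.Lib.Co3Recog.X
import Cfsg.Agent.Lib.Co3Recog.ChecksA
import Cfsg.Agent.Lib.ZStar.Main
import Cfsg.Prelude.Def_IsolatedElements

set_option autoImplicit false
set_option linter.unusedSectionVars false
set_option linter.style.haveILetI false
set_option maxRecDepth 30000
set_option maxHeartbeats 1000000

namespace CfsgLib.Co3Recog.X

open Equiv Subgroup CfsgPC Base Data

attribute [local irreducible] xGens xInv xLetters xChain kChain pChain sGens sInv sChain qsList qsPar qsNext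
  smallImg smallLifts zComm zC sC uC rootZ uWords sylCert aElems dGens dInv dChain

theorem comm_conj {H : Type*} [Group H] {a b c g : H} (h : Commute a b) (hg : g * b * g⁻¹ = c) :
    Commute (g * a * g⁻¹) c := by
  subst hg
  exact h.map (MulAut.conj g).toMonoidHom

theorem conj_move {H : Type*} [Group H] {a b k : H} (h : k * a * k⁻¹ = b) : k⁻¹ * b * k = a := by
  subst h
  group

theorem comm_unconj {H : Type*} [Group H] {a b c k : H} (h : Commute a b) (hk : k * c * k⁻¹ = b) :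
    Commute (k⁻¹ * a * k) c := by
  have := comm_conj (g := k⁻¹) h (by simpa using conj_move hk)
  simpa using this

theorem perms_self : permsB 339 xGens xGens = true := by decide +kernel

theorem gen_sq {a : ℕ} (ha : a < 6) : gen a * gen a = 1 := by
  have hF := (gen_spec ha).2
  refine eqX ?_ (hF.mul hF) Fx.one
  simp only [eqB, List.all_eq_true]
  intro b hb
  exact List.all_eq_true.mp (List.all_eq_true.mp x_invol a (List.mem_range.mpr ha)) b
    (List.mem_range.mpr (bases_lt' b hb))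

theorem gen_ind {p : Grp → Prop} (hg : ∀ a < 6, p (gen a)) (h1 : p 1) (hm : ∀ x y, p x → p y → p (x * y))
    (hi : ∀ x, p x → p x⁻¹) (x : Grp) : p x := by
  obtain ⟨g, hg'⟩ := x
  induction hg' using closure_induction with
  | mem g h =>
    obtain ⟨c, hc, hcg⟩ := h
    obtain ⟨a, ha, rfl⟩ := List.getElem_of_mem hc
    have ha6 : a < 6 := gens_len ▸ ha
    have e : g = gen a := by
      refine hcg.unique ?_
      rw [← List.getD_eq_getElem _ 0 ha]
      exact (gen_spec ha6).2
    convert hg a ha6 using 1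
    exact Subtype.ext e
  | one => exact h1
  | mul a b ha hb iha ihb => exact hm _ _ iha ihb
  | inv a ha iha => exact hi _ iha

/-- An entry of the class. -/
noncomputable def qx (i : ℕ) : Grp := xe (qc i)

theorem qx_spec : ∀ i < 630, Fx (ap (qc i)) (qx i) ∧ IsConj s (qx i) := by
  intro i
  induction i using Nat.strongRecOn with
  | ind i ih =>
    intro hi
    have key : ∃ g : Grp, Fx (ap (qc i)) g ∧ IsConj s g := by
      by_cases h0 : i = 0
      · subst h0
        refine ⟨s, ?_, IsConj.refl _⟩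
        rw [Nat.eq_of_beq_eq_true qs_ok.2]
        exact s_spec
      · have h := List.all_eq_true.mp qs_step i (List.mem_range.mpr hi)
        rw [Bool.or_eq_true] at h
        rcases h with h | h
        · exact absurd (Nat.eq_of_beq_eq_true h) h0
        simp only [qsStepB, Bool.and_eq_true, List.all_eq_true, List.mem_range, Nat.blt_eq] at h
        obtain ⟨⟨hp, hj⟩, hall⟩ := h
        obtain ⟨hF, hc⟩ := ih _ hp (hp.trans hi)
        have hg := (gen_spec hj).2
        refine ⟨gen (qsPar.getD i (0, 0)).2 * (qx (qsPar.getD i (0, 0)).1 * gen (qsPar.getD i (0, 0)).2),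
          fun b => ?_, hc.trans (isConj_iff.mpr ⟨gen (qsPar.getD i (0, 0)).2, ?_⟩)⟩
        · rw [Nat.eq_of_beq_eq_true (hall b b.2)]
          exact (hg.mul (hF.mul hg)) b
        · rw [inv_eq_of_mul_eq_one_right (gen_sq hj), mul_assoc]
    obtain ⟨g, hF, hc⟩ := key
    have e : qx i = g := Subtype.ext (by
      rw [qx, xe_of_mem (by rw [decP_eq hF]; exact g.2)]
      exact decP_eq hF)
    exact e ▸ ⟨hF, hc⟩

theorem qx_class {x : Grp} (hx : IsConj s x) : ∃ i < 630, x = qx i := by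
  obtain ⟨h, rfl⟩ := isConj_iff.mp hx
  have key : ∀ h : Grp, (∀ i < 630, ∃ j < 630, h * qx i * h⁻¹ = qx j) ∧
      ∀ i < 630, ∃ j < 630, h⁻¹ * qx i * (h⁻¹)⁻¹ = qx j := by
    refine gen_ind (fun a ha => ?_) ?_ ?_ ?_
    · have hstep : ∀ i < 630, ∃ j < 630, gen a * qx i * (gen a)⁻¹ = qx j := fun i hi => by
        have h := List.all_eq_true.mp (List.all_eq_true.mp qs_next i (List.mem_range.mpr hi)) a (List.mem_range.mpr ha)
        simp only [Bool.and_eq_true, Nat.blt_eq] at h
        refine ⟨_, h.1, ?_⟩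
        have hg := (gen_spec ha).2
        rw [inv_eq_of_mul_eq_one_right (gen_sq ha), mul_assoc]
        exact (eqX h.2 (qx_spec _ h.1).1 (hg.mul ((qx_spec i hi).1.mul hg))).symm
      exact ⟨hstep, by rw [inv_eq_of_mul_eq_one_right (gen_sq ha)]; exact hstep⟩
    · exact ⟨fun i hi => ⟨i, hi, by simp⟩, fun i hi => ⟨i, hi, by simp⟩⟩
    · intro x y hx hy
      refine ⟨fun i hi => ?_, fun i hi => ?_⟩
      · obtain ⟨j, hj, e⟩ := hy.1 i hi
        obtain ⟨k, hk, e'⟩ := hx.1 j hj
        exact ⟨k, hk, by rw [← e', ← e]; group⟩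
      · obtain ⟨j, hj, e⟩ := hx.2 i hi
        obtain ⟨k, hk, e'⟩ := hy.2 j hj
        exact ⟨k, hk, by rw [← e', ← e]; group⟩
    · intro x hx
      exact ⟨hx.2, by simpa using hx.1⟩
  have h0 : qx 0 = s := Subtype.ext ((qx_spec 0 (by norm_num)).1 |>.unique (by
    rw [Nat.eq_of_beq_eq_true qs_ok.2]; exact s_spec))
  obtain ⟨j, hj, e⟩ := (key h).1 0 (by norm_num)
  exact ⟨j, hj, by rw [← e, h0]⟩

theorem qx_inj {i j : ℕ} (hi : i < 630) (hj : j < 630) (e : qx i = qx j) : i = j := by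
  refine ((nodup_of_nodupB qs_distinct).getElem_inj_iff (hi := by simpa using hi) (hj := by simpa using hj)).mp ?_
  simp only [List.getElem_map, List.getElem_range]
  refine keyB_congr fun b hb => ?_
  rw [(qx_spec i hi).1 ⟨b, bases_lt' b hb⟩, (qx_spec j hj).1 ⟨b, bases_lt' b hb⟩, e]

/-- The fixed points among the first 276. -/
noncomputable def num (g : Grp) : ℕ := fixNum (exists_cut.choose g)

theorem num_eq {f : ℕ → ℕ} {g : Grp} (hf : Fx f g) : fixCount 276 f = num g :=
  fixCount_eq fun i => (hf ⟨i, by omega⟩).trans (exists_cut.choose_spec.2 g i)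

theorem num_conj {g h : Grp} (hc : IsConj g h) : num h = num g := by
  obtain ⟨c, rfl⟩ := isConj_iff.mp hc
  rw [num, map_mul, map_mul, map_inv]
  exact fixNum_conj _ _

theorem num_named : num z = 36 ∧ num u = 12 ∧ num s = 36 := by
  obtain ⟨h, h1, h2, -⟩ := qs_fix
  refine ⟨(num_eq z_spec).symm.trans h1, (num_eq u_spec).symm.trans h2, ?_⟩
  have h0 := Nat.eq_of_beq_eq_true (List.all_eq_true.mp h 0 (List.mem_range.mpr (by norm_num)))
  rw [Nat.eq_of_beq_eq_true qs_ok.2] at h0
  exact (num_eq s_spec).symm.trans h0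

/-- The Sylow subgroup. -/
noncomputable def syl : Subgroup Grp := (genG 339 sGens).subgroupOf Grp

theorem syl_facts : Nat.card syl = 1024 ∧ prodSet 339 sChain = genG 339 sGens := by
  obtain ⟨ht, hall, hs⟩ := s_table_low
  have hp := x_perm.2.2.2.2.2.2.2.1
  have hle : genG 339 sGens ≤ Grp := genG_le hp fun a ha => mem_table (by norm_num) table valid hp x_sift.2.1 ha
  have h := closed_ofF (by norm_num) faith_bases (valid_of_perms hp) hle ht hall
  rw [hs] at h
  exact ⟨by rw [syl, Nat.card_congr (subgroupOfEquivOfLe hle).toEquiv, h.2], h.1⟩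

theorem syl_scan {e : Grp} (he : e ∈ syl) : ∃ ix c, sylB (ix, c) = true ∧ ix ∈ allIdx sChain ∧ Fx (evalT sChain ix) e := by
  have hm : (e : Perm (Fin 339)) ∈ prodSet 339 sChain := by rw [syl_facts.2]; exact he
  obtain ⟨ix, hix, he'⟩ := exists_idx _ hm
  obtain ⟨p, hp, rfl⟩ := List.getElem_of_mem hix
  have hz : p < ((allIdx sChain).zip sylCert).length := by rw [List.length_zip, syl_len, min_self]; exact hp
  refine ⟨_, sylCert[p]'(syl_len ▸ hp), List.all_eq_true.mp syl_ok _ ?_, hix, he'⟩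
  rw [show ((allIdx sChain)[p], sylCert[p]'(syl_len ▸ hp)) = ((allIdx sChain).zip sylCert)[p]'hz from
    List.getElem_zip.symm]
  exact List.getElem_mem hz

theorem syl_class {e : Grp} (he : e ∈ syl) :
    (e * e = 1 → e = 1 ∨ e = z ∨ IsConj s e ∨ IsConj u e) ∧
      (e * e ≠ 1 → e * e * (e * e) = 1 → e * e = z ∨ IsConj s (e * e)) := by
  obtain ⟨ix, ⟨tag, i, w⟩, hB, -, hF⟩ := syl_scan he
  obtain ⟨hz1, hz2, hs1, -, hs2, hu1, hu2, -⟩ := basic
  simp only [sylB] at hB
  split at hB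
  · obtain rfl := eqX hB hF Fx.one
    exact ⟨fun _ => Or.inl rfl, fun h => absurd (mul_one 1) h⟩
  · obtain rfl := eqX hB hF z_spec
    exact ⟨fun _ => Or.inr (Or.inl rfl), fun h => absurd hz2 h⟩
  · simp only [Bool.and_eq_true, Nat.blt_eq] at hB
    obtain ⟨hF', hc⟩ := qx_spec i hB.1
    obtain rfl := eqX hB.2 hF hF'
    refine ⟨fun _ => Or.inr (Or.inr (Or.inl hc)), fun h => absurd ?_ h⟩
    obtain ⟨c, hc⟩ := isConj_iff.mp hc
    rw [← hc, show c * s * c⁻¹ * (c * s * c⁻¹) = c * (s * s) * c⁻¹ by group, hs2]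
    group
  · simp only [Bool.and_eq_true] at hB
    have hl : ltB xGens.length w = true := gens_len.symm ▸ hB.1
    let c : Grp := ⟨wd 339 xGens w, wd_mem x_perm.1 hl⟩
    have e1 : c * e * c⁻¹ = u :=
      eqX hB.2 (show Fx _ _ from Fn.conj (by norm_num) perms_self hl hF) u_spec
    refine ⟨fun _ => Or.inr (Or.inr (Or.inr (IsConj.symm (isConj_iff.mpr ⟨c, e1⟩)))), fun h => absurd ?_ h⟩
    rw [show e * e = c⁻¹ * (c * e * c⁻¹ * (c * e * c⁻¹)) * c by group, e1, hu2]
    group
  · have e2 := eqX hB (hF.mul hF) z_spec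
    exact ⟨fun h => absurd (e2.symm.trans h) hz1, fun _ _ => Or.inl e2⟩
  · simp only [Bool.and_eq_true, Nat.blt_eq] at hB
    obtain ⟨hF', hc⟩ := qx_spec i hB.1
    have e2 := eqX hB.2 (hF.mul hF) hF'
    refine ⟨fun h => absurd ?_ hs1, fun _ _ => Or.inr (e2 ▸ hc)⟩
    rw [e2] at h
    rw [h, isConj_one_left] at hc
    exact hc
  · have h4 : e * (e * (e * e)) ≠ 1 := neX' hB (hF.mul (hF.mul (hF.mul hF))) Fx.one
    rw [← mul_assoc] at h4
    exact ⟨fun h => absurd (by rw [h, mul_one]) h4, fun _ h => absurd h h4⟩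

theorem syl_center {e : Grp} (he : e ∈ syl) (h2 : e * e = 1) (hc : ∀ g ∈ syl, e * g = g * e) : e = 1 ∨ e = z := by
  obtain ⟨ix, -, -, hix, hF⟩ := syl_scan he
  have h := List.all_eq_true.mp syl_cen ix hix
  simp only [sylCenB, Bool.or_eq_true, List.any_eq_true, Bool.not_eq_true'] at h
  rcases h with ((h | h) | h) | ⟨c, hcm, h⟩
  · exact absurd h2 (neX h (hF.mul hF) Fx.one)
  · exact Or.inl (eqX h hF Fx.one)
  · exact Or.inr (eqX h hF z_spec)
  · obtain ⟨a, ha, rfl⟩ := List.getElem_of_mem hcm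
    have hp := x_perm.2.2.2.2.2.2.2.1
    let g : Grp := ⟨el 339 sGens a, mem_table (by norm_num) table valid hp x_sift.2.1 ha⟩
    have hg : Fx (ap sGens[a]) g := by
      rw [← List.getD_eq_getElem _ 0 ha]
      exact rep_el hp ha
    exact absurd (hc g (el_mem_gen hp ha)) (neX h (hF.mul hg) (hg.mul hF))

theorem syl_isPGroup : IsPGroup 2 syl := IsPGroup.of_card (n := 10) (by rw [syl_facts.1]; norm_num)

theorem two_conj_syl {x : Grp} {k : ℕ} (hx : x ^ 2 ^ k = 1) : ∃ c : Grp, c * x * c⁻¹ ∈ syl := by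
  haveI : Fact (Nat.Prime 2) := ⟨Nat.prime_two⟩
  have hindex : ¬ 2 ∣ syl.index := by
    have h := syl.card_mul_index
    rw [closed.2, syl_facts.1] at h
    omega
  let P : Sylow 2 Grp := syl_isPGroup.toSylow hindex
  have hz : IsPGroup 2 (zpowers x) := IsPGroup.of_card (n := (Nat.log 2 (orderOf x))) (by
    obtain ⟨j, -, hj⟩ := (Nat.dvd_prime_pow Nat.prime_two).mp (orderOf_dvd_of_pow_eq_one hx)
    rw [Nat.card_zpowers, hj, Nat.log_pow (by norm_num)])
  obtain ⟨Q, hQ⟩ := hz.exists_le_sylow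
  obtain ⟨c, hc⟩ := MulAction.exists_smul_eq Grp Q P
  refine ⟨c, ?_⟩
  have : c * x * c⁻¹ ∈ ((c • Q : Sylow 2 Grp) : Subgroup Grp) := ⟨x, hQ (mem_zpowers x), rfl⟩
  rw [hc] at this
  exact this

theorem invol_class {x : Grp} (hx : x * x = 1) : x = 1 ∨ x = z ∨ IsConj s x ∨ IsConj u x := by
  obtain ⟨c, hc⟩ := two_conj_syl (x := x) (k := 1) (by rwa [pow_one, sq])
  rcases (syl_class hc).1 (by rw [show c * x * c⁻¹ * (c * x * c⁻¹) = c * (x * x) * c⁻¹ by group, hx]; group) with
    h | h | h | h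
  · exact Or.inl (conj_eq_one_iff.mp h)
  · refine Or.inr (Or.inl ?_)
    have hzc : z ∈ center Grp := by
      obtain ⟨σ, hσ, -, hzk⟩ := exists_proj
      exact hσ.2.1 hzk
    rw [show x = c⁻¹ * (c * x * c⁻¹) * c by group, h, mul_assoc, ← mem_center_iff.mp hzc c, inv_mul_cancel_left]
  · exact Or.inr (Or.inr (Or.inl (h.trans (isConj_iff.mpr ⟨c⁻¹, by group⟩))))
  · exact Or.inr (Or.inr (Or.inr (h.trans (isConj_iff.mpr ⟨c⁻¹, by group⟩))))

theorem card_cent (g : Grp) : Nat.card (centralizer ({g} : Set Grp)) =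
    Nat.card (Grp ⊓ centralizer ({(g : Perm (Fin 339))} : Set (Perm (Fin 339))) : Subgroup (Perm (Fin 339))) :=
  Nat.card_congr
    { toFun := fun c => ⟨(c : Grp), (c : Grp).2, mem_centralizer_singleton_iff.mpr
        (congrArg Subtype.val (mem_centralizer_singleton_iff.mp c.2))⟩
      invFun := fun c => ⟨⟨c.1, c.2.1⟩, mem_centralizer_singleton_iff.mpr
        (Subtype.ext (mem_centralizer_singleton_iff.mp c.2.2))⟩
      left_inv := fun _ => rfl
      right_inv := fun _ => rfl }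

theorem cent_u_le : Nat.card (centralizer ({u} : Set Grp)) * 631 ≤ 2903040 := by
  rw [card_cent]
  have h := card_cent_mul_le (n := 339) (by norm_num) x_perm.1 (g := (u : Perm (Fin 339))) u_spec bases_lt'
    u_distinct.1 Grp le_rfl
  rwa [u_distinct.2, closed.2] at h

/-- Membership of the generators of the centraliser of `s`. -/
theorem d_mem : genG 339 dGens ≤ Grp ⊓ centralizer ({(s : Perm (Fin 339))} : Set (Perm (Fin 339))) := by
  have hp := a_perm.2.2.1
  refine genG_le hp fun a ha => ?_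
  have hb : dBoth.getD a 0 = dGens.getD a 0 := by
    rw [dBoth, List.getD_append _ _ _ _ ha]
  have hb' : a < dBoth.length := by rw [dBoth, List.length_append]; omega
  have hmem : dBoth.getD a 0 ∈ dBoth := by rw [List.getD_eq_getElem _ _ hb']; exact List.getElem_mem _
  have hsift : sift 339 xChain (dGens.getD a 0) = true := hb ▸ List.all_eq_true.mp a_sift.2.2.1 _ hmem
  have hm : el 339 dGens a ∈ Grp := mem_of_sift (by norm_num) table valid _ _ (rep_el hp ha) hsift
  refine ⟨hm, mem_centralizer_singleton_iff.mpr ?_⟩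
  have e := List.all_eq_true.mp a_comm.1 _ hmem
  rw [hb] at e
  exact congrArg Subtype.val (eqX e ((show Fx _ ⟨_, hm⟩ from rep_el hp ha).mul s_spec)
    (s_spec.mul (show Fx _ ⟨_, hm⟩ from rep_el hp ha)))

theorem cent_s_ge : 4608 ≤ Nat.card (centralizer ({s} : Set Grp)) := by
  rw [card_cent, ← d_table.2]
  exact size_le_card (by norm_num) (valid_of_perms a_perm.2.2.1) d_table.1 d_mem

/-! ### In the ambient group -/

variable {G : Type} [Group G] [Finite G]

/-- The data of the embedding. -/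
structure Setup (t : G) where
  ψ : Grp →* G
  inj : Function.Injective ψ
  range : ψ.range = centralizer ({t} : Set G)
  map_z : ψ z = t
  ht : orderOf t = 2
  hO : Cfsg.oddCore G = ⊥
  hZ : center G = ⊥

variable {t : G} (S : Setup t)
include S

theorem Setup.mem_range {x : G} (h : Commute x t) : ∃ g, S.ψ g = x := by
  have : x ∈ S.ψ.range := by rw [S.range]; exact mem_centralizer_singleton_iff.mpr h.eq
  exact this

theorem Setup.comm (g : Grp) : Commute (S.ψ g) t := by
  have : S.ψ g ∈ centralizer ({t} : Set G) := S.range ▸ ⟨g, rfl⟩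
  exact mem_centralizer_singleton_iff.mp this

theorem Setup.t_sq : t * t = 1 := by
  rw [← S.map_z, ← map_mul, basic.2.1, map_one]

theorem Setup.sylow_exists : ∃ P : Sylow 2 G, (P : Subgroup G) = syl.map S.ψ := by
  haveI : Fact (Nat.Prime 2) := ⟨Nat.prime_two⟩
  have hp : IsPGroup 2 (syl.map S.ψ : Subgroup G) := syl_isPGroup.map _
  have hcard : Nat.card (syl.map S.ψ : Subgroup G) = 1024 := by
    rw [card_map_of_injective S.inj, syl_facts.1]
  obtain ⟨P, hP⟩ := hp.exists_le_sylow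
  refine ⟨P, le_antisymm ?_ hP⟩
  by_contra hne
  have hlt : (syl.map S.ψ).subgroupOf (P : Subgroup G) < ⊤ :=
    lt_top_iff_ne_top.mpr fun h => hne (subgroupOf_eq_top.mp h)
  haveI : Group.IsNilpotent (P : Subgroup G) := P.2.isNilpotent
  obtain ⟨n, hn, hn'⟩ := SetLike.exists_of_lt (Group.normalizerCondition_of_isNilpotent _ hlt)
  have hconj : ∀ y ∈ syl.map S.ψ, (n : G) * y * (n : G)⁻¹ ∈ syl.map S.ψ := fun y hy => by
    have := (mem_normalizer_iff.mp hn ⟨y, hP hy⟩).mp hy
    simpa [mem_subgroupOf] using this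
  have hconj' : ∀ y ∈ syl.map S.ψ, (n : G)⁻¹ * y * (n : G) ∈ syl.map S.ψ := fun y hy => by
    have := (mem_normalizer_iff''.mp hn ⟨y, hP hy⟩).mp hy
    simpa [mem_subgroupOf] using this
  have ht : t ∈ syl.map S.ψ := by
    refine ⟨z, ?_, S.map_z⟩
    obtain ⟨σ, hσ, -, hzk⟩ := exists_proj
    have hzc := mem_center_iff.mp (hσ.2.1 hzk)
    obtain ⟨c, hc⟩ := two_conj_syl (x := z) (k := 1) (by rw [pow_one, sq]; exact basic.2.1)
    rwa [hzc c, mul_inv_cancel_right] at hc
  obtain ⟨e, he, hee⟩ := hconj t ht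
  have e2 : e * e = 1 := S.inj (by
    rw [map_mul, hee, map_one, show (n : G) * t * (n : G)⁻¹ * ((n : G) * t * (n : G)⁻¹) = n * (t * t) * (n : G)⁻¹ by
      group, S.t_sq]
    group)
  have ecomm : ∀ g ∈ syl, e * g = g * e := fun g hg => S.inj (by
    obtain ⟨g', hg', hgg⟩ := hconj' _ ⟨g, hg, rfl⟩
    have hc := S.comm g'
    rw [hgg] at hc
    rw [map_mul, map_mul, hee]
    calc (n : G) * t * (n : G)⁻¹ * S.ψ g = n * (t * ((n : G)⁻¹ * S.ψ g * n)) * (n : G)⁻¹ := by group
      _ = n * (((n : G)⁻¹ * S.ψ g * n) * t) * (n : G)⁻¹ := by rw [hc.eq]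
      _ = S.ψ g * (n * t * (n : G)⁻¹) := by group)
  rcases syl_center he e2 ecomm with rfl | rfl
  · rw [map_one] at hee
    have : t = 1 := conj_eq_one_iff.mp hee.symm
    have h2 := S.ht
    rw [this, orderOf_one] at h2
    omega
  · rw [S.map_z] at hee
    have hnc : Commute (n : G) t := mul_inv_eq_iff_eq_mul.mp hee.symm
    obtain ⟨g, hg⟩ := S.mem_range hnc
    have hle : syl.map S.ψ ≤ (P : Subgroup G) ⊓ S.ψ.range := le_inf hP (map_le_range _ _)
    have hne' : syl.map S.ψ ≠ (P : Subgroup G) ⊓ S.ψ.range := fun h => hn' (by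
      show (n : G) ∈ syl.map S.ψ
      rw [h]
      exact ⟨n.2, g, hg⟩)
    obtain ⟨k, hk⟩ := IsPGroup.iff_card.mp (P.2.to_le (inf_le_left : (P : Subgroup G) ⊓ S.ψ.range ≤ P))
    have hdvd := Subgroup.card_dvd_of_le (inf_le_right : (P : Subgroup G) ⊓ S.ψ.range ≤ S.ψ.range)
    rw [← Nat.card_congr (MonoidHom.ofInjective S.inj).toEquiv, closed.2, hk] at hdvd
    have hk11 : 11 ≤ k := by
      by_contra hk11
      have h1 := eq_of_le_of_card_ge hle (by
        rw [hcard, hk]
        exact (Nat.pow_le_pow_right (by norm_num) (by omega : k ≤ 10)).trans (by norm_num))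
      exact hne' h1
    have := (pow_dvd_pow 2 hk11).trans hdvd
    norm_num at this

theorem Setup.two_conj {x : G} {k : ℕ} (hx : x ^ 2 ^ k = 1) : ∃ c : G, ∃ e ∈ syl, S.ψ e = c * x * c⁻¹ := by
  haveI : Fact (Nat.Prime 2) := ⟨Nat.prime_two⟩
  obtain ⟨P, hP⟩ := S.sylow_exists
  have hz : IsPGroup 2 (zpowers x) := IsPGroup.of_card (n := (Nat.log 2 (orderOf x))) (by
    obtain ⟨j, -, hj⟩ := (Nat.dvd_prime_pow Nat.prime_two).mp (orderOf_dvd_of_pow_eq_one hx)
    rw [Nat.card_zpowers, hj, Nat.log_pow (by norm_num)])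
  obtain ⟨Q, hQ⟩ := hz.exists_le_sylow
  obtain ⟨c, hc⟩ := MulAction.exists_smul_eq G Q P
  refine ⟨c, ?_⟩
  have : c * x * c⁻¹ ∈ ((c • Q : Sylow 2 G) : Subgroup G) := ⟨x, hQ (mem_zpowers x), rfl⟩
  rw [hc, hP] at this
  obtain ⟨e, he, hee⟩ := this
  exact ⟨e, he, hee⟩

theorem Setup.invol {x : G} (hx : x * x = 1) (hx1 : x ≠ 1) :
    IsConj t x ∨ IsConj (S.ψ s) x ∨ IsConj (S.ψ u) x := by
  obtain ⟨c, e, he, hee⟩ := S.two_conj (x := x) (k := 1) (by rwa [pow_one, sq])
  have hback : IsConj (S.ψ e) x := isConj_iff.mpr ⟨c⁻¹, by rw [hee]; group⟩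
  rcases (syl_class he).1 (S.inj (by
      rw [map_mul, hee, map_one, show c * x * c⁻¹ * (c * x * c⁻¹) = c * (x * x) * c⁻¹ by group, hx]; group)) with
    h | h | h | h
  · rw [h, map_one, eq_comm, conj_eq_one_iff] at hee
    exact absurd hee hx1
  · rw [h, S.map_z] at hback
    exact Or.inl hback
  · exact Or.inr (Or.inl ((S.ψ.map_isConj h).trans hback))
  · exact Or.inr (Or.inr ((S.ψ.map_isConj h).trans hback))

theorem Setup.exists_fused : IsConj t (S.ψ s) ∨ IsConj t (S.ψ u) := by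
  haveI : Fact (Nat.Prime 2) := ⟨Nat.prime_two⟩
  have hnot : ¬ Cfsg.IsIsolated t := fun hiso => by
    have hc : t ∈ center G := mem_center_iff.mpr fun g => by
      have h : g * t * g⁻¹ * t⁻¹ ∈ Cfsg.oddCore G := CfsgLib.ZStar.inZStar S.ht hiso g
      rw [S.hO, mem_bot, mul_inv_eq_one, mul_inv_eq_iff_eq_mul] at h
      exact h
    rw [S.hZ, mem_bot] at hc
    have := S.ht
    rw [hc, orderOf_one] at this
    omega
  simp only [Cfsg.IsIsolated, not_forall] at hnot
  obtain ⟨g, hcomm, hne⟩ := hnot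
  obtain ⟨x, hx⟩ := S.mem_range hcomm.symm
  have hconj : IsConj t (S.ψ x) := hx ▸ isConj_iff.mpr ⟨g, rfl⟩
  rcases invol_class (x := x) (S.inj (by
      rw [map_mul, hx, map_one, show g * t * g⁻¹ * (g * t * g⁻¹) = g * (t * t) * g⁻¹ by group, S.t_sq]; group)) with
    h | h | h | h
  · have : t = 1 := conj_eq_one_iff.mp (hx.symm.trans (by rw [h, map_one]))
    have h2 := S.ht
    rw [this, orderOf_one] at h2
    omega
  · exact absurd (hx.symm.trans (by rw [h, S.map_z])) hne
  · exact Or.inl (hconj.trans (S.ψ.map_isConj h).symm)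
  · exact Or.inr (hconj.trans (S.ψ.map_isConj h).symm)

theorem Setup.pair_s {g : G} (hg : g * S.ψ u * g⁻¹ = t) :
    ∃ k : Grp, S.ψ k * (g * t * g⁻¹) * (S.ψ k)⁻¹ = S.ψ s := by
  obtain ⟨-, -, -, -, -, -, -, hrz, hru⟩ := basic
  have hyt : Commute (g * S.ψ rz * g⁻¹) t := by
    refine comm_conj ?_ hg
    show _ = _
    rw [← map_mul, ← map_mul, hru]
  obtain ⟨y, hy⟩ := S.mem_range hyt
  have hy2 : S.ψ (y * y) = g * t * g⁻¹ := by
    have hr : S.ψ rz * S.ψ rz = t := by rw [← map_mul, hrz, S.map_z]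
    rw [map_mul, hy, show g * S.ψ rz * g⁻¹ * (g * S.ψ rz * g⁻¹) = g * (S.ψ rz * S.ψ rz) * g⁻¹ by group, hr]
  have hne : y * y ≠ 1 := fun h => by
    rw [h, map_one, eq_comm, conj_eq_one_iff] at hy2
    have h2 := S.ht
    rw [hy2, orderOf_one] at h2
    omega
  have h4 : y * y * (y * y) = 1 := S.inj (by
    rw [map_mul, hy2, map_one, show g * t * g⁻¹ * (g * t * g⁻¹) = g * (t * t) * g⁻¹ by group, S.t_sq]; group)
  obtain ⟨c, hc⟩ := two_conj_syl (x := y) (k := 2) (by
    rw [show (2 : ℕ) ^ 2 = 2 * 2 from rfl, pow_mul, sq, sq]; exact h4)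
  have hcc : c * y * c⁻¹ * (c * y * c⁻¹) = c * (y * y) * c⁻¹ := by group
  rcases (syl_class hc).2 (by rw [hcc]; exact fun h => hne (conj_eq_one_iff.mp h))
      (by rw [hcc, show c * (y * y) * c⁻¹ * (c * (y * y) * c⁻¹) = c * (y * y * (y * y)) * c⁻¹ by group, h4]; group) with
    h | h
  · have hzc : z ∈ center Grp := by
      obtain ⟨σ, hσ, -, hzk⟩ := exists_proj
      exact hσ.2.1 hzk
    rw [hcc] at h
    have e : y * y = z := by
      rw [show y * y = c⁻¹ * (c * (y * y) * c⁻¹) * c by group, h, mul_assoc, ← mem_center_iff.mp hzc c,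
        inv_mul_cancel_left]
    rw [e, S.map_z] at hy2
    have hgt : g * t = t * g := mul_inv_eq_iff_eq_mul.mp hy2.symm
    have : S.ψ u = t := by
      rw [show S.ψ u = g⁻¹ * (g * S.ψ u * g⁻¹) * g by group, hg, mul_assoc, ← hgt, inv_mul_cancel_left]
    have e' : u = z := S.inj (this.trans S.map_z.symm)
    have := num_named.2.1
    rw [e', num_named.1] at this
    omega
  · rw [hcc] at h
    obtain ⟨k, hk⟩ := isConj_iff.mp h.symm
    refine ⟨k * c, ?_⟩
    rw [← hy2, ← map_inv, ← map_mul, ← map_mul, ← hk]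
    congr 1

theorem Setup.conj_s : IsConj t (S.ψ s) := by
  refine S.exists_fused.elim id fun hu => ?_
  obtain ⟨g, hg⟩ := isConj_iff.mp hu.symm
  obtain ⟨k, hk⟩ := S.pair_s hg
  exact isConj_iff.mpr ⟨S.ψ k * g, by rw [← hk]; group⟩

theorem Setup.not_conj_u : ¬ IsConj t (S.ψ u) := by
  intro hu
  obtain ⟨g, hg⟩ := isConj_iff.mp hu.symm
  obtain ⟨h, hh⟩ := S.pair_s hg
  have hle : Nat.card (centralizer ({s} : Set Grp)) ≤ Nat.card (centralizer ({u} : Set Grp)) := by
    have hk1 : S.ψ h * g * S.ψ u * (S.ψ h * g)⁻¹ = t := by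
      rw [show S.ψ h * g * S.ψ u * (S.ψ h * g)⁻¹ = S.ψ h * (g * S.ψ u * g⁻¹) * (S.ψ h)⁻¹ by group, hg,
        (S.comm h).eq, mul_inv_cancel_right]
    set k := S.ψ h * g with hk
    have hk2 : k * t * k⁻¹ = S.ψ s := by
      rw [← hh, hk]
      group
    have hback : ∀ c : centralizer ({s} : Set Grp), ∃ c' : centralizer ({u} : Set Grp),
        S.ψ c' = k⁻¹ * S.ψ c * k := fun c => by
      have hcw : Commute (S.ψ c) (S.ψ s) := by
        show _ = _
        rw [← map_mul, ← map_mul, mem_centralizer_singleton_iff.mp c.2]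
      have h1 : Commute (k⁻¹ * S.ψ c * k) t := comm_unconj hcw hk2
      obtain ⟨c', hc'⟩ := S.mem_range h1
      have h2 : Commute (S.ψ c) t := S.comm c
      refine ⟨⟨c', mem_centralizer_singleton_iff.mpr (S.inj ?_)⟩, hc'⟩
      rw [map_mul, map_mul, hc']
      exact (comm_unconj h2 hk1).eq
    choose f hf using hback
    refine Nat.card_le_card_of_injective f fun a b e => Subtype.ext (S.inj ?_)
    have := (hf a).symm.trans ((congrArg (fun c : centralizer ({u} : Set Grp) => S.ψ c) e).trans (hf b))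
    simpa using this
  have := cent_u_le
  have := cent_s_ge
  omega

theorem Setup.conj_or {x : G} (hx : x * x = 1) (hx1 : x ≠ 1) : IsConj t x ∨ IsConj (S.ψ u) x := by
  rcases S.invol hx hx1 with h | h | h
  · exact Or.inl h
  · exact Or.inl (S.conj_s.trans h)
  · exact Or.inr h

theorem Setup.not_square (h : G) : h * h ≠ S.ψ u := by
  intro hh
  obtain ⟨-, -, -, -, -, hu1, hu2, -⟩ := basic
  obtain ⟨c, e, he, hee⟩ := S.two_conj (x := h) (k := 2) (by
    rw [show (2 : ℕ) ^ 2 = 2 * 2 from rfl, pow_mul, sq, sq, hh, ← map_mul, hu2, map_one])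
  have hconj : IsConj (S.ψ u) (S.ψ (e * e)) := isConj_iff.mpr ⟨c, by rw [map_mul, hee, ← hh]; group⟩
  have he2 : e * e * (e * e) = 1 := S.inj (by
    rw [map_mul, map_mul, hee, map_one, show c * h * c⁻¹ * (c * h * c⁻¹) * (c * h * c⁻¹ * (c * h * c⁻¹)) =
      c * (h * h * (h * h)) * c⁻¹ by group, hh, ← map_mul, hu2, map_one]
    group)
  have hne : e * e ≠ 1 := fun h1 => by
    rw [h1, map_one, isConj_one_left] at hconj
    exact hu1 (S.inj (hconj.trans (map_one _).symm))
  rcases (syl_class he).2 hne he2 with h1 | h1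
  · rw [h1, S.map_z] at hconj
    exact S.not_conj_u hconj.symm
  · exact S.not_conj_u (S.conj_s.trans ((S.ψ.map_isConj h1).trans hconj.symm))

end CfsgLib.Co3Recog.X
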