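/-
The group of the letters on 276 points.
-/
import Cfsg.Agent.Lib.Co3Recog.Fusion
import Cfsg.Agent.Lib.Co3Recog.MBase
import Cfsg.Agent.Lib.Leech.Co3Model
import Cfsg.Agent.Lib.Leech.SporTransfer
import Cfsg.Agent.Lib.Leech.Conway

set_option autoImplicit false
set_option linter.unusedSectionVars false
set_option linter.style.haveILetI false
set_option maxRecDepth 30000
set_option maxHeartbeats 1000000

namespace CfsgLib.Co3Recog.M

open Equiv Subgroup CfsgPC Base Data X

attribute [local irreducible] xGens xChain sGens sChain qsList aElems mLetters mInv mChain mFixChain uFix cuGens cuInv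
  cuChain suGens suInv suChain vC cuCert vWords cvGens cvInv cvChain tWords tTwoGens tTwoInv tTwoChain rC gC hC3 zC sC uC

/-- A function describes an element. -/
abbrev Fm (f : ℕ → ℕ) (g : Grp) : Prop := Fn 276 f (g : Perm (Fin 276))

theorem faith : Faith 276 mBases Grp := ⟨bases_lt, fun g hg h =>
  faithful (by norm_num) table valid g (closed.1 ▸ hg) h⟩

theorem eqM {f f' : ℕ → ℕ} {g h : Grp} (e : eqB mBases f f' = true) (hf : Fm f g) (hf' : Fm f' h) : g = h :=
  Subtype.ext (eq_of_eqB (by norm_num) table valid closed.1 g.2 h.2 e hf hf')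

theorem neM {f f' : ℕ → ℕ} {g h : Grp} (e : eqB mBases f f' = false) (hf : Fm f g) (hf' : Fm f' h) : g ≠ h :=
  fun h' => Fn.ne_of_false bases_lt hf hf' e (congrArg Subtype.val h')

theorem neM' {f f' : ℕ → ℕ} {g h : Grp} (e : (!eqB mBases f f') = true) (hf : Fm f g) (hf' : Fm f' h) : g ≠ h :=
  neM (by simpa using e) hf hf'

theorem Fm.mul {f f' : ℕ → ℕ} {g h : Grp} (hf : Fm f g) (hf' : Fm f' h) : Fm (fun b => f (f' b)) (g * h) :=
  Fn.mul hf hf'

theorem Fm.one : Fm id (1 : Grp) := Fn.one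

open Classical in
/-- The element of a code. -/
noncomputable def me (c : ℕ) : Grp := if h : decP 276 c ∈ Grp then ⟨_, h⟩ else 1

theorem me_spec {c : ℕ} {g : Perm (Fin 276)} (hr : Rep 276 c g) (hm : g ∈ Grp) : Fm (ap c) (me c) := by
  have hd : decP 276 c = g := decP_eq hr
  rw [Fm, me, dif_pos (hd ▸ hm)]
  exact hd.symm ▸ hr

theorem me_sift {c ci : ℕ} (hp : isPerm 276 c ci = true) (hs : sift 276 mChain c = true) : Fm (ap c) (me c) :=
  me_spec (decP_rep hp) (mem_of_sift (by norm_num) table valid _ _ (decP_rep hp) hs)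

/-- A letter. -/
noncomputable def lm (a : ℕ) : Grp := me (ml a)

theorem lm_spec {a : ℕ} (ha : a < 7) : Fm (ap (ml a)) (lm a) ∧ (lm a : Perm (Fin 276)) = el 276 mLetters a := by
  have hlt : a < mLetters.length := m_perm.2.1.symm ▸ ha
  have h := me_spec (c := ml a) (rep_el m_perm.1 hlt) (el_mem_gen m_perm.1 hlt)
  exact ⟨h, Fn.unique h (rep_el m_perm.1 hlt)⟩

theorem lm_sq {a : ℕ} (ha : a < 7) : lm a * lm a = 1 := by
  refine eqM ?_ ((lm_spec ha).1.mul (lm_spec ha).1) Fm.one
  simp only [eqB, List.all_eq_true]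
  intro b hb
  exact List.all_eq_true.mp (List.all_eq_true.mp m_perm.2.2.2.2 a (List.mem_range.mpr ha)) b
    (List.mem_range.mpr (bases_lt b hb))

/-- The letters of the generators of the centraliser. -/
def xIdx : List ℕ := [0, 1, 2, 3, 4, 6]

theorem cut_gen_mem : ∀ x : X.Grp, exists_cut.choose x ∈ Grp ∧
    ∀ a < 6, exists_cut.choose (gen a) = (lm (xIdx.getD a 0) : Perm (Fin 276)) := by
  obtain ⟨hinj, hf⟩ := exists_cut.choose_spec
  set f := exists_cut.choose
  have key : ∀ a < 6, f (gen a) = (lm (xIdx.getD a 0) : Perm (Fin 276)) := fun a ha => by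
    have h7 : xIdx.getD a 0 < 7 := (by decide : ∀ a < 6, xIdx.getD a 0 < 7) a ha
    refine Fn.unique (f := fun b => ap (xGens.getD a 0) b) (fun i => ((gen_spec ha).2 ⟨i, by omega⟩).trans (hf (gen a) i)) ?_
    intro i
    have h := m_block
    simp only [blockB, Bool.and_eq_true, List.all_eq_true, List.mem_range, Nat.zero_add] at h
    have e : xInM.getD a 0 = ml (xIdx.getD a 0) := by interval_cases a <;> rfl
    show ap (xGens.getD a 0) i = _
    rw [Nat.eq_of_beq_eq_true (h.2 a (gens_len.symm ▸ ha) i i.2), e, (lm_spec h7).1 i]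
  intro x
  refine ⟨?_, key⟩
  refine gen_ind (p := fun x => f x ∈ Grp) (fun a ha => ?_) ?_ ?_ ?_ x
  · show f (gen a) ∈ Grp
    rw [key a ha]
    exact (lm _).2
  · show f 1 ∈ Grp
    rw [map_one]; exact one_mem _
  · intro a b ha hb
    show f (a * b) ∈ Grp
    rw [map_mul]; exact mul_mem ha hb
  · intro a ha
    show f a⁻¹ ∈ Grp
    rw [map_inv]; exact inv_mem ha

/-- The centraliser inside the group of the letters. -/
noncomputable def fcut : X.Grp →* Grp := exists_cut.choose.codRestrict Grp fun x => (cut_gen_mem x).1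

theorem fcut_inj : Function.Injective fcut := fun a b e =>
  exists_cut.choose_spec.1 (congrArg Subtype.val e)

theorem fcut_gen {a : ℕ} (ha : a < 6) : fcut (gen a) = lm (xIdx.getD a 0) :=
  Subtype.ext ((cut_gen_mem 1).2 a ha)

theorem fcut_spec {f : ℕ → ℕ} {x : X.Grp} (hf : Fx f x) : Fm f (fcut x) := fun i =>
  (hf ⟨i, by omega⟩).trans (exists_cut.choose_spec.2 x i)

theorem fcut_num (x : X.Grp) : fixNum (fcut x : Perm (Fin 276)) = num x := rfl

theorem Fm.cut {c : ℕ} {g : Grp} (h : Fm (ap c) g) : Fm (ap (cut c)) g := fun i => by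
  show ap (pk (ap c) 276) i = _
  rw [(pk_spec (ap c) (fun j => Nat.mod_lt _ (by norm_num)) 276).2 i i.2]
  exact h i

/-- The central involution. -/
noncomputable def tm : Grp := fcut z

/-- The fused involution. -/
noncomputable def sm : Grp := fcut s

/-- The other involution. -/
noncomputable def um : Grp := fcut u

/-- The third involution. -/
noncomputable def vm : Grp := me vC.1

theorem tm_spec : Fm (ap tM) tm := (fcut_spec z_spec).cut

theorem sm_spec : Fm (ap sM) sm := (fcut_spec s_spec).cut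

theorem um_spec : Fm (ap uM) um := (fcut_spec u_spec).cut

theorem inCent {cs is : List ℕ} (hp : permsB 276 cs is = true) {ys : List ℕ} (h : inCentB cs ys = true)
    {a : ℕ} (ha : a < cs.length) :
    Fm (ap (cs.getD a 0)) (me (cs.getD a 0)) ∧ (me (cs.getD a 0) : Perm (Fin 276)) = el 276 cs a ∧
      ∀ y ∈ ys, ∀ g : Grp, Fm (ap y) g → me (cs.getD a 0) * g = g * me (cs.getD a 0) := by
  simp only [inCentB, Bool.and_eq_true, List.all_eq_true] at h
  have hmem : cs.getD a 0 ∈ cs := by rw [List.getD_eq_getElem _ _ ha]; exact List.getElem_mem _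
  have hF : Fm (ap (cs.getD a 0)) (me (cs.getD a 0)) :=
    me_spec (rep_el hp ha) (mem_of_sift (by norm_num) table valid _ _ (rep_el hp ha)
      (List.all_eq_true.mp h.1 _ hmem))
  exact ⟨hF, Fn.unique hF (rep_el hp ha), fun y hy g hg => eqM (h.2 _ hmem y hy) (hF.mul hg) (hg.mul hF)⟩

theorem inCent_one {c ci : ℕ} (hp : isPerm 276 c ci = true) {ys : List ℕ} (h : inCentB [c] ys = true) :
    Fm (ap c) (me c) ∧ ∀ y ∈ ys, ∀ g : Grp, Fm (ap y) g → me c * g = g * me c := by
  have hps : permsB 276 [c] [ci] = true := by simp [permsB, hp]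
  have := inCent hps h (a := 0) (by simp)
  exact ⟨this.1, this.2.2⟩

theorem vm_spec : Fm (ap vC.1) vm ∧ vm * um = um * vm ∧ vm * tm = tm * vm := by
  obtain ⟨h1, h2⟩ := inCent_one m_perm_two.2.2.2.2.2.1 cv_ok.1
  exact ⟨h1, h2 uM (by simp) um um_spec, h2 tM (by simp) tm tm_spec⟩

theorem fix_num {f : ℕ → ℕ} {g : Grp} (hf : Fm f g) : fixCount 276 f = fixNum (g : Perm (Fin 276)) :=
  fixCount_eq hf

theorem basic : tm ≠ 1 ∧ tm * tm = 1 ∧ um ≠ 1 ∧ um * um = 1 ∧ vm ≠ 1 ∧ vm * vm = 1 ∧ vm ≠ um ∧ tm * um = um * tm ∧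
    fixNum (tm : Perm (Fin 276)) = 36 ∧ fixNum (um : Perm (Fin 276)) = 12 ∧ fixNum (vm : Perm (Fin 276)) = 12 ∧
    fixNum ((um * vm : Grp) : Perm (Fin 276)) = 12 := by
  obtain ⟨hz1, hz2, -, -, -, hu1, hu2, -⟩ := X.basic
  obtain ⟨hc, -, hvu, hv1, hv2, h36, hu12, hv12, huv12, -, -⟩ := four_ok
  refine ⟨fun h => hz1 (fcut_inj (h.trans (map_one fcut).symm)), by rw [tm, ← map_mul, hz2, map_one],
    fun h => hu1 (fcut_inj (h.trans (map_one fcut).symm)), by rw [um, ← map_mul, hu2, map_one],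
    neM hv1 vm_spec.1 Fm.one, eqM hv2 (vm_spec.1.mul vm_spec.1) Fm.one, neM hvu vm_spec.1 um_spec,
    eqM hc (tm_spec.mul um_spec) (um_spec.mul tm_spec), (fix_num tm_spec).symm.trans h36,
    (fix_num um_spec).symm.trans hu12, (fix_num vm_spec.1).symm.trans hv12,
    (fix_num (um_spec.mul vm_spec.1)).symm.trans huv12⟩

theorem fused : lm 5 * tm * lm 5 = sm ∧ lm 4 * lm 5 = lm 5 * lm 4 := by
  obtain ⟨h1, h2, -⟩ := fused_ok
  have h5 := (lm_spec (by norm_num : 5 < 7)).1
  have h4 := (lm_spec (by norm_num : 4 < 7)).1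
  refine ⟨?_, eqM h2 (h4.mul h5) (h5.mul h4)⟩
  rw [mul_assoc]
  exact eqM h1 (h5.mul (tm_spec.mul h5)) sm_spec

theorem invol_class {x : Grp} (hx : x * x = 1) (hx1 : x ≠ 1) : IsConj tm x ∨ IsConj um x := by
  haveI : Fact (Nat.Prime 2) := ⟨Nat.prime_two⟩
  have hcard : Nat.card (syl.map fcut : Subgroup Grp) = 1024 := by
    rw [card_map_of_injective fcut_inj, syl_facts.1]
  have hindex : ¬ 2 ∣ (syl.map fcut : Subgroup Grp).index := by
    have h := (syl.map fcut : Subgroup Grp).card_mul_index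
    rw [closed.2.1, hcard] at h
    omega
  let P : Sylow 2 Grp := (syl_isPGroup.map fcut).toSylow hindex
  have hz : IsPGroup 2 (zpowers x) := IsPGroup.of_card (n := 1) (by
    rw [Nat.card_zpowers, orderOf_eq_prime (by rw [sq]; exact hx) hx1, pow_one])
  obtain ⟨Q, hQ⟩ := hz.exists_le_sylow
  obtain ⟨c, hc⟩ := MulAction.exists_smul_eq Grp Q P
  have hm : c * x * c⁻¹ ∈ ((c • Q : Sylow 2 Grp) : Subgroup Grp) := ⟨x, hQ (mem_zpowers x), rfl⟩
  rw [hc] at hm
  obtain ⟨e, he, hee⟩ := (show c * x * c⁻¹ ∈ syl.map fcut from hm)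
  have hback : IsConj (fcut e) x := isConj_iff.mpr ⟨c⁻¹, by rw [hee]; group⟩
  have hts : IsConj tm sm := isConj_iff.mpr ⟨lm 5, by
    rw [inv_eq_of_mul_eq_one_right (lm_sq (by norm_num)), fused.1]⟩
  rcases (syl_class he).1 (fcut_inj (by
      rw [map_mul, hee, map_one, show c * x * c⁻¹ * (c * x * c⁻¹) = c * (x * x) * c⁻¹ by group, hx]; group)) with
    h | h | h | h
  · rw [h, map_one, eq_comm, conj_eq_one_iff] at hee
    exact absurd hee hx1
  · rw [h] at hback
    exact Or.inl hback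
  · exact Or.inl (hts.trans ((fcut.map_isConj h).trans hback))
  · exact Or.inr ((fcut.map_isConj h).trans hback)

theorem conj_u_of_fix {x : Grp} (hx : x * x = 1) (hf : fixNum (x : Perm (Fin 276)) = 12) : IsConj um x := by
  have hx1 : x ≠ 1 := by
    rintro rfl
    simp [fixNum] at hf
  rcases invol_class hx hx1 with h | h
  · obtain ⟨c, rfl⟩ := isConj_iff.mp h
    rw [Subgroup.coe_mul, Subgroup.coe_mul, Subgroup.coe_inv, fixNum_conj, basic.2.2.2.2.2.2.2.2.1] at hf
    omega
  · exact h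

/-- The centraliser of `u`. -/
theorem cent_u : Nat.card (centralizer ({um} : Set Grp)) = 190080 ∧
    (centralizer ({um} : Set Grp)).map Grp.subtype = genG 276 cuGens := by
  have hp := m_perm_two.1
  obtain ⟨ht, hs, hc⟩ := cu_ok
  have hle : genG 276 cuGens ≤ (centralizer ({um} : Set Grp)).map Grp.subtype := genG_le hp fun a ha => by
    obtain ⟨-, he, hy⟩ := inCent hp hc ha
    exact ⟨_, mem_centralizer_singleton_iff.mpr (hy uM (by simp) um um_spec), he⟩
  have hfix : TableOK 276 mFixChain mLetters := table_of fix_table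
  obtain ⟨h1, h2, h3, h4⟩ := fix_bound
  have hsz : sizeOfChain mFixChain = 495766656000 :=
    le_antisymm (Nat.le_of_ble_eq_true h1) (Nat.le_of_ble_eq_true h2)
  obtain ⟨hprod, -⟩ := table_eq (by norm_num) hfix valid (closed.2.1.le.trans hsz.ge)
  have hub : Nat.card ((centralizer ({um} : Set Grp)).map Grp.subtype : Subgroup (Perm (Fin 276))) ≤ 190080 := by
    refine (card_le_keepBound uFix hfix valid (by norm_num) _ ?_ ?_).trans (Nat.le_of_ble_eq_true h3)
    · rintro g ⟨m, -, rfl⟩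
      rw [hprod]
      exact m.2
    · rintro g ⟨m, hm, rfl⟩ i hi
      have hcomm := congrArg Subtype.val (mem_centralizer_singleton_iff.mp hm)
      have hfixi : ∀ j : Fin 276, (j : ℕ) ∈ uFix ↔ (um : Perm (Fin 276)) j = j := fun j => by
        have := List.all_eq_true.mp h4 j (List.mem_range.mpr j.2)
        rw [beq_iff_eq] at this
        rw [← List.contains_iff_mem, ← this, um_spec j]
        exact ⟨fun e => Fin.ext (Nat.eq_of_beq_eq_true e), fun e => by rw [e]; exact Nat.beq_refl _⟩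
      refine (hfixi _).mpr ?_
      show (um : Perm (Fin 276)) ((m : Perm (Fin 276)) i) = (m : Perm (Fin 276)) i
      rw [← Perm.mul_apply]
      rw [show (um : Perm (Fin 276)) * (m : Perm (Fin 276)) = (m : Perm (Fin 276)) * (um : Perm (Fin 276)) from hcomm.symm,
        Perm.mul_apply, (hfixi i).mp hi]
  have hlb := size_le_card (by norm_num) (valid_of_perms hp) ht (le_refl (genG 276 cuGens))
  rw [hs] at hlb
  have e := eq_of_le_of_card_ge hle (hub.trans hlb)
  refine ⟨?_, e.symm⟩
  rw [← card_map_of_injective (f := Grp.subtype) Subtype.val_injective]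
  exact le_antisymm hub (hlb.trans (Nat.card_le_card_of_injective _ (inclusion_injective hle)))

theorem cent_mem {g : Perm (Fin 276)} (h : g ∈ genG 276 cuGens) : ∃ m : Grp, (m : Perm (Fin 276)) = g ∧ m * um = um * m := by
  rw [← cent_u.2] at h
  obtain ⟨m, hm, rfl⟩ := h
  exact ⟨m, rfl, mem_centralizer_singleton_iff.mp hm⟩

/-- The classes of involutions of the centraliser of `u`. -/
theorem cu_class {x : Grp} (hx : x * x = 1) (hxu : x * um = um * x) (hx1 : x ≠ 1) (hne : x ≠ um) :
    IsConj tm x ∨ IsConj tm (um * x) ∨ ∃ h : Grp, h * um = um * h ∧ (h * x * h⁻¹ = vm ∨ h * x * h⁻¹ = um * vm) := by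
  haveI : Fact (Nat.Prime 2) := ⟨Nat.prime_two⟩
  let C := centralizer ({um} : Set Grp)
  obtain ⟨ht, hall, hs, hcs⟩ := su_ok
  have hp := m_perm_two.2.2.1
  have hle : genG 276 suGens ≤ Grp := genG_le hp fun a ha => by
    obtain ⟨-, he, -⟩ := inCent hp hcs ha
    exact he ▸ (me (suGens.getD a 0)).2
  obtain ⟨hprod, hcard⟩ := closed_ofF (by norm_num) faith (valid_of_perms hp) hle ht hall
  rw [hs] at hcard
  let T : Subgroup C := (genG 276 suGens).comap (Grp.subtype.comp C.subtype)
  have hTle : genG 276 suGens ≤ (Grp.subtype.comp C.subtype).range := genG_le hp fun a ha => by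
    obtain ⟨-, he, hy⟩ := inCent hp hcs ha
    exact ⟨⟨_, mem_centralizer_singleton_iff.mpr (hy uM (by simp) um um_spec)⟩, he⟩
  have hTc : Nat.card T = 128 := by
    rw [← hcard, ← card_map_of_injective (f := Grp.subtype.comp C.subtype) (Subtype.val_injective.comp Subtype.val_injective),
      map_comap_eq_self hTle]
  have hindex : ¬ 2 ∣ T.index := by
    have h := T.card_mul_index
    rw [hTc, cent_u.1] at h
    omega
  let P : Sylow 2 C := (IsPGroup.of_card (n := 7) (by rw [hTc]; norm_num) : IsPGroup 2 T).toSylow hindex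
  let xC : C := ⟨x, mem_centralizer_singleton_iff.mpr hxu⟩
  have hz : IsPGroup 2 (zpowers xC) := IsPGroup.of_card (n := 1) (by
    rw [Nat.card_zpowers, orderOf_eq_prime (by rw [sq]; exact Subtype.ext hx) (fun h => hx1 (congrArg Subtype.val h)),
      pow_one])
  obtain ⟨Q, hQ⟩ := hz.exists_le_sylow
  obtain ⟨c, hc⟩ := MulAction.exists_smul_eq C Q P
  have hm : c * xC * c⁻¹ ∈ ((c • Q : Sylow 2 C) : Subgroup C) := ⟨xC, hQ (mem_zpowers xC), rfl⟩
  rw [hc] at hm
  have hcu : (c : Grp) * um = um * c := mem_centralizer_singleton_iff.mp c.2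
  set e : Grp := c * x * (c : Grp)⁻¹ with he
  have hm' : (e : Perm (Fin 276)) ∈ prodSet 276 suChain := by rw [hprod]; exact hm
  obtain ⟨ix, ⟨tag, w⟩, hB, hF'⟩ := scan_idx cu_cert.1 cu_cert.2 hm'
  have hF : Fm (evalT suChain ix) e := hF'
  have heq : x = (c : Grp)⁻¹ * e * c := by rw [he]; group
  have e2 : e * e = 1 := by
    rw [he, show (c : Grp) * x * (c : Grp)⁻¹ * ((c : Grp) * x * (c : Grp)⁻¹) = c * (x * x) * (c : Grp)⁻¹ by group, hx]
    group
  have eu : e * um = um * e := by
    have hcu' : (c : Grp)⁻¹ * um = um * (c : Grp)⁻¹ := (show Commute (c : Grp) um from hcu).inv_left.eq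
    rw [he, mul_assoc, hcu', ← mul_assoc, mul_assoc (c : Grp) x um, hxu, ← mul_assoc, hcu, mul_assoc um, mul_assoc um]
  -- words in the centraliser
  have hsend : ∀ {f : ℕ → ℕ} {g : Grp} {y : ℕ} {gy : Grp}, Fm f g → Fm (ap y) gy →
      ltB cuBoth.length w = true → eqB mBases (cevF cuBoth cuBothInv w f) (ap y) = true →
      ∃ k : Grp, k * um = um * k ∧ k * g * k⁻¹ = gy := fun {f g y gy} hf hy hw hB => by
    have hpb := m_perm_two.2.1
    have hmem : wd 276 cuBoth w ∈ genG 276 cuGens := by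
      refine genG_le hpb (fun a ha => ?_) (wd_mem hpb hw)
      by_cases h : a < cuGens.length
      · have e : el 276 cuBoth a = el 276 cuGens a := by rw [el, el, cuBoth, List.getD_append _ _ _ _ h]
        rw [e]
        exact el_mem_gen m_perm_two.1 h
      · have hl : cuGens.length = cuInv.length := by
          have hpg := m_perm_two.1
          simp only [permsB, Bool.and_eq_true] at hpg
          exact Nat.eq_of_beq_eq_true hpg.1
        have ha' : a - cuGens.length < cuGens.length := by rw [cuBoth, List.length_append] at ha; omega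
        have e : el 276 cuBoth a = (el 276 cuGens (a - cuGens.length))⁻¹ := by
          refine Fn.unique (f := ap (cuBoth.getD a 0)) (rep_el hpb ha) ?_
          rw [cuBoth, List.getD_append_right _ _ _ _ (not_lt.mp h)]
          exact rep_el_inv (by norm_num) m_perm_two.1 ha'
        rw [e]
        exact inv_mem (el_mem_gen m_perm_two.1 ha')
    obtain ⟨k, hk, hku⟩ := cent_mem hmem
    exact ⟨k, hku, eqM hB (fun i => by
      rw [Subgroup.coe_mul, Subgroup.coe_mul, Subgroup.coe_inv, hk]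
      exact Fn.conj (by norm_num) hpb hw hf i) hy⟩
  have hfin : ∀ {k : Grp}, k * um = um * k → ∀ y, k * e * k⁻¹ = y →
      ∃ h : Grp, h * um = um * h ∧ h * x * h⁻¹ = y := fun {k} hk y hy => by
    refine ⟨k * c, ?_, ?_⟩
    · rw [mul_assoc, hcu, ← mul_assoc, hk, mul_assoc]
    · rw [← hy, he]; group
  simp only [cuB] at hB
  split at hB
  · exact absurd e2 (neM' hB (hF.mul hF) Fm.one)
  · have e1 := eqM hB hF Fm.one
    exact absurd (by rw [heq, e1]; group) hx1
  · have e1 := eqM hB hF um_spec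
    refine absurd ?_ hne
    rw [heq, e1, mul_assoc, ← hcu, inv_mul_cancel_left]
  · rw [Bool.and_eq_true] at hB
    obtain ⟨k, hk, hy⟩ := hsend hF tm_spec hB.1 hB.2
    obtain ⟨h, -, hh⟩ := hfin hk tm hy
    exact Or.inl (isConj_iff.mpr ⟨h, hh⟩).symm
  · rw [Bool.and_eq_true] at hB
    obtain ⟨k, hk, hy⟩ := hsend (hF.mul um_spec) tm_spec hB.1 hB.2
    refine Or.inr (Or.inl (isConj_iff.mpr ⟨k * c, ?_⟩).symm)
    rw [← hy, eu]
    calc k * c * (um * x) * (k * c)⁻¹ = k * (c * um * x * (c : Grp)⁻¹) * k⁻¹ := by group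
      _ = k * (um * c * x * (c : Grp)⁻¹) * k⁻¹ := by rw [hcu]
      _ = k * (um * e) * k⁻¹ := by rw [he]; group
  · rw [Bool.and_eq_true] at hB
    obtain ⟨k, hk, hy⟩ := hsend hF vm_spec.1 hB.1 hB.2
    obtain ⟨h, h1, hh⟩ := hfin hk vm hy
    exact Or.inr (Or.inr ⟨h, h1, Or.inl hh⟩)
  · rw [Bool.and_eq_true] at hB
    obtain ⟨k, hk, hy⟩ := hsend (hF.mul um_spec) vm_spec.1 hB.1 hB.2
    have hy' : k * e * k⁻¹ = vm * um := by
      have hku : k⁻¹ * um = um * k⁻¹ := (show Commute k um from hk).inv_left.eq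
      rw [← hy]
      calc k * e * k⁻¹ = k * e * (um * um) * k⁻¹ := by rw [basic.2.2.2.1, mul_one]
        _ = k * (e * um) * (um * k⁻¹) := by group
        _ = k * (e * um) * k⁻¹ * um := by rw [← hku]; group
    obtain ⟨h, h1, hh⟩ := hfin hk _ hy'
    exact Or.inr (Or.inr ⟨h, h1, Or.inr (hh.trans vm_spec.2.1)⟩)
  · exact Bool.noConfusion hB

/-- The centraliser of the four-group. -/
noncomputable def cvSub : Subgroup Grp := centralizer ({um, vm} : Set Grp)

theorem mem_cv {g : Grp} : g ∈ cvSub ↔ g * um = um * g ∧ g * vm = vm * g := by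
  simp only [cvSub, mem_centralizer_iff, Set.mem_insert_iff, Set.mem_singleton_iff, forall_eq_or_imp, forall_eq]
  exact ⟨fun h => ⟨h.1.symm, h.2.symm⟩, fun h => ⟨h.1.symm, h.2.symm⟩⟩

theorem cv_card : Nat.card cvSub = 480 ∧ genG 276 cvGens = cvSub.map Grp.subtype := by
  obtain ⟨-, hd, hl, ht, hs, hc⟩ := cv_ok
  have hp := m_perm_two.2.2.2.1
  have hle : genG 276 cvGens ≤ cvSub.map Grp.subtype := genG_le hp fun a ha => by
    obtain ⟨-, he, hy⟩ := inCent hp hc ha
    exact ⟨_, mem_cv.mpr ⟨hy uM (by simp) um um_spec, hy vC.1 (by simp) vm vm_spec.1⟩, he⟩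
  have hub : Nat.card (cvSub.map Grp.subtype : Subgroup (Perm (Fin 276))) ≤ 480 := by
    have h := card_cent_mul_le (n := 276) (by norm_num) m_perm_two.1 (g := (vm : Perm (Fin 276))) vm_spec.1 bases_lt hd
      ((centralizer ({um} : Set Grp)).map Grp.subtype) cent_u.2.ge
    rw [hl, card_map_of_injective Subtype.val_injective, cent_u.1] at h
    refine le_trans (le_of_eq ?_) (le_of_mul_le_mul_right (h.trans (by norm_num : (190080 : ℕ) ≤ 480 * 396)) (by norm_num))
    congr 1
    have e : cvSub.map Grp.subtype = (centralizer ({um} : Set Grp)).map Grp.subtype ⊓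
        centralizer ({(vm : Perm (Fin 276))} : Set (Perm (Fin 276))) := by
      ext g
      constructor
      · rintro ⟨m, hm, rfl⟩
        exact ⟨⟨m, mem_centralizer_singleton_iff.mpr (mem_cv.mp hm).1, rfl⟩,
          mem_centralizer_singleton_iff.mpr (congrArg Subtype.val (mem_cv.mp hm).2)⟩
      · rintro ⟨⟨m, hm, rfl⟩, hv⟩
        exact ⟨m, mem_cv.mpr ⟨mem_centralizer_singleton_iff.mp hm,
          Subtype.ext (mem_centralizer_singleton_iff.mp hv)⟩, rfl⟩
    rw [e]
  have hlb := size_le_card (by norm_num) (valid_of_perms hp) ht (le_refl (genG 276 cvGens))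
  rw [hs] at hlb
  refine ⟨?_, eq_of_le_of_card_ge hle (hub.trans hlb)⟩
  rw [← card_map_of_injective (f := Grp.subtype) Subtype.val_injective]
  exact le_antisymm hub (hlb.trans (Nat.card_le_card_of_injective _ (inclusion_injective hle)))

/-- The part of it commuting with `t`. -/
noncomputable def ctSub : Subgroup Grp := cvSub ⊓ centralizer ({tm} : Set Grp)

theorem ct_card : Nat.card ctSub = 32 ∧ genG 276 tTwoGens = ctSub.map Grp.subtype ∧
    prodSet 276 tTwoChain = genG 276 tTwoGens := by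
  obtain ⟨hd, hl, ht, hs, hc, -⟩ := t_two_ok
  have hp := m_perm_two.2.2.2.2.1
  have hle : genG 276 tTwoGens ≤ ctSub.map Grp.subtype := genG_le hp fun a ha => by
    obtain ⟨-, he, hy⟩ := inCent hp hc ha
    exact ⟨_, ⟨mem_cv.mpr ⟨hy uM (by simp) um um_spec, hy vC.1 (by simp) vm vm_spec.1⟩,
      mem_centralizer_singleton_iff.mpr (hy tM (by simp) tm tm_spec)⟩, he⟩
  have hub : Nat.card (ctSub.map Grp.subtype : Subgroup (Perm (Fin 276))) ≤ 32 := by
    have h := card_cent_mul_le (n := 276) (by norm_num) m_perm_two.2.2.2.1 (g := (tm : Perm (Fin 276))) tm_spec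
      bases_lt hd (cvSub.map Grp.subtype) cv_card.2.le
    rw [hl, card_map_of_injective Subtype.val_injective, cv_card.1] at h
    refine le_trans (le_of_eq ?_) (le_of_mul_le_mul_right (h.trans (by norm_num : (480 : ℕ) ≤ 32 * 15)) (by norm_num))
    congr 1
    have e : ctSub.map Grp.subtype = cvSub.map Grp.subtype ⊓
        centralizer ({(tm : Perm (Fin 276))} : Set (Perm (Fin 276))) := by
      ext g
      constructor
      · rintro ⟨m, hm, rfl⟩
        exact ⟨⟨m, hm.1, rfl⟩, mem_centralizer_singleton_iff.mpr (congrArg Subtype.val (mem_centralizer_singleton_iff.mp hm.2))⟩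
      · rintro ⟨⟨m, hm, rfl⟩, hv⟩
        exact ⟨m, ⟨hm, mem_centralizer_singleton_iff.mpr (Subtype.ext (mem_centralizer_singleton_iff.mp hv))⟩, rfl⟩
    rw [e]
  have hlb := size_le_card (by norm_num) (valid_of_perms hp) ht (le_refl (genG 276 tTwoGens))
  rw [hs] at hlb
  have e := eq_of_le_of_card_ge hle (hub.trans hlb)
  have hc2 : Nat.card ctSub = 32 := by
    rw [← card_map_of_injective (f := Grp.subtype) Subtype.val_injective]
    exact le_antisymm hub (hlb.trans (Nat.card_le_card_of_injective _ (inclusion_injective hle)))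
  refine ⟨hc2, e, (table_eq (by norm_num) (table_of ht) (valid_of_perms hp) ?_).1⟩
  rw [e, card_map_of_injective Subtype.val_injective, hc2, hs]

/-- The four-group. -/
noncomputable def four : Subgroup Grp := closure ({um, vm} : Set Grp)

theorem mem_four {g : Grp} : g ∈ four ↔ g = 1 ∨ g = um ∨ g = vm ∨ g = um * vm := by
  obtain ⟨-, -, -, hu, -, hv, -⟩ := basic
  have hc : vm * um = um * vm := vm_spec.2.1
  constructor
  · intro h
    induction h using closure_induction with
    | mem x hx =>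
      rcases hx with rfl | rfl
      · exact Or.inr (Or.inl rfl)
      · exact Or.inr (Or.inr (Or.inl rfl))
    | one => exact Or.inl rfl
    | mul a b _ _ iha ihb =>
      have c1 : um * (um * vm) = vm := by rw [← mul_assoc, hu, one_mul]
      have c2 : vm * (um * vm) = um := by rw [← mul_assoc, hc, mul_assoc, hv, mul_one]
      have c3 : um * vm * um = vm := by rw [mul_assoc, hc, c1]
      have c4 : um * vm * vm = um := by rw [mul_assoc, hv, mul_one]
      have c5 : um * vm * (um * vm) = 1 := by rw [mul_assoc, c2, hu]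
      rcases iha with rfl | rfl | rfl | rfl <;> rcases ihb with rfl | rfl | rfl | rfl <;>
        simp only [one_mul, mul_one, hu, hv, hc, c1, c2, c3, c4, c5, true_or, or_true]
    | inv a _ iha =>
      rcases iha with rfl | rfl | rfl | rfl
      · exact Or.inl inv_one
      · exact Or.inr (Or.inl (inv_eq_of_mul_eq_one_right hu))
      · exact Or.inr (Or.inr (Or.inl (inv_eq_of_mul_eq_one_right hv)))
      · refine Or.inr (Or.inr (Or.inr ?_))
        rw [mul_inv_rev, inv_eq_of_mul_eq_one_right hu, inv_eq_of_mul_eq_one_right hv, hc]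
  · rintro (rfl | rfl | rfl | rfl)
    · exact one_mem _
    · exact subset_closure (Or.inl rfl)
    · exact subset_closure (Or.inr rfl)
    · exact mul_mem (subset_closure (Or.inl rfl)) (subset_closure (Or.inr rfl))

theorem four_scan {g : Grp} {f : ℕ → ℕ} (hf : Fm f g) : inFourB f = true ↔ g ∈ four := by
  rw [mem_four, inFourB, vFour]
  simp only [List.any_cons, List.any_nil, Bool.or_false, Bool.or_eq_true]
  have key : ∀ {f' : ℕ → ℕ} {g' : Grp}, Fm f' g' → (eqB mBases f f' = true ↔ g = g') := fun hf' =>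
    ⟨fun e => eqM e hf hf', fun e => Fn.eqB_of_eq bases_lt hf hf' (congrArg Subtype.val e)⟩
  rw [key Fm.one, key um_spec, key vm_spec.1, key (um_spec.mul vm_spec.1)]

theorem four_fix : (tm ∉ four) ∧ ∀ w ∈ four, (w ≠ 1 → fixNum ((tm * w : Grp) : Perm (Fin 276)) = 12) ∧
    fixNum ((me rC.1 * w : Grp) : Perm (Fin 276)) = 12 := by
  obtain ⟨-, ht, -, -, -, -, -, -, -, hw1, hw2⟩ := four_ok
  obtain ⟨hr, -⟩ := inCent_one m_perm_two.2.2.2.2.2.2.1 wit_ok.1
  refine ⟨fun h => ?_, fun w hw => ?_⟩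
  · rw [(four_scan tm_spec).mpr h] at ht
    exact Bool.noConfusion ht
  · obtain ⟨f, hfm, hf⟩ : ∃ f ∈ vFour, Fm f w := by
      rcases mem_four.mp hw with rfl | rfl | rfl | rfl
      · exact ⟨id, by simp [vFour], Fm.one⟩
      · exact ⟨ap uM, by simp [vFour], um_spec⟩
      · exact ⟨ap vC.1, by simp [vFour], vm_spec.1⟩
      · exact ⟨_, by simp [vFour], um_spec.mul vm_spec.1⟩
    refine ⟨fun hne => ?_, (fix_num (hr.mul hf)).symm.trans (Nat.eq_of_beq_eq_true (List.all_eq_true.mp hw2 f hfm))⟩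
    have h := List.all_eq_true.mp hw1 f hfm
    rw [Bool.or_eq_true] at h
    rcases h with h | h
    · exact absurd (eqM h hf Fm.one) hne
    · exact (fix_num (tm_spec.mul hf)).symm.trans (Nat.eq_of_beq_eq_true h)

theorem ct_center {x : Grp} (hx : x ∈ ctSub) (hc : ∀ y ∈ ctSub, x * y * x⁻¹ * y⁻¹ ∈ four) :
    x ∈ four ∨ x * tm ∈ four := by
  have hm : (x : Perm (Fin 276)) ∈ prodSet 276 tTwoChain := by
    rw [ct_card.2.2, ct_card.2.1]; exact mem_map_of_mem Grp.subtype hx
  obtain ⟨ix, hix, he⟩ := exists_idx _ hm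
  have hF : Fm (evalT tTwoChain ix) x := he
  have h := List.all_eq_true.mp t_two_ok.2.2.2.2.2 ix hix
  simp only [tCenB, Bool.or_eq_true, List.any_eq_true, List.mem_range, Bool.not_eq_true'] at h
  rcases h with (h | h) | ⟨a, ha, h⟩
  · exact Or.inl ((four_scan hF).mp h)
  · exact Or.inr ((four_scan (hF.mul tm_spec)).mp h)
  · exfalso
    have hp := m_perm_two.2.2.2.2.1
    obtain ⟨hg, he', hy⟩ := inCent hp t_two_ok.2.2.2.2.1 ha
    have hyct : me (tTwoGens.getD a 0) ∈ ctSub := ⟨mem_cv.mpr ⟨hy uM (by simp) um um_spec,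
      hy vC.1 (by simp) vm vm_spec.1⟩, mem_centralizer_singleton_iff.mpr (hy tM (by simp) tm tm_spec)⟩
    have hmem := hc _ hyct
    rw [← Bool.not_eq_true, List.any_eq_true] at h
    refine h ?_
    rcases mem_four.mp hmem with e | e | e | e
    all_goals rw [mul_inv_eq_iff_eq_mul, mul_inv_eq_iff_eq_mul] at e
    · exact ⟨id, by simp [vFour], Fn.eqB_of_eq bases_lt (hF.mul hg) (Fm.one.mul (hg.mul hF))
        (congrArg Subtype.val (e.trans (mul_assoc _ _ _)))⟩
    · exact ⟨ap uM, by simp [vFour], Fn.eqB_of_eq bases_lt (hF.mul hg) (um_spec.mul (hg.mul hF))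
        (congrArg Subtype.val (e.trans (mul_assoc _ _ _)))⟩
    · exact ⟨ap vC.1, by simp [vFour], Fn.eqB_of_eq bases_lt (hF.mul hg) (vm_spec.1.mul (hg.mul hF))
        (congrArg Subtype.val (e.trans (mul_assoc _ _ _)))⟩
    · exact ⟨fun b => ap uM (ap vC.1 b), by simp [vFour], Fn.eqB_of_eq bases_lt (hF.mul hg)
        ((um_spec.mul vm_spec.1).mul (hg.mul hF)) (congrArg Subtype.val (e.trans (mul_assoc _ _ _)))⟩

theorem equiv_co3 : Nonempty (Grp ≃* ↥Cfsg.Spor.Co3) ∧ IsSimpleGroup Grp := by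
  obtain ⟨-, -, ⟨e⟩⟩ := CfsgLeech.Models.co3_model
  obtain ⟨e1⟩ := CfsgLeech.spor_co3_equiv
  let e2 : Grp ≃* ↥(MulAction.stabilizer ↥Cfsg.Co0
      (⟨CfsgLeech.uStd, CfsgLeech.uStd_mem⟩ : ↥Cfsg.leechLattice)) :=
    (MulEquiv.subgroupCongr closed.2.2).trans e.symm
  refine ⟨⟨e2.trans e1.symm⟩, ?_⟩
  haveI := CfsgLeech.co3_simple
  exact e2.isSimpleGroup

end CfsgLib.Co3Recog.M
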