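/-
A finite group in which the centraliser of an involution is a four-group of conjugate involutions has order 12 or 60.
-/
import Mathlib.GroupTheory.Sylow
import Mathlib.GroupTheory.OrderOfElement
import Mathlib.Data.Finset.Card
import Mathlib.Algebra.BigOperators.Ring.Finset
import Mathlib.Tactic

set_option autoImplicit false
set_option linter.unusedSectionVars false
set_option linter.style.haveILetI false

namespace CfsgLib.Co3Recog.Count

open Subgroup Finset

variable {Y : Type*} [Group Y] [Finite Y]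

theorem mem_cent {x g : Y} : g ∈ centralizer ({x} : Set Y) ↔ g * x = x * g := mem_centralizer_singleton_iff

theorem inv_eq_of_invol {i : Y} (hi : orderOf i = 2) : i⁻¹ = i :=
  inv_eq_of_mul_eq_one_right (by rw [← sq, ← hi]; exact pow_orderOf_eq_one i)

/-- Every involution has a four-group as centraliser. -/
structure Hyp (Y : Type*) [Group Y] : Prop where
  card : ∀ i : Y, orderOf i = 2 → Nat.card (centralizer ({i} : Set Y)) = 4
  sq : ∀ i : Y, orderOf i = 2 → ∀ x ∈ centralizer ({i} : Set Y), x ^ 2 = 1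
  conj : ∀ i j : Y, orderOf i = 2 → orderOf j = 2 → IsConj i j

theorem hyp_of {i : Y} (hi : orderOf i = 2) (hC : Nat.card (centralizer ({i} : Set Y)) = 4)
    (hK : ∀ x ∈ centralizer ({i} : Set Y), x ^ 2 = 1)
    (hfuse : ∀ x ∈ centralizer ({i} : Set Y), x ≠ 1 → IsConj i x) : Hyp Y := by
  classical
  haveI : Fact (Nat.Prime 2) := ⟨Nat.prime_two⟩
  set K := centralizer ({i} : Set Y) with hKdef
  have hKp : IsPGroup 2 K := IsPGroup.of_card (n := 2) (by rw [hC]; norm_num)
  obtain ⟨P, hKP⟩ := hKp.exists_le_sylow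
  have hiK : i ∈ K := mem_cent.mpr rfl
  haveI : Nontrivial (P : Subgroup Y) :=
    ⟨⟨⟨i, hKP hiK⟩, 1, fun e => by rw [show i = 1 from congrArg Subtype.val e, orderOf_one] at hi; omega⟩⟩
  haveI := P.isPGroup'.center_nontrivial
  obtain ⟨j, hj, hj1⟩ := (Subgroup.center (P : Subgroup Y)).bot_or_exists_ne_one.resolve_left
    (Subgroup.nontrivial_iff_ne_bot _ |>.mp inferInstance)
  have hjK : (j : Y) ∈ K := mem_cent.mpr (congrArg Subtype.val (mem_center_iff.mp hj ⟨i, hKP hiK⟩)).symm
  have hj1' : (j : Y) ≠ 1 := fun e => hj1 (Subtype.ext e)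
  obtain ⟨g, hg⟩ := isConj_iff.mp (hfuse _ hjK hj1')
  have htrans : ∀ x : Y, x ∈ centralizer ({(j : Y)} : Set Y) ↔ g⁻¹ * x * g ∈ K := fun x => by
    rw [mem_cent, mem_cent, ← hg]
    constructor
    · intro h
      have := congrArg (fun z => g⁻¹ * z * g) h
      simpa [mul_assoc] using this
    · intro h
      have := congrArg (fun z => g * z * g⁻¹) h
      simpa [mul_assoc] using this
  have hPj : ∀ x ∈ (P : Subgroup Y), x ∈ centralizer ({(j : Y)} : Set Y) := fun x hx =>
    mem_cent.mpr (congrArg Subtype.val (mem_center_iff.mp hj ⟨x, hx⟩))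
  have hcardP : Nat.card (P : Subgroup Y) ≤ 4 := by
    rw [← hC]
    exact Nat.card_le_card_of_injective (fun x : (P : Subgroup Y) => (⟨g⁻¹ * x * g, (htrans x).mp (hPj x x.2)⟩ : K))
      fun a b e => Subtype.ext (by simpa using congrArg Subtype.val e)
  have hPK : (P : Subgroup Y) = K := (eq_of_le_of_card_ge hKP (hC ▸ hcardP)).symm
  have hall : ∀ x : Y, orderOf x = 2 → IsConj i x := by
    intro x hx
    have hxp : IsPGroup 2 (zpowers x) := IsPGroup.of_card (n := 1) (by rw [Nat.card_zpowers, hx, pow_one])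
    obtain ⟨Q, hQ⟩ := hxp.exists_le_sylow
    obtain ⟨h, rfl⟩ := MulAction.exists_smul_eq Y P Q
    have hxQ : x ∈ ((h • P : Sylow 2 Y) : Subgroup Y) := hQ (mem_zpowers x)
    rw [Sylow.coe_subgroup_smul, Subgroup.mem_pointwise_smul_iff_inv_smul_mem] at hxQ
    simp only [MulAut.smul_def, MulAut.conj_inv_apply, hPK] at hxQ
    have hne : h⁻¹ * x * h ≠ 1 := fun e => by
      rw [show x = 1 by
        have := congrArg (fun z => h * z * h⁻¹) e
        simpa [mul_assoc] using this, orderOf_one] at hx
      omega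
    exact (hfuse _ hxQ hne).trans (isConj_iff.mpr ⟨h, by simp [mul_assoc]⟩)
  refine ⟨fun x hx => ?_, fun x hx y hy => ?_, fun a b ha hb => (hall a ha).symm.trans (hall b hb)⟩
  · obtain ⟨h, rfl⟩ := isConj_iff.mp (hall x hx)
    rw [← hC]
    refine Nat.card_congr ((MulAut.conj h⁻¹).toEquiv.subtypeEquiv fun y => ?_)
    simp only [mem_cent, hKdef, MulEquiv.toEquiv_eq_coe, EquivLike.coe_coe, MulAut.conj_apply, inv_inv]
    constructor
    · intro e
      have := congrArg (fun z => h⁻¹ * z * h) e
      simpa [mul_assoc] using this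
    · intro e
      have := congrArg (fun z => h * z * h⁻¹) e
      simpa [mul_assoc] using this
  · obtain ⟨h, rfl⟩ := isConj_iff.mp (hall x hx)
    have : h⁻¹ * y * h ∈ K := mem_cent.mpr (by
      have := congrArg (fun z => h⁻¹ * z * h) (mem_cent.mp hy)
      simpa [mul_assoc] using this)
    have h2 := congrArg (fun z => h * z * h⁻¹) (hK _ this)
    simpa [sq, mul_assoc] using h2

variable (H : Hyp Y)
include H

theorem comm_of_mem {i x y : Y} (hi : orderOf i = 2) (hx : x ∈ centralizer ({i} : Set Y))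
    (hy : y ∈ centralizer ({i} : Set Y)) : Commute x y := by
  have h1 := H.sq i hi x hx
  have h2 := H.sq i hi y hy
  have h3 := H.sq i hi _ (mul_mem hx hy)
  rw [sq] at h1 h2 h3
  have e : ∀ {a : Y}, a * a = 1 → a⁻¹ = a := fun h => inv_eq_of_mul_eq_one_right h
  show x * y = y * x
  calc x * y = (x * y)⁻¹ := (e h3).symm
    _ = y⁻¹ * x⁻¹ := mul_inv_rev x y
    _ = y * x := by rw [e h1, e h2]

/-- A non-trivial element of odd order inverted by an involution. -/
def Real' (x : Y) : Prop := x ≠ 1 ∧ Odd (orderOf x) ∧ ∃ i : Y, orderOf i = 2 ∧ i * x * i = x⁻¹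

theorem cent_odd {x : Y} (hx : Real' x) : Odd (Nat.card (centralizer ({x} : Set Y))) := by
  rw [← Nat.not_even_iff_odd, even_iff_two_dvd]
  intro h
  obtain ⟨⟨j, hj⟩, hjo⟩ := exists_prime_orderOf_dvd_card' (hp := ⟨Nat.prime_two⟩) 2 h
  rw [Subgroup.orderOf_mk] at hjo
  have hd : orderOf x ∣ 2 := orderOf_dvd_of_pow_eq_one (H.sq j hjo x (mem_cent.mpr (mem_cent.mp hj).symm))
  rcases (Nat.dvd_prime Nat.prime_two).mp hd with e | e
  · exact hx.1 (orderOf_eq_one_iff.mp e)
  · have := hx.2.1
    rw [e] at this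
    exact absurd this (by decide)

theorem inverts {x i : Y} (hx : Real' x) (hi : orderOf i = 2) (hix : i * x * i = x⁻¹) {c : Y}
    (hc : c ∈ centralizer ({x} : Set Y)) : i * c * i = c⁻¹ := by
  classical
  have hii : i * i = 1 := by rw [← sq, ← hi]; exact pow_orderOf_eq_one i
  have key : ∀ d ∈ centralizer ({x} : Set Y), i * d * i ∈ centralizer ({x} : Set Y) := by
    intro d hd
    rw [mem_cent]
    have hdx : Commute d x⁻¹ := (show Commute d x from mem_cent.mp hd).inv_right
    have hxe : x = i * x⁻¹ * i := by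
      rw [← hix]
      simp [mul_assoc, hii]
      rw [← mul_assoc i i, hii, one_mul]
    rw [hxe]
    calc i * d * i * (i * x⁻¹ * i) = i * (d * ((i * i) * x⁻¹)) * i := by simp only [mul_assoc]
      _ = i * (x⁻¹ * ((i * i) * d)) * i := by rw [hii, one_mul, one_mul, hdx.eq]
      _ = _ := by simp only [mul_assoc]
  have hfix : ∀ d ∈ centralizer ({x} : Set Y), i * d * i = d → d = 1 := by
    intro d hd e
    have hdi : d ∈ centralizer ({i} : Set Y) := mem_cent.mpr (by
      conv_lhs => rw [← e]
      rw [mul_assoc (i * d) i i, hii, mul_one])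
    have h2 : orderOf d ∣ 2 := orderOf_dvd_of_pow_eq_one (H.sq i hi d hdi)
    have ho : Odd (orderOf d) := Odd.of_dvd_nat (cent_odd H hx)
      ((Subgroup.orderOf_coe (⟨d, hd⟩ : centralizer ({x} : Set Y))).symm ▸ orderOf_dvd_natCard _)
    rcases (Nat.dvd_prime Nat.prime_two).mp h2 with e' | e'
    · exact orderOf_eq_one_iff.mp e'
    · rw [e'] at ho
      exact absurd ho (by decide)
  let f : centralizer ({x} : Set Y) → centralizer ({x} : Set Y) := fun d =>
    ⟨(d : Y)⁻¹ * (i * d * i), mul_mem (inv_mem d.2) (key d d.2)⟩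
  have hinj : Function.Injective f := by
    intro a b e
    have e' : (a : Y)⁻¹ * (i * a * i) = (b : Y)⁻¹ * (i * b * i) := congrArg Subtype.val e
    have h := hfix ((b : Y) * (a : Y)⁻¹) (mul_mem b.2 (inv_mem a.2)) (by
      have hia : i * (a : Y)⁻¹ * i = (i * a * i)⁻¹ := by
        simp [mul_inv_rev, inv_eq_of_invol hi, mul_assoc]
      calc i * ((b : Y) * (a : Y)⁻¹) * i = (i * b * i) * (i * (a : Y)⁻¹ * i) := by
            simp only [mul_assoc]; rw [← mul_assoc i i, hii, one_mul]
        _ = (b : Y) * ((b : Y)⁻¹ * (i * b * i)) * (i * a * i)⁻¹ := by rw [hia, mul_inv_cancel_left]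
        _ = _ := by rw [← e']; group)
    exact Subtype.ext (mul_inv_eq_one.mp h).symm
  obtain ⟨d, hd⟩ := (Finite.injective_iff_surjective.mp hinj) ⟨c, hc⟩
  have hd' : (d : Y)⁻¹ * (i * d * i) = c := congrArg Subtype.val hd
  rw [← hd']
  calc i * ((d : Y)⁻¹ * (i * d * i)) * i = i * (d : Y)⁻¹ * i * d * (i * i) := by simp only [mul_assoc]
    _ = _ := by rw [hii, mul_one, mul_inv_rev, inv_inv, mul_inv_rev, mul_inv_rev, inv_eq_of_invol hi]; simp [mul_assoc]

theorem cent_comm {x : Y} (hx : Real' x) {a b : Y} (ha : a ∈ centralizer ({x} : Set Y))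
    (hb : b ∈ centralizer ({x} : Set Y)) : a * b = b * a := by
  obtain ⟨i, hi, hix⟩ := hx.2.2
  have hii : i * i = 1 := by rw [← sq, ← hi]; exact pow_orderOf_eq_one i
  have h := inverts H hx hi hix (mul_mem ha hb)
  have e : i * (a * b) * i = (i * a * i) * (i * b * i) := by
    simp only [mul_assoc]; rw [← mul_assoc i i, hii, one_mul]
  rw [e, inverts H hx hi hix ha, inverts H hx hi hix hb, ← mul_inv_rev, inv_inj] at h
  exact h.symm

theorem invol_mul {x i c : Y} (hx : Real' x) (hi : orderOf i = 2) (hix : i * x * i = x⁻¹)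
    (hc : c ∈ centralizer ({x} : Set Y)) : orderOf (i * c) = 2 := by
  refine orderOf_eq_prime ?_ ?_
  · rw [sq, show i * c * (i * c) = i * c * i * c by simp only [mul_assoc], inverts H hx hi hix hc, inv_mul_cancel]
  · intro e
    have ho : Odd (orderOf c) := Odd.of_dvd_nat (cent_odd H hx)
      ((Subgroup.orderOf_coe (⟨c, hc⟩ : centralizer ({x} : Set Y))).symm ▸ orderOf_dvd_natCard _)
    rw [show c = i⁻¹ from eq_inv_of_mul_eq_one_right e, orderOf_inv, hi] at ho
    exact absurd ho (by decide)

theorem real_mem {x y : Y} (hx : Real' x) (hy : y ∈ centralizer ({x} : Set Y)) (hy1 : y ≠ 1) :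
    Real' y ∧ centralizer ({y} : Set Y) = centralizer ({x} : Set Y) := by
  obtain ⟨i, hi, hix⟩ := hx.2.2
  have hyR : Real' y := ⟨hy1, Odd.of_dvd_nat (cent_odd H hx)
    ((Subgroup.orderOf_coe (⟨y, hy⟩ : centralizer ({x} : Set Y))).symm ▸ orderOf_dvd_natCard _),
    i, hi, inverts H hx hi hix hy⟩
  refine ⟨hyR, le_antisymm (fun z hz => ?_) fun z hz => mem_cent.mpr (cent_comm H hx hz hy)⟩
  exact mem_cent.mpr (cent_comm H hyR hz (mem_cent.mpr (mem_cent.mp hy).symm))

theorem card_normalizer {x : Y} (hx : Real' x) :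
    Nat.card (Subgroup.normalizer ((centralizer ({x} : Set Y) : Subgroup Y) : Set Y)) =
      2 * Nat.card (centralizer ({x} : Set Y)) := by
  classical
  obtain ⟨i, hi, hix⟩ := hx.2.2
  have hii : i * i = 1 := by rw [← sq, ← hi]; exact pow_orderOf_eq_one i
  set A := centralizer ({x} : Set Y) with hA
  set N := Subgroup.normalizer (A : Set Y) with hN
  have hodd : Odd (Nat.card A) := cent_odd H hx
  have hoA : ∀ a ∈ A, Odd (orderOf a) := fun a ha => Odd.of_dvd_nat hodd
    ((Subgroup.orderOf_coe (⟨a, ha⟩ : A)).symm ▸ orderOf_dvd_natCard _)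
  have hiA : i ∉ A := fun h => by
    have := hoA i h
    rw [hi] at this
    exact absurd this (by decide)
  have hiN : i ∈ N := by
    rw [hN, Subgroup.mem_normalizer_iff]
    intro a
    rw [inv_eq_of_invol hi]
    refine ⟨fun ha => by rw [inverts H hx hi hix ha]; exact inv_mem ha, fun ha => ?_⟩
    have h := inverts H hx hi hix ha
    have e : i * (i * a * i) * i = a := by
      simp only [mul_assoc]; rw [hii, mul_one, ← mul_assoc, hii, one_mul]
    rw [e] at h
    rw [h]
    exact inv_mem ha
  have hout : ∀ n ∈ N, n ∈ A ∨ i * n ∈ A := by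
    intro n hn
    have hnA : ∀ a, a ∈ A ↔ n * a * n⁻¹ ∈ A := Subgroup.mem_normalizer_iff.mp hn
    set j := n * i * n⁻¹ with hj
    have hjo : orderOf j = 2 := by rw [hj, ← MulAut.conj_apply, MulEquiv.orderOf_eq, hi]
    have hjj : j * j = 1 := by rw [← sq, ← hjo]; exact pow_orderOf_eq_one j
    have hjinv : ∀ a ∈ A, j * a * j = a⁻¹ := by
      intro a ha
      have hb : n⁻¹ * a * n ∈ A := (hnA _).mpr (by simpa [mul_assoc] using ha)
      have h := congrArg (fun z => n * z * n⁻¹) (inverts H hx hi hix hb)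
      rw [hj]
      simpa [mul_assoc, mul_inv_rev] using h
    have hij : i * j ∈ A := by
      rw [hA, mem_cent]
      have e1 := hjinv x (mem_cent.mpr rfl)
      have e2 := hix
      calc i * j * x = i * (j * x * j) * j := by simp only [mul_assoc]; rw [hjj, mul_one]
        _ = i * x⁻¹ * j := by rw [e1]
        _ = i * (i * x * i) * j := by rw [e2]
        _ = x * (i * j) := by simp only [mul_assoc]; rw [← mul_assoc i i, hii, one_mul]
    obtain ⟨b, hbA, hb⟩ : ∃ b ∈ A, b ^ 2 = i * j := by
      obtain ⟨m, hm⟩ := hoA _ hij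
      refine ⟨(i * j) ^ (m + 1), pow_mem hij _, ?_⟩
      rw [← pow_mul, show (m + 1) * 2 = (2 * m + 1) + 1 by ring, ← hm, pow_succ, pow_orderOf_eq_one, one_mul]
    -- `b⁻¹ i b = i b² = j`
    have hb' : b⁻¹ * i * b = j := by
      have h := inverts H hx hi hix hbA
      rw [← h]
      calc i * b * i * i * b = i * (b * b) := by simp only [mul_assoc]; rw [← mul_assoc i i, hii, one_mul]
        _ = j := by rw [← sq, hb, ← mul_assoc, hii, one_mul]
    have hc : b * n ∈ centralizer ({i} : Set Y) := by
      rw [mem_cent]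
      calc b * n * i = b * j * n := by rw [hj]; group
        _ = i * (b * n) := by rw [← hb']; group
    by_contra hcon
    push Not at hcon
    -- `b n` is `1` or `i` modulo `A`; otherwise it gives an involution normalising `A`
    set m := b * n with hm
    have hm1 : m ≠ 1 := fun e => hcon.1 (by
      rw [show n = b⁻¹ from eq_inv_of_mul_eq_one_right (hm ▸ e)]; exact inv_mem hbA)
    have hmo : orderOf m = 2 := orderOf_eq_prime (H.sq i hi m hc) hm1
    have hmN : ∀ a, a ∈ A ↔ m * a * m⁻¹ ∈ A :=
      Subgroup.mem_normalizer_iff.mp (mul_mem (Subgroup.le_normalizer hbA) hn)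
    have hmm : m * m = 1 := by rw [← sq, ← hmo]; exact pow_orderOf_eq_one m
    have hxinv : m * x * m = x⁻¹ := by
      have hcm : m * x * m ∈ A := by
        have := (hmN x).mp (mem_cent.mpr rfl)
        rwa [inv_eq_of_invol hmo] at this
      -- `x * (m x m)` is fixed by `m`
      set d := x * (m * x * m) with hd
      have hdA : d ∈ A := mul_mem (mem_cent.mpr rfl) hcm
      have hdm : d * m = m * d := by
        rw [hd]
        calc x * (m * x * m) * m = (m * x * m) * x * (1 : Y) * m := by
              rw [mul_one, cent_comm H hx (mem_cent.mpr rfl) hcm]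
          _ = m * (x * (m * x * m)) := by simp only [mul_assoc, one_mul, mul_one]
      have h2 : orderOf d ∣ 2 := orderOf_dvd_of_pow_eq_one (H.sq m hmo d (mem_cent.mpr hdm))
      rcases (Nat.dvd_prime Nat.prime_two).mp h2 with e | e
      · exact (eq_inv_of_mul_eq_one_right (orderOf_eq_one_iff.mp e))
      · have := hoA d hdA
        rw [e] at this
        exact absurd this (by decide)
    have him : i * m ∈ A := by
      rw [hA, mem_cent]
      calc i * m * x = i * (m * x * m) * m := by simp only [mul_assoc]; rw [hmm, mul_one]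
        _ = i * x⁻¹ * m := by rw [hxinv]
        _ = i * (i * x * i) * m := by rw [hix]
        _ = x * (i * m) := by simp only [mul_assoc]; rw [← mul_assoc i i, hii, one_mul]
    refine hcon.2 ?_
    have e : i * n = (i * b⁻¹ * i) * (i * m) := by
      rw [hm]; simp only [mul_assoc]; rw [← mul_assoc i i, hii, one_mul, inv_mul_cancel_left]
    rw [e, inverts H hx hi hix (inv_mem hbA), inv_inv]
    exact mul_mem hbA him
  let f : A × Fin 2 → N := fun p => ⟨i ^ (p.2 : ℕ) * p.1, mul_mem (pow_mem hiN _) (Subgroup.le_normalizer p.1.2)⟩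
  have hf : Function.Bijective f := by
    refine ⟨fun p q e => ?_, fun n => ?_⟩
    · have e' : i ^ (p.2 : ℕ) * (p.1 : Y) = i ^ (q.2 : ℕ) * (q.1 : Y) := congrArg Subtype.val e
      obtain ⟨⟨a, ha⟩, u⟩ := p
      obtain ⟨⟨b, hb⟩, v⟩ := q
      simp only at e'
      fin_cases u <;> fin_cases v <;> simp at e'
      · exact Prod.ext (Subtype.ext e') rfl
      · exact absurd ((mul_inv_eq_iff_eq_mul.mpr e').symm ▸ mul_mem ha (inv_mem hb)) hiA
      · exact absurd ((mul_inv_eq_iff_eq_mul.mpr e'.symm).symm ▸ mul_mem hb (inv_mem ha)) hiA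
      · exact Prod.ext (Subtype.ext e') rfl
    · rcases hout n n.2 with h | h
      · exact ⟨(⟨n, h⟩, 0), Subtype.ext (by simp [f])⟩
      · exact ⟨(⟨_, h⟩, 1), Subtype.ext (by simp [f, ← mul_assoc, hii])⟩
  rw [← Nat.card_eq_of_bijective f hf, Nat.card_prod, Nat.card_fin, mul_comm]

theorem card_fiber {i : Y} (hi : orderOf i = 2) :
    Nat.card {j : Y // orderOf j = 2 ∧ Commute i j} = 3 := by
  classical
  have h4 := H.card i hi
  haveI := Fintype.ofFinite Y
  set S : Finset Y := Finset.univ.filter fun j => j ∈ centralizer ({i} : Set Y) with hS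
  have hS4 : S.card = 4 := by rw [← h4, Nat.card_eq_fintype_card]; exact (Fintype.card_subtype _).symm
  rw [Nat.card_eq_fintype_card, Fintype.card_subtype,
    show (Finset.univ.filter fun j : Y => orderOf j = 2 ∧ Commute i j) = S.erase 1 from ?_,
    Finset.card_erase_of_mem (by simp [hS, one_mem]), hS4]
  ext j
  simp only [mem_filter, mem_univ, true_and, mem_erase, hS, mem_cent]
  exact ⟨fun ⟨h, hc⟩ => ⟨fun e => by rw [e, orderOf_one] at h; omega, hc.eq.symm⟩,
    fun ⟨h1, hc⟩ => ⟨orderOf_eq_prime (H.sq i hi j (mem_cent.mpr hc)) h1, hc.symm⟩⟩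

theorem card_eq (hne : ∃ i : Y, orderOf i = 2) : Nat.card Y = 12 ∨ Nat.card Y = 60 := by
  classical
  haveI := Fintype.ofFinite Y
  obtain ⟨i₀, hi₀⟩ := hne
  set g := Fintype.card Y with hg
  set I : Finset Y := Finset.univ.filter fun j => orderOf j = 2 with hI
  have hmI : ∀ j, j ∈ I ↔ orderOf j = 2 := by simp [hI]
  -- the number of involutions
  have hgI : g = 4 * I.card := by
    have hmap : ∀ y ∈ (Finset.univ : Finset Y), y * i₀ * y⁻¹ ∈ I := fun y _ => by
      rw [hmI, ← MulAut.conj_apply, MulEquiv.orderOf_eq, hi₀]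
    rw [hg, ← Finset.card_univ, Finset.card_eq_sum_card_fiberwise hmap, mul_comm]
    refine Finset.sum_const_nat fun j hj => ?_
    obtain ⟨h, rfl⟩ := isConj_iff.mp (H.conj i₀ j hi₀ ((hmI j).mp hj))
    rw [← H.card i₀ hi₀, Nat.card_eq_fintype_card, ← Fintype.card_subtype]
    refine Fintype.card_congr ((Equiv.mulLeft h⁻¹).subtypeEquiv fun y => ?_)
    simp only [mem_cent, Equiv.coe_mulLeft]
    constructor
    · intro e
      have := congrArg (fun z => h⁻¹ * z * y) e
      simpa [mul_assoc] using this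
    · intro e
      have := congrArg (fun z => h * z * y⁻¹) e
      simpa [mul_assoc] using this
  set X : Finset Y := Finset.univ.filter fun x => Real' x with hX
  have hmX : ∀ x, x ∈ X ↔ Real' x := by simp [hX]
  set P : Finset (Y × Y) := (I ×ˢ I).filter fun p => ¬ Commute p.1 p.2 with hP
  -- pairs of involutions
  have hPcard : P.card + 3 * I.card = I.card * I.card := by
    have h1 : ((I ×ˢ I).filter fun p => Commute p.1 p.2).card = 3 * I.card := by
      have hmap : ∀ p ∈ ((I ×ˢ I).filter fun p => Commute p.1 p.2), p.1 ∈ I := fun p hp =>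
        (Finset.mem_product.mp (Finset.mem_filter.mp hp).1).1
      rw [Finset.card_eq_sum_card_fiberwise hmap, mul_comm]
      refine Finset.sum_const_nat fun a ha => ?_
      rw [← card_fiber H ((hmI a).mp ha), Nat.card_eq_fintype_card, Fintype.card_subtype]
      refine Finset.card_bij (fun p _ => p.2) (fun p hp => ?_) (fun p hp q hq e => ?_) (fun b hb => ⟨(a, b), ?_, rfl⟩)
      · simp only [mem_filter, mem_product, hmI] at hp
        simp only [mem_filter, mem_univ, true_and]
        exact ⟨hp.1.1.2, hp.2 ▸ hp.1.2⟩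
      · simp only [mem_filter] at hp hq
        exact Prod.ext (hp.2.trans hq.2.symm) e
      · simp only [mem_filter, mem_univ, true_and] at hb
        simp only [mem_filter, mem_product, hmI, and_true]
        exact ⟨⟨(hmI a).mp ha, hb.1⟩, hb.2⟩
    have h2 := Finset.card_filter_add_card_filter_not (s := I ×ˢ I) (fun p : Y × Y => Commute p.1 p.2)
    rw [h1, Finset.card_product] at h2
    rw [hP]; omega
  have hprod : ∀ p ∈ P, p.1 * p.2 ∈ X := by
    rintro ⟨a, b⟩ hp
    simp only [hP, mem_filter, mem_product, hmI] at hp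
    obtain ⟨⟨ha, hb⟩, hab⟩ := hp
    show a * b ∈ X
    have haa : a * a = 1 := by rw [← sq, ← ha]; exact pow_orderOf_eq_one a
    have hbb : b * b = 1 := by rw [← sq, ← hb]; exact pow_orderOf_eq_one b
    have hne1 : a * b ≠ 1 := fun e => hab (by
      rw [show b = a⁻¹ from eq_inv_of_mul_eq_one_right e]; exact (Commute.refl a).inv_right)
    have hinvab : a * (a * b) * a = (a * b)⁻¹ := by
      rw [mul_inv_rev, inv_eq_of_invol ha, inv_eq_of_invol hb, ← mul_assoc, haa, one_mul]
    refine (hmX _).mpr ⟨hne1, ?_, a, ha, hinvab⟩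
    by_contra hodd
    obtain ⟨m, hm⟩ := Nat.not_odd_iff_even.mp hodd
    have hpos := orderOf_pos (a * b)
    set z := (a * b) ^ m with hz
    have hz1 : z ≠ 1 := pow_ne_one_of_lt_orderOf (by omega) (by omega)
    have hzz : z * z = 1 := by rw [hz, ← pow_add, ← hm, pow_orderOf_eq_one]
    have hzo : orderOf z = 2 := orderOf_eq_prime (by rw [sq, hzz]) hz1
    have hza : z * a = a * z := by
      have h : a * z * a = z⁻¹ := by
        have hc : MulAut.conj a (a * b) = (a * b)⁻¹ := by rw [MulAut.conj_apply, inv_eq_of_invol ha, hinvab]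
        have := congrArg (fun u => u ^ m) hc
        rw [← map_pow, inv_pow, MulAut.conj_apply, inv_eq_of_invol ha] at this
        exact this
      rw [inv_eq_of_mul_eq_one_right hzz] at h
      calc z * a = a * z * a * a := by rw [h]
        _ = a * z := by rw [mul_assoc, haa, mul_one]
    have hzb : z * b = b * z := by
      have h1 : Commute z (a * b) := (Commute.refl _).pow_left m
      have h2 : Commute z a := hza
      have h3 : Commute z (a * (a * b)) := h2.mul_right h1
      rwa [← mul_assoc, haa, one_mul] at h3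
    exact hab (comm_of_mem H hzo (mem_cent.mpr hza.symm) (mem_cent.mpr hzb.symm))
  have hfib : ∀ x ∈ X, (P.filter fun p => p.1 * p.2 = x).card = Nat.card (centralizer ({x} : Set Y)) := by
    intro x hx
    have hxr := (hmX x).mp hx
    obtain ⟨i, hi, hix⟩ := hxr.2.2
    have hii : i * i = 1 := by rw [← sq, ← hi]; exact pow_orderOf_eq_one i
    rw [Nat.card_eq_fintype_card, Fintype.card_subtype]
    refine Finset.card_bij (fun p _ => i * p.1) (fun p hp => ?_) (fun p hp q hq e => ?_) (fun c hc => ?_)
    · simp only [hP, mem_filter, mem_product, hmI] at hp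
      obtain ⟨⟨⟨ha, hb⟩, -⟩, hpx⟩ := hp
      simp only [mem_filter, mem_univ, true_and, mem_cent]
      have haa : p.1 * p.1 = 1 := by rw [← sq, ← ha]; exact pow_orderOf_eq_one p.1
      have hax : p.1 * x * p.1 = x⁻¹ := by
        rw [← hpx, mul_inv_rev, inv_eq_of_invol ha, inv_eq_of_invol hb, ← mul_assoc, haa, one_mul]
      calc i * p.1 * x = i * (p.1 * x * p.1) * p.1 := by simp only [mul_assoc]; rw [haa, mul_one]
        _ = i * (i * x * i) * p.1 := by rw [hax, hix]
        _ = x * (i * p.1) := by simp only [mul_assoc]; rw [← mul_assoc i i, hii, one_mul]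
    · simp only [mem_filter] at hp hq
      have e1 : p.1 = q.1 := mul_left_cancel e
      exact Prod.ext e1 (by have := hp.2.trans hq.2.symm; rw [e1] at this; exact mul_left_cancel this)
    · simp only [mem_filter, mem_univ, true_and] at hc
      have ha := invol_mul H hxr hi hix hc
      have hcx : c * x ∈ centralizer ({x} : Set Y) := mul_mem hc (mem_cent.mpr rfl)
      refine ⟨(i * c, i * c * x), ?_, by simp [← mul_assoc, hii]⟩
      simp only [hP, mem_filter, mem_product, hmI]
      refine ⟨⟨⟨ha, by rw [mul_assoc]; exact invol_mul H hxr hi hix hcx⟩, fun hcom => ?_⟩, ?_⟩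
      · have hsq : (i * c) * (i * c * x) = x := by
          rw [← mul_assoc, ← sq, ← ha, pow_orderOf_eq_one, one_mul]
        have h2 : x ^ 2 = 1 := by
          rw [← hsq, hcom.mul_pow, ← ha, pow_orderOf_eq_one, one_mul, ha,
            ← show orderOf (i * c * x) = 2 by rw [mul_assoc]; exact invol_mul H hxr hi hix hcx, pow_orderOf_eq_one]
        rcases (Nat.dvd_prime Nat.prime_two).mp (orderOf_dvd_of_pow_eq_one h2) with e | e
        · exact hxr.1 (orderOf_eq_one_iff.mp e)
        · have := hxr.2.1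
          rw [e] at this
          exact absurd this (by decide)
      · rw [← mul_assoc, ← sq, ← ha, pow_orderOf_eq_one, one_mul]
  have hsum : P.card = ∑ x ∈ X, Nat.card (centralizer ({x} : Set Y)) :=
    (Finset.card_eq_sum_card_fiberwise hprod).trans (Finset.sum_congr rfl hfib)
  -- orbits of the centralisers
  let orb : Subgroup Y → Finset (Subgroup Y) := fun A =>
    Finset.univ.image fun y : Y => A.map (MulAut.conj y).toMonoidHom
  set O : Finset (Finset (Subgroup Y)) := X.image fun x => orb (centralizer ({x} : Set Y)) with hO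
  have hblock : ∀ x ∈ X, ∀ a : ℕ, Nat.card (centralizer ({x} : Set Y)) = a →
      (X.filter fun y => orb (centralizer ({y} : Set Y)) = orb (centralizer ({x} : Set Y))).card * (2 * a) =
        g * (a - 1) ∧
      (∀ y ∈ X, orb (centralizer ({y} : Set Y)) = orb (centralizer ({x} : Set Y)) →
        Nat.card (centralizer ({y} : Set Y)) = a) := by
    intro x hx a ha
    have hxr := (hmX x).mp hx
    set A := centralizer ({x} : Set Y) with hA
    have hself : ∀ B : Subgroup Y, B ∈ orb B := fun B =>
      Finset.mem_image.mpr ⟨1, Finset.mem_univ _, by ext z; simp⟩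
    have hsame : ∀ B, B ∈ orb A → orb B = orb A := by
      intro B hB
      obtain ⟨y, -, rfl⟩ := Finset.mem_image.mp hB
      ext C
      simp only [orb, Finset.mem_image, mem_univ, true_and]
      constructor
      · rintro ⟨k, rfl⟩
        exact ⟨k * y, by rw [Subgroup.map_map]; congr 1; ext z; simp [mul_assoc]⟩
      · rintro ⟨k, rfl⟩
        exact ⟨k * y⁻¹, by rw [Subgroup.map_map]; congr 1; ext z; simp [mul_assoc]⟩
    have hcardB : ∀ B ∈ orb A, Nat.card B = a := by
      intro B hB
      obtain ⟨y, -, rfl⟩ := Finset.mem_image.mp hB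
      rw [Subgroup.card_map_of_injective (MulAut.conj y).injective, ha]
    have hcentB : ∀ B ∈ orb A, ∀ z ∈ B, z ≠ 1 → z ∈ X ∧ centralizer ({z} : Set Y) = B := by
      intro B hB z hz hz1
      obtain ⟨y, -, rfl⟩ := Finset.mem_image.mp hB
      obtain ⟨w, hw, rfl⟩ := Subgroup.mem_map.mp hz
      simp only [MulEquiv.coe_toMonoidHom, MulAut.conj_apply] at hz1 ⊢
      obtain ⟨⟨hw1, hwo, k, hk, hkw⟩, hwA⟩ := real_mem H hxr hw (fun e => hz1 (by simp [e]))
      refine ⟨(hmX _).mpr ⟨hz1, ?_, y * k * y⁻¹, ?_, ?_⟩, ?_⟩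
      · rwa [← MulAut.conj_apply, MulEquiv.orderOf_eq]
      · rw [← MulAut.conj_apply, MulEquiv.orderOf_eq, hk]
      · have := congrArg (MulAut.conj y) hkw
        simpa [mul_assoc] using this
      · ext v
        rw [Subgroup.mem_map_equiv, ← show centralizer ({w} : Set Y) = A from hwA, mem_cent, mem_cent]
        simp only [MulAut.conj_symm_apply]
        constructor
        · intro e
          have := congrArg (fun u => y⁻¹ * u * y) e
          simpa [mul_assoc] using this
        · intro e
          have := congrArg (fun u => y * u * y⁻¹) e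
          simpa [mul_assoc] using this
    have hblockeq : (X.filter fun y => orb (centralizer ({y} : Set Y)) = orb A) =
        X.filter fun y => centralizer ({y} : Set Y) ∈ orb A := by
      refine Finset.filter_congr fun y _ => ⟨fun e => e ▸ hself _, hsame _⟩
    refine ⟨?_, fun y hy e => hcardB _ (e ▸ hself _)⟩
    rw [hblockeq, Finset.card_eq_sum_card_fiberwise (s := X.filter fun y => centralizer ({y} : Set Y) ∈ orb A)
      (t := orb A) (f := fun y => centralizer ({y} : Set Y)) (fun y hy => (Finset.mem_filter.mp hy).2)]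
    have hfibA : ∀ B ∈ orb A, ((X.filter fun y => centralizer ({y} : Set Y) ∈ orb A).filter
        fun y => centralizer ({y} : Set Y) = B).card = a - 1 := by
      intro B hB
      rw [← hcardB B hB, Nat.card_eq_fintype_card, Fintype.card_subtype,
        ← Finset.card_erase_of_mem (show (1 : Y) ∈ Finset.univ.filter fun z => z ∈ B by simp [one_mem])]
      congr 1
      ext z
      simp only [mem_filter, mem_erase, mem_univ, true_and, hmX]
      exact ⟨fun ⟨⟨hz, _⟩, e⟩ => ⟨hz.1, e ▸ mem_cent.mpr rfl⟩,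
        fun ⟨h1, hz⟩ => ⟨⟨(hmX z).mp (hcentB B hB z hz h1).1, (hcentB B hB z hz h1).2.symm ▸ hB⟩,
          (hcentB B hB z hz h1).2⟩⟩
    rw [Finset.sum_congr rfl hfibA, Finset.sum_const, smul_eq_mul]
    have hor : g = (orb A).card * (2 * a) := by
      have hmap : ∀ y ∈ (Finset.univ : Finset Y), A.map (MulAut.conj y).toMonoidHom ∈ orb A := fun y _ =>
        Finset.mem_image.mpr ⟨y, Finset.mem_univ _, rfl⟩
      rw [hg, ← Finset.card_univ, Finset.card_eq_sum_card_fiberwise hmap]
      refine Finset.sum_const_nat fun B hB => ?_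
      obtain ⟨h, -, rfl⟩ := Finset.mem_image.mp hB
      rw [← ha, ← card_normalizer H hxr, Nat.card_eq_fintype_card, ← Fintype.card_subtype]
      refine Fintype.card_congr ((Equiv.mulLeft h⁻¹).subtypeEquiv fun y => ?_)
      rw [Equiv.coe_mulLeft, Subgroup.mem_normalizer_iff]
      constructor
      · intro e z
        have e' : ∀ v, v ∈ A.map (MulAut.conj y).toMonoidHom ↔ v ∈ A.map (MulAut.conj h).toMonoidHom :=
          fun v => by rw [e]
        simp only [Subgroup.mem_map_equiv, MulAut.conj_symm_apply] at e'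
        have := e' (y * z * y⁻¹)
        simpa [mul_assoc] using this
      · intro e
        ext v
        simp only [Subgroup.mem_map_equiv, MulAut.conj_symm_apply]
        rw [e (y⁻¹ * v * y)]
        simp [mul_assoc, hA]
    rw [hor]
    ring
  have hOx : ∀ x ∈ X, orb (centralizer ({x} : Set Y)) ∈ O := fun x hx => Finset.mem_image.mpr ⟨x, hx, rfl⟩
  choose rep hrepX hrep using fun o (ho : o ∈ O) => Finset.mem_image.mp ho
  let val : Finset (Subgroup Y) → ℕ := fun o => if h : o ∈ O then Nat.card (centralizer ({rep o h} : Set Y)) else 0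
  have hval : ∀ o ∈ O, 3 ≤ val o ∧ val o ∣ g ∧ Odd (val o) ∧
      (X.filter fun y => orb (centralizer ({y} : Set Y)) = o).card * (2 * val o) = g * (val o - 1) ∧
      ∑ y ∈ X.filter (fun y => orb (centralizer ({y} : Set Y)) = o), Nat.card (centralizer ({y} : Set Y)) * 2 =
        g * (val o - 1) := by
    intro o ho
    have hxr := (hmX _).mp (hrepX o ho)
    have hv : val o = Nat.card (centralizer ({rep o ho} : Set Y)) := dif_pos ho
    obtain ⟨h1, h2⟩ := hblock _ (hrepX o ho) _ hv.symm
    have hr := hrep o ho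
    rw [hr] at h1 h2
    have ho' : Odd (val o) := hv ▸ cent_odd H hxr
    refine ⟨?_, hv ▸ ?_, ho', h1, ?_⟩
    · have hne : 1 < val o := by
        rw [hv]
        exact Finite.one_lt_card_iff_nontrivial.mpr
          ⟨⟨⟨rep o ho, mem_cent.mpr rfl⟩, 1, fun e => hxr.1 (congrArg Subtype.val e)⟩⟩
      obtain ⟨m, hm⟩ := ho'
      omega
    · rw [hg, ← Nat.card_eq_fintype_card]
      exact Subgroup.card_subgroup_dvd_card _
    · rw [Finset.sum_congr rfl fun y hy => by
        rw [h2 y (Finset.mem_filter.mp hy).1 (Finset.mem_filter.mp hy).2], Finset.sum_const, smul_eq_mul, ← h1]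
      ring
  -- the two counts
  have hA : P.card * 2 = ∑ o ∈ O, g * (val o - 1) := by
    rw [hsum, Finset.sum_mul, ← Finset.sum_fiberwise_of_maps_to hOx]
    exact Finset.sum_congr rfl fun o ho => (hval o ho).2.2.2.2
  have hB : O.card * g ≤ 3 * X.card := by
    rw [Finset.card_eq_sum_card_fiberwise hOx, Finset.mul_sum, ← smul_eq_mul, ← Finset.sum_const]
    refine Finset.sum_le_sum fun o ho => ?_
    obtain ⟨h3, -, -, h1, -⟩ := hval o ho
    obtain ⟨v, hv⟩ := Nat.exists_eq_add_of_le h3
    rw [hv] at h1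
    have : g * (2 * (3 + v)) ≤ 3 * (X.filter fun y => orb (centralizer ({y} : Set Y)) = o).card * (2 * (3 + v)) := by
      rw [mul_assoc 3, h1, show 3 + v - 1 = 2 + v by omega]
      nlinarith
    exact Nat.le_of_mul_le_mul_right this (by omega)
  have hXlt : X.card < g := by
    rw [hg, ← Finset.card_univ]
    exact Finset.card_lt_card ⟨Finset.subset_univ _, fun h => absurd ((hmX 1).mp (h (Finset.mem_univ _))).1 (by simp)⟩
  have hO2 : O.card ≤ 2 := by
    by_contra h
    have : 3 * g ≤ O.card * g := Nat.mul_le_mul_right g (by omega)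
    omega
  have hIpos : 0 < I.card := Finset.card_pos.mpr ⟨i₀, (hmI i₀).mpr hi₀⟩
  have hI2 : I.card = 2 * ∑ o ∈ O, (val o - 1) + 3 := by
    rw [← Finset.mul_sum, hgI] at hA
    have : I.card * I.card = I.card * (2 * ∑ o ∈ O, (val o - 1) + 3) := by
      rw [← hPcard]
      linarith
    exact Nat.eq_of_mul_eq_mul_left hIpos this
  have hdvd : ∀ o ∈ O, val o ∣ I.card := fun o ho => by
    obtain ⟨-, hd, hodd, -, -⟩ := hval o ho
    rw [hgI] at hd
    have hcop : Nat.Coprime (val o) 4 :=
      Nat.Coprime.pow_right 2 (Nat.coprime_two_right.mpr hodd)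
    exact hcop.dvd_of_dvd_mul_left hd
  rw [Nat.card_eq_fintype_card, ← hg, hgI]
  rcases (show O.card = 0 ∨ O.card = 1 ∨ O.card = 2 by omega) with h | h | h
  · rw [Finset.card_eq_zero.mp h, Finset.sum_empty] at hI2
    omega
  · obtain ⟨o, ho⟩ := Finset.card_eq_one.mp h
    have hd := hdvd o (ho ▸ Finset.mem_singleton_self o)
    obtain ⟨h3, -, -⟩ := hval o (ho ▸ Finset.mem_singleton_self o)
    rw [hI2, ho, Finset.sum_singleton, show 2 * (val o - 1) + 3 = val o * 2 + 1 by omega, Nat.dvd_add_right ⟨2, rfl⟩,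
      Nat.dvd_one] at hd
    omega
  · obtain ⟨o, o', hne, ho⟩ := Finset.card_eq_two.mp h
    have hd := hdvd o (by simp [ho])
    have hd' := hdvd o' (by simp [ho])
    obtain ⟨h3, -, hodd, -⟩ := hval o (by simp [ho])
    obtain ⟨h3', -, hodd', -⟩ := hval o' (by simp [ho])
    rw [ho, Finset.sum_pair hne] at hI2
    generalize val o = a at *
    generalize val o' = b at *
    rw [hI2, show 2 * (a - 1 + (b - 1)) + 3 = a * 2 + (2 * b - 1) by omega, Nat.dvd_add_right ⟨2, rfl⟩] at hd
    rw [hI2, show 2 * (a - 1 + (b - 1)) + 3 = b * 2 + (2 * a - 1) by omega, Nat.dvd_add_right ⟨2, rfl⟩] at hd'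
    right
    have key : ∀ p q : ℕ, 3 ≤ p → p ≤ q → p ∣ 2 * q - 1 → q ∣ 2 * p - 1 → p = 3 ∧ q = 5 := by
      intro p q hp hpq h1 h2
      obtain ⟨k, hk⟩ := h2
      have hk2 : k < 2 := by
        by_contra hk2
        have : q * 2 ≤ q * k := Nat.mul_le_mul_left q (by omega)
        omega
      interval_cases k
      · omega
      rw [mul_one] at hk
      subst hk
      have h1' : p ∣ p * 4 - 3 := by
        rw [show p * 4 - 3 = 2 * (2 * p - 1) - 1 by omega]; exact h1
      have h3 : p ∣ 3 := by
        have := Nat.dvd_sub (Dvd.intro 4 rfl : p ∣ p * 4) h1'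
        rwa [show p * 4 - (p * 4 - 3) = 3 by omega] at this
      have := Nat.le_of_dvd (by norm_num) h3
      omega
    rcases le_total a b with hab | hab
    · obtain ⟨rfl, rfl⟩ := key a b h3 hab hd hd'
      omega
    · obtain ⟨rfl, rfl⟩ := key b a h3' hab hd' hd
      omega

end CfsgLib.Co3Recog.Count
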