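/-
A subgroup controlling the involutions of a group with two classes is the whole group.
-/
import Cfsg.Agent.Lib.Co3Recog.Count
import Cfsg.Agent.S0111
import Mathlib.GroupTheory.QuotientGroup.Basic

set_option autoImplicit false
set_option linter.unusedSectionVars false
set_option linter.style.haveILetI false

namespace CfsgLib.Co3Recog.Strong

open Subgroup

variable {G : Type*} [Group G] [Finite G]

theorem invol_mul_self {a : G} (ha : orderOf a = 2) : a * a = 1 := by
  rw [← sq, ← ha]; exact pow_orderOf_eq_one a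

theorem conj_of_odd {a b : G} (ha : orderOf a = 2) (hb : orderOf b = 2) {m : ℕ} (hm : Odd m)
    (h : (a * b) ^ m = 1) : IsConj a b := by
  obtain ⟨k, rfl⟩ := hm
  set p := a * b with hp
  have hinv : MulAut.conj a p = p⁻¹ := by
    rw [MulAut.conj_apply, hp, mul_inv_rev, inv_eq_of_mul_eq_one_right (invol_mul_self ha),
      inv_eq_of_mul_eq_one_right (invol_mul_self hb), ← mul_assoc, invol_mul_self ha, one_mul]
  have hk : MulAut.conj a (p ^ k) = (p ^ k)⁻¹ := by rw [map_pow, hinv, inv_pow]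
  rw [isConj_iff]
  refine ⟨p ^ k, ?_⟩
  have e1 : a * (p ^ k)⁻¹ = p ^ k * a := by
    rw [← hk, MulAut.conj_apply, inv_eq_of_mul_eq_one_right (invol_mul_self ha), ← mul_assoc, ← mul_assoc,
      invol_mul_self ha, one_mul]
  -- `p ^ (2 k) a = p⁻¹ a = b`
  have e2 : p ^ k * p ^ k = p⁻¹ := by
    rw [← pow_add]
    refine eq_inv_of_mul_eq_one_left ?_
    rw [← pow_succ, ← two_mul, h]
  rw [mul_assoc, e1, ← mul_assoc, e2, hp, mul_inv_rev, inv_eq_of_mul_eq_one_right (invol_mul_self ha),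
    inv_eq_of_mul_eq_one_right (invol_mul_self hb), mul_assoc, invol_mul_self ha, mul_one]

theorem middle {a b : G} (ha : orderOf a = 2) (hb : orderOf b = 2) (hnc : ¬ IsConj a b) :
    ∃ m, orderOf (a * b) = 2 * m ∧ orderOf ((a * b) ^ m) = 2 ∧ Commute ((a * b) ^ m) a ∧
      Commute ((a * b) ^ m) b := by
  rcases Nat.even_or_odd (orderOf (a * b)) with ⟨m, hm⟩ | ho
  · refine ⟨m, by omega, ?_, ?_⟩
    · have hpos := orderOf_pos (a * b)
      refine orderOf_eq_prime ?_ (pow_ne_one_of_lt_orderOf (by omega) (by omega))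
      rw [← pow_mul, show m * 2 = orderOf (a * b) by omega, pow_orderOf_eq_one]
    have hca : Commute ((a * b) ^ m) a := by
      have hz : ((a * b) ^ m)⁻¹ = (a * b) ^ m := by
        refine inv_eq_of_mul_eq_one_right ?_
        rw [← pow_add, show m + m = orderOf (a * b) by omega, pow_orderOf_eq_one]
      have h : MulAut.conj a ((a * b) ^ m) = ((a * b) ^ m)⁻¹ := by
        rw [map_pow, ← inv_pow]
        congr 1
        rw [MulAut.conj_apply, mul_inv_rev, inv_eq_of_mul_eq_one_right (invol_mul_self ha),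
          inv_eq_of_mul_eq_one_right (invol_mul_self hb), ← mul_assoc, invol_mul_self ha, one_mul]
      rw [hz, MulAut.conj_apply, mul_inv_eq_iff_eq_mul] at h
      exact h.symm
    refine ⟨hca, ?_⟩
    have h2 : Commute ((a * b) ^ m) (a * (a * b)) := hca.mul_right ((Commute.refl _).pow_left m)
    rwa [← mul_assoc, invol_mul_self ha, one_mul] at h2
  · exact absurd (conj_of_odd ha hb ho (pow_orderOf_eq_one _)) hnc

/-- The conditions on the subgroup. -/
structure Ctrl (G₀ : Subgroup G) (t u v : G) : Prop where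
  ht : orderOf t = 2
  hu : orderOf u = 2
  hv : orderOf v = 2
  htG : t ∈ G₀
  huG : u ∈ G₀
  hvG : v ∈ G₀
  hC : ∀ x, Commute x t → x ∈ G₀
  hclass : ∀ x ∈ G₀, orderOf x = 2 → ∃ h ∈ G₀, h * x * h⁻¹ = t ∨ h * x * h⁻¹ = u
  hnc : ¬ IsConj t u
  hsq : ∀ h : G, h * h ≠ u
  huv : Commute u v
  htu : Commute t u
  hne : v ≠ u
  hpure : ¬ IsConj t v ∧ ¬ IsConj t (u * v)
  hfour : ∀ x ∈ G₀, orderOf x = 2 → Commute x u → x ≠ u → IsConj t x ∨ IsConj t (u * x) ∨
    ∃ h ∈ G₀, Commute h u ∧ (h * x * h⁻¹ = v ∨ h * x * h⁻¹ = u * v)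
  hV : ∀ x, Commute x u → Commute x v → x ∈ G₀
  htv : Commute t v

variable {G₀ : Subgroup G} {t u v : G} (S : Ctrl G₀ t u v)
include S

theorem fix_t {x g : G} (hx : x ∈ G₀) (hT : IsConj t x) (hg : g * x * g⁻¹ ∈ G₀) : g ∈ G₀ := by
  have key : ∀ y ∈ G₀, IsConj t y → ∃ h ∈ G₀, h * y * h⁻¹ = t := by
    intro y hy hTy
    obtain ⟨c, hc⟩ := isConj_iff.mp hTy
    have hyo : orderOf y = 2 := by rw [← hc, ← MulAut.conj_apply, MulEquiv.orderOf_eq, S.ht]
    obtain ⟨h, hh, e | e⟩ := S.hclass y hy hyo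
    · exact ⟨h, hh, e⟩
    · exact absurd (hTy.trans (isConj_iff.mpr ⟨h, e⟩)) S.hnc
  obtain ⟨a, ha, ea⟩ := key x hx hT
  obtain ⟨b, hb, eb⟩ := key _ hg (hT.trans (isConj_iff.mpr ⟨g, rfl⟩))
  have hx' : x = a⁻¹ * t * a := by rw [← ea]; group
  have hc : Commute (b * g * a⁻¹) t := by
    show b * g * a⁻¹ * t = t * (b * g * a⁻¹)
    calc b * g * a⁻¹ * t = b * (g * (a⁻¹ * t * a) * g⁻¹) * b⁻¹ * (b * g * a⁻¹) := by group
      _ = _ := by rw [← hx', eb]
  have := mul_mem (mul_mem (inv_mem hb) (S.hC _ hc)) ha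
  rwa [show b⁻¹ * (b * g * a⁻¹) * a = g by group] at this

theorem fix_four {g : G} (hu : g * u * g⁻¹ = u) (hv : g * v * g⁻¹ ∈ G₀) : g ∈ G₀ := by
  set x := g * v * g⁻¹ with hx
  have hxo : orderOf x = 2 := by rw [hx, ← MulAut.conj_apply, MulEquiv.orderOf_eq, S.hv]
  have hgu : Commute g u := mul_inv_eq_iff_eq_mul.mp hu
  have hxu : Commute x u := (hgu.mul_left S.huv.symm).mul_left hgu.inv_left
  have hne : x ≠ u := fun e => S.hne (by
    have := congrArg (fun z => g⁻¹ * z * g) (e.trans hu.symm)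
    simpa [hx, mul_assoc] using this)
  have h1 : ¬ IsConj t x := fun h => S.hpure.1 (h.trans (isConj_iff.mpr ⟨g⁻¹, by rw [hx]; group⟩))
  have h2 : ¬ IsConj t (u * x) := fun h => S.hpure.2 (h.trans (isConj_iff.mpr ⟨g⁻¹, by
    rw [hx, inv_inv, show g⁻¹ * (u * (g * v * g⁻¹)) * g = g⁻¹ * u * g * v by group]
    congr 1
    rw [mul_assoc, ← hgu.eq, inv_mul_cancel_left]⟩))
  obtain ⟨k, hk, hku, hkv⟩ := ((S.hfour x hv hxo hxu hne).resolve_left h1).resolve_left h2
  set n := k * g
  have hnu : Commute n u := hku.mul_left hgu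
  have hnv : n * v * n⁻¹ = v ∨ n * v * n⁻¹ = u * v := by
    rwa [show n * v * n⁻¹ = k * x * k⁻¹ by simp only [n, hx]; group]
  have hnt : n * t * n⁻¹ ∈ G₀ := by
    refine S.hV _ ((hnu.mul_left S.htu).mul_left hnu.inv_left) ?_
    -- `v` is `n v n⁻¹` or `n (u v) n⁻¹`
    have key : ∀ w, Commute t w → n * w * n⁻¹ = v → Commute (n * t * n⁻¹) v := fun w hw e => by
      rw [← e]
      show n * t * n⁻¹ * (n * w * n⁻¹) = n * w * n⁻¹ * (n * t * n⁻¹)
      rw [show n * t * n⁻¹ * (n * w * n⁻¹) = n * (t * w) * n⁻¹ by group, hw.eq]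
      group
    rcases hnv with e | e
    · exact key v S.htv e
    · refine key (u * v) (S.htu.mul_right S.htv) ?_
      rw [show n * (u * v) * n⁻¹ = n * u * n⁻¹ * (n * v * n⁻¹) by group, e, hnu.eq, mul_inv_cancel_right,
        ← mul_assoc, invol_mul_self S.hu, one_mul]
  have hn : n ∈ G₀ := fix_t S S.htG (IsConj.refl t) hnt
  have := mul_mem (inv_mem hk) hn
  rwa [show k⁻¹ * n = g by simp only [n]; group] at this

theorem fix_u {x g : G} (hx : x ∈ G₀) (hxo : orderOf x = 2) (hg : g * x * g⁻¹ ∈ G₀) : g ∈ G₀ := by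
  by_cases hT : IsConj t x
  · exact fix_t S hx hT hg
  have key : ∀ y ∈ G₀, orderOf y = 2 → ¬ IsConj t y → ∃ h ∈ G₀, h * y * h⁻¹ = u := by
    intro y hy hyo hTy
    obtain ⟨h, hh, e | e⟩ := S.hclass y hy hyo
    · exact absurd (isConj_iff.mpr ⟨h, e⟩ : IsConj y t).symm hTy
    · exact ⟨h, hh, e⟩
  obtain ⟨a, ha, ea⟩ := key x hx hxo hT
  obtain ⟨b, hb, eb⟩ := key _ hg (by rw [← MulAut.conj_apply, MulEquiv.orderOf_eq, hxo])
    (fun h => hT (h.trans (isConj_iff.mpr ⟨g⁻¹, by group⟩)))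
  set k := b * g * a⁻¹
  have hku : k * u * k⁻¹ = u := by
    conv_lhs => rw [← ea]
    rw [← eb]; simp only [k]; group
  suffices hk : k ∈ G₀ by
    have := mul_mem (mul_mem (inv_mem hb) hk) ha
    rwa [show b⁻¹ * k * a = g by simp only [k]; group] at this
  by_contra hk
  have hkc : Commute k u := mul_inv_eq_iff_eq_mul.mp hku
  set y := k⁻¹ * t * k with hy
  have hyo : orderOf y = 2 := by
    rw [hy, ← MulAut.conj_inv_apply, MulEquiv.orderOf_eq, S.ht]
  have hyT : IsConj t y := isConj_iff.mpr ⟨k⁻¹, by rw [hy]; group⟩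
  have hyu : Commute y u := (hkc.inv_left.mul_left S.htu).mul_left hkc
  obtain ⟨m, hm, hzo, hzv, hzy⟩ := middle S.hv hyo fun h => S.hpure.1 (hyT.trans h.symm)
  set z := (v * y) ^ m
  have hzu : Commute z u := (S.huv.symm.mul_left hyu).pow_left m
  have hzG : z ∈ G₀ := S.hV z hzu hzv
  have hkz : k * z * k⁻¹ ∈ G₀ := by
    refine S.hC _ ?_
    show k * z * k⁻¹ * t = t * (k * z * k⁻¹)
    have ht' : t = k * y * k⁻¹ := by rw [hy]; group
    rw [ht', show k * z * k⁻¹ * (k * y * k⁻¹) = k * (z * y) * k⁻¹ by group, hzy.eq]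
    group
  by_cases hz : z = u
  · rcases Nat.even_or_odd m with ⟨j, hj⟩ | hmo
    · exact S.hsq ((v * y) ^ j) (by rw [← pow_add, ← hj]; exact hz)
    · have hvu : orderOf (u * v) = 2 := orderOf_eq_prime
        (by rw [sq, show u * v * (u * v) = u * (v * u) * v by group, ← S.huv.eq, ← mul_assoc, invol_mul_self S.hu,
          one_mul, invol_mul_self S.hv])
        (fun e => S.hne (by rw [eq_inv_of_mul_eq_one_right e, inv_eq_of_mul_eq_one_right (invol_mul_self S.hu)]))
      refine S.hpure.2 (hyT.trans (conj_of_odd hvu hyo hmo ?_).symm)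
      rw [mul_assoc, (S.huv.mul_right hyu.symm).mul_pow, show (v * y) ^ m = u from hz]
      obtain ⟨j, rfl⟩ := hmo
      rw [pow_succ, pow_mul, sq, invol_mul_self S.hu, one_pow, one_mul, invol_mul_self S.hu]
  by_cases hT1 : IsConj t z
  · exact hk (fix_t S hzG hT1 hkz)
  by_cases hT2 : IsConj t (u * z)
  · refine hk (fix_t S (mul_mem S.huG hzG) hT2 ?_)
    rw [show k * (u * z) * k⁻¹ = k * u * k⁻¹ * (k * z * k⁻¹) by group, hku]
    exact mul_mem S.huG hkz
  obtain ⟨h, hh, hhu, e⟩ := ((S.hfour z hzG hzo hzu hz).resolve_left hT1).resolve_left hT2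
  have hk' : Commute (k * h⁻¹) u := hkc.mul_left hhu.inv_left
  refine hk ?_
  have hmem : k * h⁻¹ ∈ G₀ := by
    refine fix_four S (by rw [hk'.eq, mul_inv_cancel_right]) ?_
    rcases e with e | e
    · rw [← e, show k * h⁻¹ * (h * z * h⁻¹) * (k * h⁻¹)⁻¹ = k * z * k⁻¹ by group]
      exact hkz
    · have hvz : v = u * (h * z * h⁻¹) := by rw [e, ← mul_assoc, invol_mul_self S.hu, one_mul]
      rw [hvz, show k * h⁻¹ * (u * (h * z * h⁻¹)) * (k * h⁻¹)⁻¹ =
        k * h⁻¹ * u * (k * h⁻¹)⁻¹ * (k * z * k⁻¹) by group, hk'.eq, mul_inv_cancel_right]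
      exact mul_mem S.huG hkz
  have := mul_mem hmem hh
  rwa [inv_mul_cancel_right] at this

theorem eq_top : G₀ = ⊤ := by
  rw [eq_top_iff]
  intro g _
  by_contra hg
  set y := g⁻¹ * u * g with hy
  have hyo : orderOf y = 2 := by rw [hy, ← MulAut.conj_inv_apply, MulEquiv.orderOf_eq, S.hu]
  obtain ⟨m, -, hzo, hzt, hzy⟩ := middle S.ht hyo fun h => S.hnc (h.trans (isConj_iff.mpr ⟨g, by rw [hy]; group⟩))
  set z := (t * y) ^ m
  refine hg (fix_u S (S.hC z hzt) hzo ?_)
  refine fix_u S S.huG S.hu ?_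
  have hgz : g * z * g⁻¹ * u * (g * z * g⁻¹)⁻¹ = u := by
    have hu' : u = g * y * g⁻¹ := by rw [hy]; group
    conv_lhs => rw [hu', show g * z * g⁻¹ * (g * y * g⁻¹) * (g * z * g⁻¹)⁻¹ = g * (z * y) * z⁻¹ * g⁻¹ by group, hzy.eq]
    rw [hu']; group
  rw [hgz]
  exact S.huG

omit S

/-- The four-group level. -/
theorem cent_four {G₀ : Subgroup G} {t u v r g₄ h : G} (hu : orderOf u = 2) (hv : orderOf v = 2) (huv : Commute u v)
    (hne : v ≠ u) (ht : orderOf t = 2)
    (htV : t ∈ centralizer ({u, v} : Set G))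
    (htnV : t ∉ closure ({u, v} : Set G))
    (huniq : ∀ w ∈ closure ({u, v} : Set G), IsConj t (t * w) → w = 1)
    (hcard : Nat.card (centralizer ({u, v} : Set G) ⊓ centralizer ({t} : Set G) : Subgroup G) = 32)
    (hcenter : ∀ x ∈ centralizer ({u, v} : Set G), Commute x t →
      (∀ y ∈ centralizer ({u, v} : Set G), Commute y t → x * y * x⁻¹ * y⁻¹ ∈ closure ({u, v} : Set G)) →
      x ∈ closure ({u, v} : Set G) ∨ x * t ∈ closure ({u, v} : Set G))
    (hr : r ∈ centralizer ({u, v} : Set G)) (hrt : Commute r t) (hrV : r ∉ closure ({u, v} : Set G))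
    (hr2 : r * r ∈ closure ({u, v} : Set G)) (hrT : ∀ w ∈ closure ({u, v} : Set G), ¬ IsConj t (r * w))
    (hg₄ : g₄ ∈ centralizer ({u, v} : Set G)) (hg₄t : g₄ * g₄ * t ∈ closure ({u, v} : Set G))
    (hh : h ∈ centralizer ({u, v} : Set G)) (hh3 : h ^ 3 = 1) (hh₁ : Commute (h * t * h⁻¹) t)
    (hh₂ : (h * t * h⁻¹) * t ∉ closure ({u, v} : Set G))
    (hh₃ : h * h * t * (h * h)⁻¹ * ((h * t * h⁻¹) * t) ∈ closure ({u, v} : Set G))
    (hG0 : Nat.card (centralizer ({u, v} : Set G) ⊓ G₀ : Subgroup G) = 480) :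
    ∀ x, Commute x u → Commute x v → x ∈ G₀ := by
  classical
  set W := centralizer ({u, v} : Set G) with hW
  have hmW : ∀ x, x ∈ W ↔ Commute x u ∧ Commute x v := fun x => by
    rw [hW, mem_centralizer_iff]
    simp only [Set.mem_insert_iff, Set.mem_singleton_iff, forall_eq_or_imp, forall_eq]
    exact ⟨fun h => ⟨h.1.symm, h.2.symm⟩, fun h => ⟨h.1.eq.symm, h.2.eq.symm⟩⟩
  set V : Subgroup G := closure ({u, v} : Set G) with hV
  have huu := invol_mul_self hu
  have hvv := invol_mul_self hv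
  have hVlist : ∀ w, w ∈ V ↔ w = 1 ∨ w = u ∨ w = v ∨ w = u * v := by
    intro w
    constructor
    · intro hw
      induction hw using Subgroup.closure_induction with
      | mem x hx => rcases hx with rfl | rfl <;> simp
      | one => simp
      | mul a b _ _ ha hb =>
        have e1 : v * u = u * v := huv.eq.symm
        have e2 : u * (u * v) = v := by rw [← mul_assoc, huu, one_mul]
        have e3 : v * (u * v) = u := by rw [← mul_assoc, e1, mul_assoc, hvv, mul_one]
        have e4 : u * v * u = v := by rw [mul_assoc, e1, e2]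
        have e5 : u * v * v = u := by rw [mul_assoc, hvv, mul_one]
        have e6 : u * v * (u * v) = 1 := by rw [mul_assoc, e3, huu]
        rcases ha with rfl | rfl | rfl | rfl <;> rcases hb with rfl | rfl | rfl | rfl <;>
          simp only [one_mul, mul_one, huu, hvv, e1, e2, e3, e4, e5, e6, true_or, or_true]
      | inv a _ ha =>
        rcases ha with rfl | rfl | rfl | rfl
        · simp
        · rw [inv_eq_of_mul_eq_one_right huu]; simp
        · rw [inv_eq_of_mul_eq_one_right hvv]; simp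
        · rw [mul_inv_rev, inv_eq_of_mul_eq_one_right huu, inv_eq_of_mul_eq_one_right hvv, ← huv.eq]; simp
    · rintro (rfl | rfl | rfl | rfl)
      exacts [one_mem _, subset_closure (by simp), subset_closure (by simp),
        mul_mem (subset_closure (by simp)) (subset_closure (by simp))]
  have hVW : V ≤ W := by
    rw [hV, closure_le]
    rintro x (rfl | rfl)
    · exact (hmW _).mpr ⟨Commute.refl _, huv⟩
    · exact (hmW _).mpr ⟨huv.symm, Commute.refl _⟩
  have hVc : ∀ w ∈ V, ∀ x ∈ W, x * w = w * x := by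
    intro w hw x hx
    obtain ⟨hxu, hxv⟩ := (hmW x).mp hx
    rcases (hVlist w).mp hw with rfl | rfl | rfl | rfl
    exacts [(Commute.one_right x).eq, hxu.eq, hxv.eq, (hxu.mul_right hxv).eq]
  have hVcard : Nat.card V = 4 := by
    have h1 : u ≠ 1 := fun e => by rw [e, orderOf_one] at hu; omega
    have h2 : v ≠ 1 := fun e => by rw [e, orderOf_one] at hv; omega
    have h3 : u * v ≠ 1 := fun e => hne (by
      rw [eq_inv_of_mul_eq_one_right e, inv_eq_of_mul_eq_one_right huu])
    have hset : (V : Set G) = (({1, u, v, u * v} : Finset G) : Set G) := by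
      ext w; simp [hVlist]
    rw [← SetLike.coe_sort_coe, hset, Nat.card_coe_set_eq, Set.ncard_coe_finset]
    rw [Finset.card_insert_of_notMem, Finset.card_insert_of_notMem, Finset.card_pair]
    · intro e; exact h1 (mul_eq_right.mp e.symm)
    · simp only [Finset.mem_insert, Finset.mem_singleton, not_or]
      exact ⟨hne.symm, fun e => h2 (mul_eq_left.mp e.symm)⟩
    · simp only [Finset.mem_insert, Finset.mem_singleton, not_or]
      exact ⟨h1.symm, h2.symm, h3.symm⟩
  let V' : Subgroup W := V.subgroupOf W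
  haveI : V'.Normal := ⟨fun w hw x => by
    have hw' : (w : G) ∈ V := hw
    show (x : G) * (w : G) * (x : G)⁻¹ ∈ V
    rw [hVc (w : G) hw' (x : G) x.2, mul_inv_cancel_right]
    exact hw'⟩
  let π : W →* W ⧸ V' := QuotientGroup.mk' V'
  have hπ : ∀ a : W, π a = 1 ↔ (a : G) ∈ V := fun a => QuotientGroup.eq_one_iff a
  have hπeq : ∀ a b : W, π a = π b ↔ (a : G)⁻¹ * b ∈ V := fun a b => by
    rw [← inv_mul_eq_one, ← map_inv, ← map_mul, hπ]; rfl
  set T : W := ⟨t, htV⟩ with hT
  set i := π T with hi_def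
  have htt := invol_mul_self ht
  have hTT : T * T = 1 := Subtype.ext htt
  have hi1 : i ≠ 1 := fun e => htnV ((hπ T).mp e)
  have hi : orderOf i = 2 := orderOf_eq_prime (by rw [sq, ← map_mul, hTT, map_one]) hi1
  have hsurj : Function.Surjective π := QuotientGroup.mk'_surjective V'
  have hker : π.ker = V' := QuotientGroup.ker_mk' V'
  have hV'card : Nat.card V' = 4 := by
    rw [Nat.card_congr (Subgroup.subgroupOfEquivOfLe hVW).toEquiv, hVcard]
  have hmap : ∀ D : Subgroup W, V' ≤ D → Nat.card (D.map π) * 4 = Nat.card D := by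
    intro D hD
    have h := (π.comp D.subtype).ker.card_mul_index
    rw [Subgroup.index_ker, MonoidHom.range_comp, Subgroup.range_subtype] at h
    have e : Nat.card (π.comp D.subtype).ker = 4 := by
      rw [← MonoidHom.comap_ker, hker, ← hV'card]
      exact Nat.card_congr (Subgroup.subgroupOfEquivOfLe hD).toEquiv
    rw [e] at h
    rw [mul_comm]; exact h
  have hVle : V' ≤ (centralizer ({T} : Set W)) := fun w hw =>
    mem_centralizer_singleton_iff.mpr (Subtype.ext (hVc _ hw _ htV).symm)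
  have hcent : centralizer ({i} : Set (W ⧸ V')) = (centralizer ({T} : Set W)).map π := by
    refine le_antisymm (fun x hx => ?_) ?_
    · obtain ⟨a, rfl⟩ := hsurj x
      refine ⟨a, mem_centralizer_singleton_iff.mpr ?_, rfl⟩
      have h1 : π (a * T * a⁻¹) = π T := by
        rw [map_mul, map_mul, map_inv, mem_centralizer_singleton_iff.mp hx, mul_inv_cancel_right]
      rw [hπeq] at h1
      set w : G := ((a * T * a⁻¹ : W) : G)⁻¹ * t with hw
      have e : (a : G) * t * (a : G)⁻¹ = t * w⁻¹ := by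
        rw [hw, mul_inv_rev, inv_inv, mul_inv_cancel_left]; rfl
      have h2 := huniq w⁻¹ (inv_mem h1) (isConj_iff.mpr ⟨a, e⟩)
      rw [h2, mul_one, mul_inv_eq_iff_eq_mul] at e
      exact Subtype.ext e
    · rintro _ ⟨a, ha, rfl⟩
      rw [mem_centralizer_singleton_iff, hi_def, ← map_mul, mem_centralizer_singleton_iff.mp ha, map_mul]
  have hcard' : Nat.card (centralizer ({T} : Set W)) = 32 := by
    rw [← hcard]
    refine Nat.card_congr
      { toFun := fun a => ⟨a.1, a.1.2, mem_centralizer_singleton_iff.mpr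
          (congrArg Subtype.val (mem_centralizer_singleton_iff.mp a.2))⟩
        invFun := fun a => ⟨⟨a.1, a.2.1⟩, mem_centralizer_singleton_iff.mpr
          (Subtype.ext (mem_centralizer_singleton_iff.mp a.2.2))⟩
        left_inv := fun _ => rfl
        right_inv := fun _ => rfl }
  have hC8 : Nat.card (centralizer ({i} : Set (W ⧸ V'))) = 8 := by
    have := hmap _ hVle
    rw [← hcent, hcard'] at this
    omega
  haveI : Fact (Nat.Prime 2) := ⟨Nat.prime_two⟩
  obtain ⟨P, hP⟩ := (IsPGroup.of_card (n := 3) (by rw [hC8]; norm_num) :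
    IsPGroup 2 (centralizer ({i} : Set (W ⧸ V')))).exists_le_sylow
  have hiC : i ∈ centralizer ({i} : Set (W ⧸ V')) := mem_centralizer_singleton_iff.mpr rfl
  haveI : Nontrivial (P : Subgroup (W ⧸ V')) :=
    ⟨⟨⟨i, hP hiC⟩, 1, fun e => hi1 (congrArg Subtype.val e)⟩⟩
  haveI := P.isPGroup'.center_nontrivial
  obtain ⟨j, hj, hj1⟩ := (Subgroup.center (P : Subgroup (W ⧸ V'))).bot_or_exists_ne_one.resolve_left
    (Subgroup.nontrivial_iff_ne_bot _ |>.mp inferInstance)
  have hjc : ∀ x ∈ (P : Subgroup (W ⧸ V')), x * (j : W ⧸ V') = (j : W ⧸ V') * x := fun x hx =>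
    congrArg Subtype.val (mem_center_iff.mp hj ⟨x, hx⟩)
  have hPeq : (P : Subgroup (W ⧸ V')) = centralizer ({i} : Set (W ⧸ V')) := by
    refine le_antisymm (fun x hx => ?_) hP
    have hjC : (j : W ⧸ V') ∈ centralizer ({i} : Set (W ⧸ V')) :=
      mem_centralizer_singleton_iff.mpr (hjc i (hP hiC)).symm
    rw [hcent] at hjC
    obtain ⟨a, ha, hae⟩ := hjC
    have ha' : Commute (a : G) t := congrArg Subtype.val (mem_centralizer_singleton_iff.mp ha)
    have hcm := hcenter a a.2 ha' fun y hy hyt => by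
      have hyC : π ⟨y, hy⟩ ∈ centralizer ({i} : Set (W ⧸ V')) := by
        rw [hcent]; exact ⟨⟨y, hy⟩, mem_centralizer_singleton_iff.mpr
          (show (⟨y, hy⟩ : W) * T = T * ⟨y, hy⟩ from Subtype.ext hyt.eq), rfl⟩
      have h := hjc _ (hP hyC)
      rw [← hae] at h
      exact (hπ (a * ⟨y, hy⟩ * a⁻¹ * ⟨y, hy⟩⁻¹)).mp (by
        rw [map_mul, map_mul, map_mul, map_inv, map_inv, ← h, mul_inv_cancel_right, mul_inv_cancel])
    have hji : (j : W ⧸ V') = i := by
      rcases hcm with h1 | h1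
      · exact absurd (Subtype.ext (hae.symm.trans ((hπ a).mpr h1))) hj1
      · have h2 : π a * i = 1 := by rw [hi_def, ← map_mul, hπ]; exact h1
        rw [← hae, eq_inv_of_mul_eq_one_left h2, hi_def, ← map_inv, inv_eq_of_mul_eq_one_right hTT]
    exact mem_centralizer_singleton_iff.mpr (hji ▸ hjc x hx)
  -- the index two subgroup
  set R : W := ⟨r, hr⟩
  set H : W := ⟨h, hh⟩
  set T' : W := H * T * H⁻¹ with hT'
  have hT'C : π T' ∈ centralizer ({i} : Set (W ⧸ V')) := by
    rw [hcent]; exact ⟨T', mem_centralizer_singleton_iff.mpr (Subtype.ext hh₁), rfl⟩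
  have hRC : π R ∈ centralizer ({i} : Set (W ⧸ V')) := by
    rw [hcent]; exact ⟨R, mem_centralizer_singleton_iff.mpr (Subtype.ext hrt), rfl⟩
  set b := π T' with hb_def
  have hbc : IsConj i b := isConj_iff.mpr ⟨π H, by rw [hb_def, hT', map_mul, map_mul, map_inv]⟩
  have hbb : b * b = 1 := by
    rw [hb_def, hT', ← map_mul, show H * T * H⁻¹ * (H * T * H⁻¹) = H * (T * T) * H⁻¹ by group, hTT, mul_one,
      mul_inv_cancel, map_one]
  have hii : i * i = 1 := by rw [hi_def, ← map_mul, hTT, map_one]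
  have hbi : b * i = i * b := mem_centralizer_singleton_iff.mp hT'C
  have hbine : b * i ≠ 1 := fun e => hh₂ ((hπ (T' * T)).mp (by rw [map_mul]; exact e))
  have hbic : IsConj i (b * i) := by
    refine isConj_iff.mpr ⟨π (H * H), ?_⟩
    have h1 : π (H * H * T * (H * H)⁻¹ * (T' * T)) = 1 := (hπ _).mpr hh₃
    simp only [map_mul, map_inv] at h1
    have h2 : (b * i)⁻¹ = b * i := by rw [mul_inv_rev, inv_eq_of_mul_eq_one_right hii,
      inv_eq_of_mul_eq_one_right hbb, hbi]
    rw [map_mul, hi_def, eq_inv_of_mul_eq_one_left h1, ← hb_def, ← hi_def, h2]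
  let K : Subgroup (W ⧸ V') :=
    { carrier := {x | x = 1 ∨ x = i ∨ x = b ∨ x = b * i}
      one_mem' := Or.inl rfl
      mul_mem' := by
        have e1 : i * b = b * i := hbi.symm
        have e2 : b * i * i = b := by rw [mul_assoc, hii, mul_one]
        have e3 : b * i * b = i := by rw [mul_assoc, e1, ← mul_assoc, hbb, one_mul]
        have e4 : i * (b * i) = b := by rw [← mul_assoc, e1, e2]
        have e5 : b * (b * i) = i := by rw [← mul_assoc, hbb, one_mul]
        have e6 : b * i * (b * i) = 1 := by rw [mul_assoc, e4, hbb]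
        rintro x y (rfl | rfl | rfl | rfl) (rfl | rfl | rfl | rfl) <;>
          simp only [Set.mem_ofPred_eq, one_mul, mul_one, hii, hbb, e1, e2, e3, e4, e5, e6, true_or, or_true]
      inv_mem' := by
        rintro x (rfl | rfl | rfl | rfl)
        · exact Or.inl inv_one
        · exact Or.inr (Or.inl (inv_eq_of_mul_eq_one_right hii))
        · exact Or.inr (Or.inr (Or.inl (inv_eq_of_mul_eq_one_right hbb)))
        · exact Or.inr (Or.inr (Or.inr (by
            rw [mul_inv_rev, inv_eq_of_mul_eq_one_right hii, inv_eq_of_mul_eq_one_right hbb, hbi]))) }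
  have hmK : ∀ x, x ∈ K ↔ x = 1 ∨ x = i ∨ x = b ∨ x = b * i := fun x => Iff.rfl
  have hKconj : ∀ x ∈ K, x ≠ 1 → IsConj i x := by
    intro x hx hx1
    rcases (hmK x).mp hx with rfl | rfl | rfl | rfl
    exacts [absurd rfl hx1, IsConj.refl _, hbc, hbic]
  have hb1 : b ≠ 1 := fun e => by
    obtain ⟨c, hc⟩ := isConj_iff.mp hbc.symm
    rw [e, mul_one, mul_inv_cancel] at hc
    exact hi1 hc.symm
  have hKcard : Nat.card K = 4 := by
    have hset : (K : Set (W ⧸ V')) = (({1, i, b, b * i} : Finset (W ⧸ V')) : Set (W ⧸ V')) := by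
      ext w
      simp only [SetLike.mem_coe, hmK, Finset.coe_insert, Finset.coe_singleton, Set.mem_insert_iff,
        Set.mem_singleton_iff]
    have hib : i ≠ b := fun e => hbine (by rw [← e, hii])
    rw [← SetLike.coe_sort_coe, hset, Nat.card_coe_set_eq, Set.ncard_coe_finset]
    rw [Finset.card_insert_of_notMem, Finset.card_insert_of_notMem, Finset.card_pair]
    · intro e; exact hi1 (mul_eq_left.mp e.symm)
    · simp only [Finset.mem_insert, Finset.mem_singleton, not_or]
      exact ⟨hib, fun e => hb1 (mul_eq_right.mp e.symm)⟩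
    · simp only [Finset.mem_insert, Finset.mem_singleton, not_or]
      exact ⟨hi1.symm, hb1.symm, hbine.symm⟩
  have hrK : ¬ ∃ g, g * π R * g⁻¹ ∈ K := by
    rintro ⟨g, hg⟩
    by_cases h1 : g * π R * g⁻¹ = 1
    · exact hrV ((hπ R).mp (by
        have := congrArg (fun x => g⁻¹ * x * g) h1
        simpa [mul_assoc] using this))
    obtain ⟨c, hc⟩ := isConj_iff.mp ((hKconj _ hg h1).trans
      (isConj_iff.mpr ⟨g⁻¹, by group⟩ : IsConj (g * π R * g⁻¹) (π R)))
    obtain ⟨a, rfl⟩ := hsurj c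
    rw [hi_def, ← map_inv, ← map_mul, ← map_mul] at hc
    have h2 := (hπeq _ _).mp hc.symm
    refine hrT _ h2 (isConj_iff.mpr ⟨(a : G), ?_⟩)
    rw [← show ((a * T * a⁻¹ : W) : G) = (a : G) * t * (a : G)⁻¹ from rfl]
    exact (mul_inv_cancel_left (r : G) _).symm
  have hKP : K ≤ (P : Subgroup (W ⧸ V')) := by
    intro x hx
    rw [hPeq]
    rcases (hmK x).mp hx with rfl | rfl | rfl | rfl
    exacts [one_mem _, hiC, hT'C, mul_mem hT'C hiC]
  have hrel : K.relIndex (P : Subgroup (W ⧸ V')) = 2 := by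
    have h := (K.subgroupOf (P : Subgroup (W ⧸ V'))).card_mul_index
    rw [Nat.card_congr (Subgroup.subgroupOfEquivOfLe hKP).toEquiv, hKcard, hPeq, hC8] at h
    rw [Subgroup.relIndex, hPeq]
    omega
  have hRo : orderOf (π R) = 2 := orderOf_eq_prime
    (by rw [sq, ← map_mul, hπ]; exact hr2) (fun e => hrV ((hπ R).mp e))
  have hRK : π R ∉ K := fun hm => hrK ⟨1, by simpa using hm⟩
  obtain ⟨M, hMn, hMi, hMr⟩ := (Cfsg.Agent.S0111.result P K hKP hrel (π R) hRo (hPeq.symm ▸ hRC) hRK).resolve_right hrK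
  have hsqM : ∀ x : W ⧸ V', x * x ∈ M := fun x => Subgroup.mul_self_mem_of_index_two hMi x
  have hiM : i ∈ M := by
    set g : W := ⟨g₄, hg₄⟩
    have h1 : π (g * g * T) = 1 := (hπ _).mpr hg₄t
    rw [map_mul, map_mul] at h1
    rw [hi_def, ← inv_eq_of_mul_eq_one_right h1]
    exact inv_mem (hsqM _)
  have hbM : b ∈ M := by
    obtain ⟨c, hc⟩ := isConj_iff.mp hbc
    rw [← hc]
    exact hMn.conj_mem i hiM c
  have hKM : K ≤ M := by
    intro x hx
    rcases (hmK x).mp hx with rfl | rfl | rfl | rfl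
    exacts [one_mem _, hiM, hbM, mul_mem hbM hiM]
  have hCM : centralizer ({i} : Set (W ⧸ V')) ⊓ M = K := by
    refine (Subgroup.eq_of_le_of_card_ge (le_inf (hPeq ▸ hKP) hKM) ?_).symm
    rw [hKcard]
    have hdvd : Nat.card (centralizer ({i} : Set (W ⧸ V')) ⊓ M : Subgroup _) ∣ 8 :=
      hC8 ▸ Subgroup.card_dvd_of_le inf_le_left
    have hne8 : Nat.card (centralizer ({i} : Set (W ⧸ V')) ⊓ M : Subgroup _) ≠ 8 := fun e8 => hMr (by
      have := Subgroup.eq_of_le_of_card_ge (inf_le_left (a := centralizer ({i} : Set (W ⧸ V'))) (b := M))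
        (by rw [e8, hC8])
      exact (this.symm ▸ hRC : π R ∈ centralizer ({i} : Set (W ⧸ V')) ⊓ M).2)
    have hle := Nat.le_of_dvd (by norm_num) hdvd
    generalize Nat.card (centralizer ({i} : Set (W ⧸ V')) ⊓ M : Subgroup _) = c at hdvd hne8 hle ⊢
    interval_cases c <;> omega
  -- count in `M`
  set iM : M := ⟨i, hiM⟩ with hiM_def
  have hmem : ∀ x : M, x ∈ centralizer ({iM} : Set M) ↔ (x : W ⧸ V') ∈ K := fun x => by
    rw [← hCM, Subgroup.mem_inf, mem_centralizer_singleton_iff, mem_centralizer_singleton_iff, Subtype.ext_iff]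
    exact ⟨fun h => ⟨h, x.2⟩, fun h => h.1⟩
  have hiMo : orderOf iM = 2 := by rw [← Subgroup.orderOf_coe]; exact hi
  have hMcard : Nat.card M = 12 ∨ Nat.card M = 60 := by
    refine Count.card_eq (Count.hyp_of hiMo ?_ ?_ ?_) ⟨iM, hiMo⟩
    · rw [← hKcard]
      exact Nat.card_congr
        { toFun := fun x => ⟨x.1.1, (hmem x.1).mp x.2⟩
          invFun := fun x => ⟨⟨x.1, hKM x.2⟩, (hmem ⟨x.1, hKM x.2⟩).mpr x.2⟩
          left_inv := fun _ => rfl
          right_inv := fun _ => rfl }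
    · intro x hx
      refine Subtype.ext ?_
      rcases (hmK _).mp ((hmem x).mp hx) with e | e | e | e <;> rw [SubgroupClass.coe_pow, e, sq]
      · exact one_mul 1
      · exact hii
      · exact hbb
      · calc b * i * (b * i) = b * (i * b) * i := by simp only [mul_assoc]
          _ = b * (b * i) * i := by rw [hbi]
          _ = _ := by simp only [mul_assoc]; rw [hii, mul_one, hbb]; rfl
    · intro x hx hx1
      have hHM : π H ∈ M := by
        have e : π H = (π H * π H) * (π H * π H) := by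
          rw [← map_mul, ← map_mul]
          refine congrArg π (Subtype.ext ?_)
          show h = h * h * (h * h)
          rw [show h * h * (h * h) = h ^ 3 * h by rw [pow_succ, pow_two]; simp only [mul_assoc], hh3, one_mul]
        rw [e]; exact mul_mem (hsqM _) (hsqM _)
      rcases (hmK _).mp ((hmem x).mp hx) with e | e | e | e
      · exact absurd (Subtype.ext e) hx1
      · exact isConj_iff.mpr ⟨1, Subtype.ext (by simp [hiM_def, e])⟩
      · refine isConj_iff.mpr ⟨⟨π H, hHM⟩, Subtype.ext ?_⟩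
        show π H * i * (π H)⁻¹ = x
        rw [e, hb_def, hT', map_mul, map_mul, map_inv]
      · refine isConj_iff.mpr ⟨⟨π H * π H, mul_mem hHM hHM⟩, Subtype.ext ?_⟩
        show π H * π H * i * (π H * π H)⁻¹ = x
        rw [e]
        have h1 : π (H * H * T * (H * H)⁻¹ * (T' * T)) = 1 := (hπ _).mpr hh₃
        simp only [map_mul, map_inv] at h1
        rw [eq_inv_of_mul_eq_one_left h1, ← hi_def, ← hb_def, mul_inv_rev, inv_eq_of_mul_eq_one_right hii,
          inv_eq_of_mul_eq_one_right hbb, hbi]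
  -- conclude
  let G₁ : Subgroup W := G₀.subgroupOf W
  have hG₁ : Nat.card G₁ = 480 := by
    rw [← hG0]
    exact Nat.card_congr
      { toFun := fun a => ⟨a.1.1, a.1.2, a.2⟩
        invFun := fun a => ⟨⟨a.1, a.2.1⟩, a.2.2⟩
        left_inv := fun _ => rfl
        right_inv := fun _ => rfl }
  have hWcard : Nat.card W ≤ 480 := by
    have h1 := M.card_mul_index
    rw [hMi] at h1
    have h2 := V'.card_mul_index
    rw [hV'card, show V'.index = Nat.card (W ⧸ V') from rfl, ← h1] at h2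
    rcases hMcard with e | e <;> omega
  intro x hxu hxv
  have heq : G₁ = ⊤ := Subgroup.eq_top_of_card_eq _ (le_antisymm (Subgroup.card_le_card_group _) (hG₁ ▸ hWcard))
  exact (heq ▸ mem_top (⟨x, (hmW x).mpr ⟨hxu, hxv⟩⟩ : W) : (⟨x, (hmW x).mpr ⟨hxu, hxv⟩⟩ : W) ∈ G₁)

end CfsgLib.Co3Recog.Strong
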