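/-
The pure elementary subgroup of order 16 and the elements permuting it.
-/
import Cfsg.Agent.Lib.Co3Recog.Fusion

set_option autoImplicit false
set_option linter.unusedSectionVars false
set_option linter.style.haveILetI false
set_option maxRecDepth 30000
set_option maxHeartbeats 1000000

namespace CfsgLib.Co3Recog.X

open Equiv Subgroup CfsgPC Base Data

attribute [local irreducible] xGens xInv xChain pChain sGens sChain qsList aElems dGens dInv dChain dTwo dTwoInv
  orbTwo orbThree cand pairWit quadWit zC sC uC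

/-- An element of the elementary subgroup. -/
noncomputable def ax (m : ℕ) : Grp := xe (ac m)

theorem ax_spec {m : ℕ} (hm : m < 16) : Fx (ap (ac m)) (ax m) := by
  obtain ⟨hp, hl, -⟩ := a_perm
  have hlt : m < aElems.length := hl.symm ▸ hm
  have hi : isPerm 339 (ac m) (ac m) = true := by
    simp only [permsB, Bool.and_eq_true, List.all_eq_true, List.mem_range] at hp
    exact hp.2 m hlt
  refine xe_spec hi (List.all_eq_true.mp a_sift.1 _ ?_)
  rw [ac, List.getD_eq_getElem _ _ hlt]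
  exact List.getElem_mem _

theorem xor_lt {m k : ℕ} (hm : m < 16) (hk : k < 16) : m ^^^ k < 16 :=
  Nat.xor_lt_two_pow (n := 4) hm hk

theorem ax_mul {m k : ℕ} (hm : m < 16) (hk : k < 16) : ax m * ax k = ax (m ^^^ k) :=
  eqX (List.all_eq_true.mp (List.all_eq_true.mp a_law.1 m (List.mem_range.mpr hm)) k (List.mem_range.mpr hk))
    ((ax_spec hm).mul (ax_spec hk)) (ax_spec (xor_lt hm hk))

theorem ax_zero : ax 0 = 1 := eqX a_law.2.1 (ax_spec (by norm_num)) Fx.one

theorem ax_one : ax 1 = z := eqX a_law.2.2.1 (ax_spec (by norm_num)) z_spec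

theorem ax_two : ax 2 = s := eqX a_law.2.2.2.1 (ax_spec (by norm_num)) s_spec

theorem ax_comm {m k : ℕ} (hm : m < 16) (hk : k < 16) : ax m * ax k = ax k * ax m := by
  rw [ax_mul hm hk, ax_mul hk hm, Nat.xor_comm]

theorem ax_inj {m k : ℕ} (hm : m < 16) (hk : k < 16) (e : ax m = ax k) : m = k := by
  by_contra hne
  have h := a_law.2.2.2.2.1
  rcases Nat.lt_or_gt_of_ne hne with h' | h'
  · exact neX' (List.all_eq_true.mp (List.all_eq_true.mp h k (List.mem_range.mpr hk)) m (List.mem_range.mpr h'))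
      (ax_spec hk) (ax_spec hm) e.symm
  · exact neX' (List.all_eq_true.mp (List.all_eq_true.mp h m (List.mem_range.mpr hm)) k (List.mem_range.mpr h'))
      (ax_spec hm) (ax_spec hk) e

theorem ax_num {m : ℕ} (hm : m < 16) (h0 : m ≠ 0) : num (ax m) = 36 := by
  have h := List.all_eq_true.mp a_law.2.2.2.2.2 m (List.mem_range.mpr hm)
  rw [Bool.or_eq_true] at h
  rcases h with h | h
  · exact absurd (Nat.eq_of_beq_eq_true h) h0
  · exact (num_eq (ax_spec hm)).symm.trans (Nat.eq_of_beq_eq_true h)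

theorem ax_sq {m : ℕ} (hm : m < 16) : ax m * ax m = 1 := by rw [ax_mul hm hm, Nat.xor_self, ax_zero]

theorem conj_sq {H : Type*} [Group H] {x : H} (c : H) (h : x * x = 1) : c * x * c⁻¹ * (c * x * c⁻¹) = 1 := by
  rw [show c * x * c⁻¹ * (c * x * c⁻¹) = c * (x * x) * c⁻¹ by group, h]; group

/-- Elements indexed by four bits lie in a subgroup with the four basic ones. -/
theorem span16 {H : Type*} [Group H] (b : ℕ → H) (law : ∀ m < 16, ∀ k < 16, b m * b k = b (m ^^^ k))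
    (K : Subgroup H) (h1 : b 1 ∈ K) (h2 : b 2 ∈ K) (h4 : b 4 ∈ K) (h8 : b 8 ∈ K) : ∀ m < 16, b m ∈ K := by
  have h0 : b 0 ∈ K := by
    have := law 1 (by norm_num) 1 (by norm_num)
    rw [Nat.xor_self] at this
    exact this ▸ mul_mem h1 h1
  have h3 : b 3 ∈ K := by
    have := law 1 (by norm_num) 2 (by norm_num); exact this ▸ mul_mem h1 h2
  have low : ∀ m < 8, b m ∈ K := by
    intro m hm
    by_cases h : m < 4
    · interval_cases m <;> assumption
    · have := law 4 (by norm_num) (4 ^^^ m) (xor_lt (by norm_num) (by omega))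
      rw [← Nat.xor_assoc, Nat.xor_self, Nat.zero_xor] at this
      rw [← this]
      refine mul_mem h4 ?_
      interval_cases m <;> assumption
  intro m hm
  by_cases h : m < 8
  · exact low m h
  · have := law 8 (by norm_num) (8 ^^^ m) (xor_lt (by norm_num) hm)
    rw [← Nat.xor_assoc, Nat.xor_self, Nat.zero_xor] at this
    rw [← this]
    exact mul_mem h8 (low _ ((by decide : ∀ m < 16, ¬m < 8 → 8 ^^^ m < 8) m hm h))

/-- The centraliser of the subgroup in the model is the subgroup. -/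
theorem ax_self {x : Grp} (hx : ∀ m < 16, x * ax m = ax m * x) : ∃ m < 16, x = ax m := by
  classical
  let P := Perm (Fin 339)
  let C1 : Subgroup P := Grp ⊓ centralizer ({(s : P)} : Set P)
  let C2 : Subgroup P := C1 ⊓ centralizer ({((ax 4 : Grp) : P)} : Set P)
  let C3 : Subgroup P := C2 ⊓ centralizer ({((ax 8 : Grp) : P)} : Set P)
  have hp := a_perm.2.2.1
  have c1 : Nat.card C1 ≤ 4608 := by
    have h := card_cent_mul_le_of_conj (H := Grp) (g := (s : P)) (fun i : Fin 630 => ((qx i : Grp) : P))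
      (fun i j e => Fin.ext (qx_inj i.2 j.2 (Subtype.ext e))) fun i => by
        obtain ⟨c, hc⟩ := isConj_iff.mp (qx_spec i i.2).2
        exact ⟨c, c.2, congrArg Subtype.val hc⟩
    rw [Nat.card_fin, closed.2] at h
    exact le_of_mul_le_mul_right (h.trans (by norm_num)) (by norm_num : 0 < 630)
  have c2 : Nat.card C2 ≤ 128 := by
    have h := card_cent_mul_le (n := 339) (by norm_num) hp (g := ((ax 4 : Grp) : P)) (ax_spec (by norm_num)) bases_lt'
      orb_two.1 C1 d_mem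
    rw [orb_two.2.1] at h
    exact le_of_mul_le_mul_right (h.trans (c1.trans (by norm_num))) (by norm_num : 0 < 36)
  have c3 : Nat.card C3 ≤ 16 := by
    have hp2 := a_perm.2.2.2.2.1
    have hle : genG 339 dTwo ≤ C2 := genG_le hp2 fun a ha => by
      have hmem : dTwo.getD a 0 ∈ dTwo := by rw [List.getD_eq_getElem _ _ ha]; exact List.getElem_mem _
      have hm : el 339 dTwo a ∈ Grp := mem_table (by norm_num) table valid hp2 a_sift.2.2.2.1 ha
      have e := List.all_eq_true.mp a_comm.2 _ hmem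
      rw [Bool.and_eq_true] at e
      have hF : Fx (ap (dTwo.getD a 0)) ⟨_, hm⟩ := rep_el hp2 ha
      exact ⟨⟨hm, mem_centralizer_singleton_iff.mpr (congrArg Subtype.val (eqX e.1 (hF.mul s_spec) (s_spec.mul hF)))⟩,
        mem_centralizer_singleton_iff.mpr (congrArg Subtype.val
          (eqX e.2 (hF.mul (ax_spec (by norm_num))) ((ax_spec (by norm_num : 4 < 16)).mul hF)))⟩
    have h := card_cent_mul_le (n := 339) (by norm_num) hp2 (g := ((ax 8 : Grp) : P)) (ax_spec (by norm_num)) bases_lt'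
      orb_two.2.2.1 C2 hle
    rw [orb_two.2.2.2] at h
    exact le_of_mul_le_mul_right (h.trans (c2.trans (by norm_num))) (by norm_num : 0 < 8)
  have hin : ∀ g : Grp, (∀ m < 16, g * ax m = ax m * g) → (g : P) ∈ C3 := fun g hg => by
    refine ⟨⟨⟨g.2, ?_⟩, ?_⟩, ?_⟩
    · refine mem_centralizer_singleton_iff.mpr ?_
      rw [← ax_two]
      exact congrArg Subtype.val (hg 2 (by norm_num))
    · exact mem_centralizer_singleton_iff.mpr (congrArg Subtype.val (hg 4 (by norm_num)))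
    · exact mem_centralizer_singleton_iff.mpr (congrArg Subtype.val (hg 8 (by norm_num)))
  let f : Fin 16 → C3 := fun m => ⟨(ax m : Grp), hin _ fun k hk => ax_comm m.2 hk⟩
  have hf : Function.Injective f := fun m k e => Fin.ext (ax_inj m.2 k.2 (Subtype.ext (congrArg (Subtype.val) e :)))
  have hbij : Function.Bijective f :=
    (Nat.bijective_iff_injective_and_card f).mpr ⟨hf, le_antisymm (Nat.card_le_card_of_injective f hf)
      (c3.trans (Nat.card_fin 16).ge)⟩
  obtain ⟨m, hm⟩ := hbij.2 ⟨x, hin x hx⟩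
  exact ⟨m, m.2, Subtype.ext (congrArg Subtype.val hm).symm⟩

/-- The generators of the normaliser in the model. -/
noncomputable def pgen (a : ℕ) : Grp := gen ([0, 1, 2, 3, 5].getD a 0)

theorem pgen_len : pGens.length = 5 := rfl

theorem pgen_spec {a : ℕ} (ha : a < 5) :
    (pgen a : Perm (Fin 339)) = el 339 pGens a ∧ Fx (ap (pGens.getD a 0)) (pgen a) := by
  interval_cases a
  · exact gen_spec (by norm_num : 0 < 6)
  · exact gen_spec (by norm_num : 1 < 6)
  · exact gen_spec (by norm_num : 2 < 6)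
  · exact gen_spec (by norm_num : 3 < 6)
  · exact gen_spec (by norm_num : 5 < 6)

theorem pGens_le : genG 339 pGens ≤ Grp := genG_le p_table.2.2 fun a ha => by
  rw [← (pgen_spec (pgen_len ▸ ha)).1]
  exact (pgen a).2

theorem ax_norm_step : ((List.range 5).all fun a => (List.range 4).all fun f => (List.range 16).any fun k =>
    eqB xBases (fun b => ap (pGens.getD a 0) (ap (ac (2 ^ f)) (ap (pGens.getD a 0) b))) (ap (ac k))) = true := by
  decide +kernel

theorem pgen_sq {a : ℕ} (ha : a < 5) : pgen a * pgen a = 1 := by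
  interval_cases a
  exacts [gen_sq (by norm_num : 0 < 6), gen_sq (by norm_num : 1 < 6), gen_sq (by norm_num : 2 < 6),
    gen_sq (by norm_num : 3 < 6), gen_sq (by norm_num : 5 < 6)]

/-- The subgroup as a subgroup. -/
noncomputable def axSub : Subgroup Grp where
  carrier := {g | ∃ m < 16, g = ax m}
  one_mem' := ⟨0, by norm_num, ax_zero.symm⟩
  mul_mem' := by
    rintro _ _ ⟨m, hm, rfl⟩ ⟨k, hk, rfl⟩
    exact ⟨_, xor_lt hm hk, ax_mul hm hk⟩
  inv_mem' := by
    rintro _ ⟨m, hm, rfl⟩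
    exact ⟨m, hm, inv_eq_of_mul_eq_one_right (ax_sq hm)⟩

theorem ax_norm {p : Grp} (hp : (p : Perm (Fin 339)) ∈ genG 339 pGens) :
    ∀ m < 16, ∃ k < 16, p * ax m * p⁻¹ = ax k := by
  obtain ⟨g, hg⟩ := p
  have key : ∀ (x : Perm (Fin 339)), x ∈ genG 339 pGens → ∀ hx : x ∈ Grp,
      (∀ m < 16, (⟨x, hx⟩ : Grp) * ax m * (⟨x, hx⟩ : Grp)⁻¹ ∈ axSub) ∧
        (∀ m < 16, (⟨x, hx⟩ : Grp)⁻¹ * ax m * (⟨x, hx⟩ : Grp) ∈ axSub) := by
    intro x hx
    induction hx using closure_induction with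
    | mem x h =>
      obtain ⟨c, hc, hcx⟩ := h
      obtain ⟨a, ha, rfl⟩ := List.getElem_of_mem hc
      intro hx
      have ha5 : a < 5 := pgen_len ▸ ha
      have e : (⟨x, hx⟩ : Grp) = pgen a := Subtype.ext (hcx.unique (by
        rw [← List.getD_eq_getElem _ 0 ha]; exact (pgen_spec ha5).2))
      rw [e]
      have basic_step : ∀ f < 4, pgen a * ax (2 ^ f) * (pgen a)⁻¹ ∈ axSub := by
        intro f hf
        have h := List.all_eq_true.mp (List.all_eq_true.mp ax_norm_step a (List.mem_range.mpr ha5)) f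
          (List.mem_range.mpr hf)
        rw [List.any_eq_true] at h
        obtain ⟨k, hk, he⟩ := h
        have hF := (pgen_spec ha5).2
        have hlt : 2 ^ f < 16 :=
          lt_of_le_of_lt (Nat.pow_le_pow_right (by norm_num) (by omega : f ≤ 3)) (by norm_num)
        refine ⟨k, List.mem_range.mp hk, ?_⟩
        rw [inv_eq_of_mul_eq_one_right (pgen_sq ha5), mul_assoc]
        exact eqX he (hF.mul ((ax_spec hlt).mul hF)) (ax_spec (List.mem_range.mp hk))
      have one : ∀ m < 16, pgen a * ax m * (pgen a)⁻¹ ∈ axSub := by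
        intro m hm
        have : ax m ∈ axSub.comap (MulAut.conj (pgen a)).toMonoidHom := by
          refine span16 ax (fun i hi j hj => ax_mul hi hj) _ ?_ ?_ ?_ ?_ m hm
          all_goals rw [mem_comap]
          all_goals show pgen a * _ * (pgen a)⁻¹ ∈ axSub
          on_goal 1 => rw [show (1 : ℕ) = 2 ^ 0 from rfl]
          on_goal 2 => rw [show (2 : ℕ) = 2 ^ 1 from rfl]
          on_goal 3 => rw [show (4 : ℕ) = 2 ^ 2 from rfl]
          on_goal 4 => rw [show (8 : ℕ) = 2 ^ 3 from rfl]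
          all_goals exact basic_step _ (by norm_num)
        exact this
      exact ⟨one, by rw [inv_eq_of_mul_eq_one_right (pgen_sq ha5)] at one ⊢; exact one⟩
    | one =>
      intro hx
      rw [show (⟨1, hx⟩ : Grp) = 1 from rfl]
      simp only [inv_one, one_mul, mul_one]
      exact ⟨fun m hm => ⟨m, hm, rfl⟩, fun m hm => ⟨m, hm, rfl⟩⟩
    | mul x y hx hy ihx ihy =>
      intro hxy
      have hxG := pGens_le hx
      have hyG := pGens_le hy
      rw [show (⟨x * y, hxy⟩ : Grp) = ⟨x, hxG⟩ * ⟨y, hyG⟩ from rfl]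
      refine ⟨fun m hm => ?_, fun m hm => ?_⟩
      · obtain ⟨k, hk, e⟩ := (ihy hyG).1 m hm
        have := (ihx hxG).1 k hk
        rw [← e] at this
        convert this using 1; group
      · obtain ⟨k, hk, e⟩ := (ihx hxG).2 m hm
        have := (ihy hyG).2 k hk
        rw [← e] at this
        convert this using 1; group
    | inv x hx ih =>
      intro hxi
      have hxG := pGens_le hx
      rw [show (⟨x⁻¹, hxi⟩ : Grp) = (⟨x, hxG⟩ : Grp)⁻¹ from rfl, inv_inv]
      exact ⟨(ih hxG).2, (ih hxG).1⟩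
  intro m hm
  exact (key g hp hg).1 m hm

/-- The linear map with four given values. -/
def lin (a b c d m : ℕ) : ℕ :=
  (bif m.testBit 0 then a else 0) ^^^ (bif m.testBit 1 then b else 0) ^^^ (bif m.testBit 2 then c else 0) ^^^
    (bif m.testBit 3 then d else 0)

theorem lin_lt {a b c d : ℕ} (ha : a < 16) (hb : b < 16) (hc : c < 16) (hd : d < 16) (m : ℕ) : lin a b c d m < 16 := by
  have h : ∀ (x : Bool) {y : ℕ}, y < 16 → (bif x then y else 0) < 16 := fun x y hy => by cases x <;> simp [hy]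
  exact xor_lt (xor_lt (xor_lt (h _ ha) (h _ hb)) (h _ hc)) (h _ hd)

theorem lin_basis (a b c d : ℕ) : lin a b c d 0 = 0 ∧ lin a b c d 1 = a ∧ lin a b c d 2 = b ∧ lin a b c d 4 = c ∧
    lin a b c d 8 = d := by
  simp [lin, Nat.testBit_succ, Nat.testBit_zero]

theorem lin_low (a b c d : ℕ) : ∀ v < 4, lin a b c d v = lin a b 0 0 v := by
  intro v hv
  interval_cases v <;> simp [lin, Nat.testBit_succ, Nat.testBit_zero]

theorem lin_id : ∀ m < 16, lin 1 2 4 8 m = m := by decide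

/-! ### In the ambient group -/

variable {G : Type} [Group G] [Finite G] {t : G} (S : Setup t)
include S

theorem Setup.type36 {y : Grp} (hy : y * y = 1) (hn : num y = 36) (hy1 : y ≠ 1) : IsConj t (S.ψ y) := by
  rcases invol_class hy with h | h | h | h
  · exact absurd h hy1
  · rw [h, S.map_z]
  · exact S.conj_s.trans (S.ψ.map_isConj h)
  · rw [num_conj h, num_named.2.1] at hn
    omega

theorem Setup.num36 {y : Grp} (hy : y * y = 1) (hy1 : y ≠ 1) (hc : IsConj t (S.ψ y)) : num y = 36 := by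
  rcases invol_class hy with h | h | h | h
  · exact absurd h hy1
  · rw [h, num_named.1]
  · rw [num_conj h, num_named.2.2]
  · exact absurd (hc.trans (S.ψ.map_isConj h).symm) S.not_conj_u

/-- An element of the subgroup in the ambient group. -/
noncomputable def Setup.ag (m : ℕ) : G := S.ψ (ax m)

theorem Setup.ag_mul {m k : ℕ} (hm : m < 16) (hk : k < 16) : S.ag m * S.ag k = S.ag (m ^^^ k) := by
  rw [Setup.ag, Setup.ag, ← map_mul, ax_mul hm hk]; rfl

theorem Setup.ag_inj {m k : ℕ} (hm : m < 16) (hk : k < 16) (e : S.ag m = S.ag k) : m = k :=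
  ax_inj hm hk (S.inj e)

theorem Setup.ag_one : S.ag 1 = t := by rw [Setup.ag, ax_one, S.map_z]

theorem Setup.ag_two : S.ag 2 = S.ψ s := by rw [Setup.ag, ax_two]

/-- The element maps the basis to the four given elements. -/
structure Maps (S : Setup t) (y : G) (a b c d : ℕ) : Prop where
  la : a < 16
  lb : b < 16
  lc : c < 16
  ld : d < 16
  h1 : y * S.ag 1 * y⁻¹ = S.ag a
  h2 : y * S.ag 2 * y⁻¹ = S.ag b
  h4 : y * S.ag 4 * y⁻¹ = S.ag c
  h8 : y * S.ag 8 * y⁻¹ = S.ag d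

theorem Maps.apply {y : G} {a b c d : ℕ} (M : Maps S y a b c d) : ∀ m < 16,
    y * S.ag m * y⁻¹ = S.ag (lin a b c d m) := by
  have h0 : S.ag 0 = 1 := by rw [Setup.ag, ax_zero, map_one]
  have part : ∀ (x : Bool) (i v : ℕ), y * S.ag i * y⁻¹ = S.ag v →
      y * S.ag (bif x then i else 0) * y⁻¹ = S.ag (bif x then v else 0) := fun x i v h => by
    cases x
    · show y * S.ag 0 * y⁻¹ = S.ag 0
      rw [h0]; group
    · exact h
  have hlt : ∀ (x : Bool) {v : ℕ}, v < 16 → (bif x then v else 0) < 16 := fun x v hv => by cases x <;> simp [hv]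
  have step : ∀ (i v j w : ℕ), i < 16 → v < 16 → j < 16 → w < 16 → y * S.ag i * y⁻¹ = S.ag v →
      y * S.ag j * y⁻¹ = S.ag w → y * S.ag (i ^^^ j) * y⁻¹ = S.ag (v ^^^ w) := fun i v j w hi hv hj hw e e' => by
    rw [← S.ag_mul hi hj, ← S.ag_mul hv hw, ← e, ← e']; group
  intro m hm
  have e1 := part (m.testBit 0) 1 a M.h1
  have e2 := part (m.testBit 1) 2 b M.h2
  have e4 := part (m.testBit 2) 4 c M.h4
  have e8 := part (m.testBit 3) 8 d M.h8
  have l1 := hlt (m.testBit 0) (by norm_num : 1 < 16)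
  have l2 := hlt (m.testBit 1) (by norm_num : 2 < 16)
  have l4 := hlt (m.testBit 2) (by norm_num : 4 < 16)
  have l8 := hlt (m.testBit 3) (by norm_num : 8 < 16)
  have r1 := hlt (m.testBit 0) M.la
  have r2 := hlt (m.testBit 1) M.lb
  have r4 := hlt (m.testBit 2) M.lc
  have r8 := hlt (m.testBit 3) M.ld
  have h := step _ _ _ _ (xor_lt (xor_lt l1 l2) l4) (xor_lt (xor_lt r1 r2) r4) l8 r8
    (step _ _ _ _ (xor_lt l1 l2) (xor_lt r1 r2) l4 r4 (step _ _ _ _ l1 r1 l2 r2 e1 e2) e4) e8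
  rwa [show (bif m.testBit 0 then 1 else 0) ^^^ (bif m.testBit 1 then 2 else 0) ^^^
    (bif m.testBit 2 then 4 else 0) ^^^ (bif m.testBit 3 then 8 else 0) = m from lin_id m hm] at h

theorem Maps.inj {y : G} {a b c d : ℕ} (M : Maps S y a b c d) {m k : ℕ} (hm : m < 16) (hk : k < 16)
    (e : lin a b c d m = lin a b c d k) : m = k := by
  refine S.ag_inj hm hk ?_
  have := (M.apply S m hm).trans ((congrArg S.ag e).trans (M.apply S k hk).symm)
  simpa using this

theorem Maps.surj {y : G} {a b c d : ℕ} (M : Maps S y a b c d) {k : ℕ} (hk : k < 16) :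
    ∃ j < 16, lin a b c d j = k := by
  let f : Fin 16 → Fin 16 := fun j => ⟨lin a b c d j, lin_lt M.la M.lb M.lc M.ld j⟩
  have hf : Function.Injective f := fun i j e => Fin.ext (M.inj S i.2 j.2 (congrArg Fin.val e))
  obtain ⟨j, hj⟩ := (Finite.injective_iff_surjective.mp hf) ⟨k, hk⟩
  exact ⟨j, j.2, congrArg Fin.val hj⟩

/-- The quad words. -/
theorem Setup.quad {lev m : ℕ} (hl : lev < 3) (hm : m < 16) (hge : 2 ^ (lev + 1) ≤ m) :
    ∃ p : Grp, (p : Perm (Fin 339)) ∈ genG 339 pGens ∧ S.ψ p * S.ag (2 ^ (lev + 1)) * (S.ψ p)⁻¹ = S.ag m ∧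
      ∀ f ≤ lev, S.ψ p * S.ag (2 ^ f) * (S.ψ p)⁻¹ = S.ag (2 ^ f) := by
  have h := List.all_eq_true.mp (List.all_eq_true.mp quad_ok lev (List.mem_range.mpr hl)) m (List.mem_range.mpr hm)
  simp only [quadB] at h
  split at h
  · rename_i w _
    simp only [Bool.and_eq_true, List.all_eq_true, List.mem_range] at h
    obtain ⟨⟨hw, he⟩, hf⟩ := h
    have hw' : ltB pGens.length w = true := pgen_len.symm ▸ hw
    let p : Grp := ⟨wd 339 pGens w, pGens_le (wd_mem p_table.2.2 hw')⟩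
    have hpow : ∀ f ≤ lev + 1, 2 ^ f < 16 := fun f hf =>
      lt_of_le_of_lt (Nat.pow_le_pow_right (by norm_num) (by omega : f ≤ 3)) (by norm_num)
    have key : ∀ i k : ℕ, i < 16 → k < 16 → eqB xBases (cev pGens pInv w (ac i)) (ap (ac k)) = true →
        S.ψ p * S.ag i * (S.ψ p)⁻¹ = S.ag k := fun i k hi hk e => by
      rw [Setup.ag, Setup.ag, ← map_inv, ← map_mul, ← map_mul]
      exact congrArg S.ψ (eqX e (show Fx _ (p * ax i * p⁻¹) from rep_cev (by norm_num) p_table.2.2 hw' (ax_spec hi))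
        (ax_spec hk))
    exact ⟨p, wd_mem p_table.2.2 hw', key _ _ (hpow _ le_rfl) hm he, fun f hf' => key _ _ (hpow _ (by omega)) (hpow _ (by omega))
      (hf f (by omega))⟩
  · rw [Nat.blt_eq] at h
    omega

theorem Setup.exists_swap : ∃ y k k', k < 16 ∧ k' < 16 ∧ Maps S y 2 1 k k' := by
  obtain ⟨hz1, hz2, hs1, hsz, hs2, -⟩ := basic
  obtain ⟨g0, hg0⟩ := isConj_iff.mp S.conj_s.symm
  have hxt : Commute (g0 * t * g0⁻¹) t := by
    show _ = _
    rw [← hg0, show g0 * (g0 * S.ψ s * g0⁻¹) * g0⁻¹ * (g0 * S.ψ s * g0⁻¹) = g0 * ((g0 * S.ψ s * g0⁻¹) * S.ψ s) * g0⁻¹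
        by group,
      show g0 * S.ψ s * g0⁻¹ * (g0 * (g0 * S.ψ s * g0⁻¹) * g0⁻¹) = g0 * (S.ψ s * (g0 * S.ψ s * g0⁻¹)) * g0⁻¹ by group,
      hg0, (S.comm s).eq]
  obtain ⟨x, hx⟩ := S.mem_range hxt
  obtain ⟨h, hh⟩ : ∃ h : Grp, h * x * h⁻¹ = s := by
    rcases invol_class (S.inj (by rw [map_mul, hx, map_one, conj_sq g0 S.t_sq]) : x * x = 1) with e | e | e | e
    · rw [e, map_one, eq_comm, conj_eq_one_iff] at hx
      have h2 := S.ht
      rw [hx, orderOf_one] at h2
      omega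
    · rw [e, S.map_z] at hx
      have hgt : g0 * t = t * g0 := mul_inv_eq_iff_eq_mul.mp hx.symm
      have : S.ψ s = S.ψ z := by
        rw [S.map_z, show S.ψ s = g0⁻¹ * (g0 * S.ψ s * g0⁻¹) * g0 by group, hg0, mul_assoc, ← hgt, inv_mul_cancel_left]
      exact absurd (S.inj this) hsz
    · exact isConj_iff.mp e.symm
    · exact absurd ((isConj_iff.mpr ⟨g0, rfl⟩ : IsConj t (g0 * t * g0⁻¹)).trans (hx ▸ (S.ψ.map_isConj e).symm))
        S.not_conj_u
  set g := S.ψ h * g0 with hg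
  have g1 : g * S.ag 1 * g⁻¹ = S.ag 2 := by
    rw [S.ag_one, S.ag_two, ← hh, map_mul, map_mul, map_inv, hx, hg]; group
  have g2 : g * S.ag 2 * g⁻¹ = S.ag 1 := by
    rw [S.ag_one, S.ag_two, hg, show S.ψ h * g0 * S.ψ s * (S.ψ h * g0)⁻¹ = S.ψ h * (g0 * S.ψ s * g0⁻¹) * (S.ψ h)⁻¹
      by group, hg0, (S.comm h).eq, mul_inv_cancel_right]
  -- the conjugate subgroup lies in the model
  have hin : ∀ m, ∃ b : Grp, m < 16 → S.ψ b = g * S.ag m * g⁻¹ := fun m => by
    by_cases hm : m < 16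
    · have hc : Commute (g * S.ag m * g⁻¹) t := by
        refine comm_conj (b := S.ag 2) ?_ (g2.trans S.ag_one)
        show _ = _
        rw [S.ag_mul hm (by norm_num), S.ag_mul (by norm_num) hm, Nat.xor_comm]
      obtain ⟨b, hb⟩ := S.mem_range hc
      exact ⟨b, fun _ => hb⟩
    · exact ⟨1, fun h => absurd h hm⟩
  choose b hb using hin
  have bmul : ∀ m < 16, ∀ k < 16, b m * b k = b (m ^^^ k) := fun m hm k hk => S.inj (by
    rw [map_mul, hb m hm, hb k hk, hb _ (xor_lt hm hk), ← S.ag_mul hm hk]; group)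
  have binj : ∀ m < 16, ∀ k < 16, b m = b k → m = k := fun m hm k hk e => S.ag_inj hm hk (by
    have := (hb m hm).symm.trans ((congrArg S.ψ e).trans (hb k hk))
    simpa using this)
  have b1 : b 1 = s := S.inj ((hb 1 (by norm_num)).trans (g1.trans S.ag_two))
  have b2 : b 2 = z := S.inj ((hb 2 (by norm_num)).trans (g2.trans (S.ag_one.trans S.map_z.symm)))
  have b0 : b 0 = 1 := S.inj (by rw [hb 0 (by norm_num), Setup.ag, ax_zero, map_one]; group)
  have bsq : ∀ m < 16, b m * b m = 1 := fun m hm => by rw [bmul m hm m hm, Nat.xor_self, b0]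
  have bne : ∀ m < 16, m ≠ 0 → b m ≠ 1 := fun m hm h0 e => h0 (binj m hm 0 (by norm_num) (e.trans b0.symm))
  have bnum : ∀ m < 16, m ≠ 0 → num (b m) = 36 := fun m hm h0 =>
    S.num36 (bsq m hm) (bne m hm h0) ((S.type36 (ax_sq hm) (ax_num hm h0)
      (fun e => h0 (ax_inj hm (by norm_num) (e.trans ax_zero.symm)))).trans
      (isConj_iff.mpr ⟨g, (hb m hm).symm⟩))
  have bq : ∀ m < 16, m ≠ 0 → m ≠ 2 → ∃ i < 630, b m = qx i := fun m hm h0 h2 => by
    rcases invol_class (bsq m hm) with e | e | e | e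
    · exact absurd e (bne m hm h0)
    · exact absurd (binj m hm 2 (by norm_num) (e.trans b2.symm)) h2
    · exact qx_class e
    · have := bnum m hm h0
      rw [num_conj e, num_named.2.1] at this
      omega
  obtain ⟨i, hi, hbi⟩ := bq 4 (by norm_num) (by norm_num) (by norm_num)
  obtain ⟨j, hj, hbj⟩ := bq 8 (by norm_num) (by norm_num) (by norm_num)
  have Fi : Fx (ap (qc i)) (b 4) := hbi ▸ (qx_spec i hi).1
  have Fj : Fx (ap (qc j)) (b 8) := hbj ▸ (qx_spec j hj).1
  have F1 : Fx (ap sC.1) (b 1) := b1 ▸ s_spec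
  have F2 : Fx (ap zC.1) (b 2) := b2 ▸ z_spec
  have law : ∀ m < 16, ∀ k < 16, ∀ n, m ^^^ k = n → b m * b k = b n := fun m hm k hk n e => e ▸ bmul m hm k hk
  have f36 : ∀ {f : ℕ → ℕ} {m : ℕ}, m < 16 → m ≠ 0 → Fx f (b m) → fix36 f = true := fun {f m} hm h0 hf => by
    rw [fix36, num_eq hf, bnum m hm h0]; rfl
  have eb : ∀ {f f' : ℕ → ℕ} {m k : ℕ}, m < 16 → k < 16 → m ≠ k → Fx f (b m) → Fx f' (b k) →
      (!eqB xBases f f') = true := fun {f f' m k} hm hk hmk hf hf' => by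
    rw [Bool.not_eq_true', ← Bool.not_eq_true]
    exact fun e => hmk (binj m hm k hk (eqX e hf hf'))
  have hcand : candB i = true := by
    simp only [candB, Bool.and_eq_true]
    refine ⟨⟨⟨?_, ?_⟩, ?_⟩, ?_⟩
    · exact (eqB_iff (F1.mul Fi) (Fi.mul F1)).mpr (by
        rw [bmul 1 (by norm_num) 4 (by norm_num), bmul 4 (by norm_num) 1 (by norm_num), Nat.xor_comm])
    · exact eb (by norm_num) (by norm_num) (by norm_num) Fi F1
    · exact eb (by norm_num) (by norm_num) (by norm_num : 4 ≠ 3) Fi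
        (law 2 (by norm_num) 1 (by norm_num) 3 rfl ▸ F2.mul F1)
    · exact f36 (by norm_num) (by norm_num : 5 ≠ 0) (law 1 (by norm_num) 4 (by norm_num) 5 rfl ▸ F1.mul Fi)
  have hspan : ∀ m < 8, ∃ k < 8, Fx (span3 i m) (b k) := by
    intro m hm
    interval_cases m
    · exact ⟨0, by norm_num, b0 ▸ Fx.one⟩
    · exact ⟨2, by norm_num, F2⟩
    · exact ⟨1, by norm_num, F1⟩
    · exact ⟨3, by norm_num, law 2 (by norm_num) 1 (by norm_num) 3 rfl ▸ F2.mul F1⟩
    · exact ⟨4, by norm_num, Fi⟩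
    · exact ⟨6, by norm_num, law 2 (by norm_num) 4 (by norm_num) 6 rfl ▸ F2.mul Fi⟩
    · exact ⟨5, by norm_num, law 1 (by norm_num) 4 (by norm_num) 5 rfl ▸ F1.mul Fi⟩
    · exact ⟨7, by norm_num, law 2 (by norm_num) 5 (by norm_num) 7 rfl ▸
        F2.mul (law 1 (by norm_num) 4 (by norm_num) 5 rfl ▸ F1.mul Fi : Fx (fun x => ap sC.1 (ap (qc i) x)) (b 5))⟩
  have hpair : pairB i j = true := by
    simp only [pairB, Bool.and_eq_true, List.all_eq_true, List.mem_range]
    refine ⟨⟨?_, fun m hm => ?_⟩, fun m hm => ?_⟩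
    · exact (eqB_iff (Fj.mul Fi) (Fi.mul Fj)).mpr (by
        rw [bmul 8 (by norm_num) 4 (by norm_num), bmul 4 (by norm_num) 8 (by norm_num), Nat.xor_comm])
    · obtain ⟨k, hk, hF⟩ := hspan m hm
      exact eb (by norm_num) (by omega) (by omega) Fj hF
    · obtain ⟨k, hk, hF⟩ := hspan m hm
      exact f36 (xor_lt (by omega : k < 16) (by norm_num : 8 < 16))
        ((by decide : ∀ k < 8, k ^^^ 8 ≠ 0) k hk) (bmul k (by omega) 8 (by norm_num) ▸ hF.mul Fj)
  have hic : i ∈ cand := by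
    have h := List.all_eq_true.mp cand_ok i (List.mem_range.mpr hi)
    rw [hcand, Bool.not_true, Bool.false_or] at h
    exact List.contains_iff_mem.mp h
  have hjc : j ∈ cand := by
    have h := List.all_eq_true.mp cand_ok j (List.mem_range.mpr hj)
    have hcj : candB j = true := by
      simp only [candB, Bool.and_eq_true]
      refine ⟨⟨⟨?_, ?_⟩, ?_⟩, ?_⟩
      · exact (eqB_iff (F1.mul Fj) (Fj.mul F1)).mpr (by
          rw [bmul 1 (by norm_num) 8 (by norm_num), bmul 8 (by norm_num) 1 (by norm_num), Nat.xor_comm])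
      · exact eb (by norm_num) (by norm_num) (by norm_num) Fj F1
      · exact eb (by norm_num) (by norm_num) (by norm_num : 8 ≠ 3) Fj
          (law 2 (by norm_num) 1 (by norm_num) 3 rfl ▸ F2.mul F1)
      · exact f36 (by norm_num) (by norm_num : 9 ≠ 0) (law 1 (by norm_num) 8 (by norm_num) 9 rfl ▸ F1.mul Fj)
    rw [hcj, Bool.not_true, Bool.false_or] at h
    exact List.contains_iff_mem.mp h
  obtain ⟨p, hp, rfl⟩ := List.getElem_of_mem hic
  obtain ⟨q, hq, rfl⟩ := List.getElem_of_mem hjc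
  have hwit := List.all_eq_true.mp (List.all_eq_true.mp pairs_ok p (List.mem_range.mpr hp)) q (List.mem_range.mpr hq)
  rw [List.getD_eq_getElem _ _ hp, List.getD_eq_getElem _ _ hq, hpair, Bool.not_true, Bool.false_or] at hwit
  generalize (pairWit.getD p []).getD q [] = w at hwit
  simp only [witB, Bool.and_eq_true, Nat.blt_eq] at hwit
  obtain ⟨⟨⟨⟨⟨-, hk⟩, hk'⟩, hw⟩, he⟩, he'⟩ := hwit
  have hpb := a_perm.2.2.2.1
  have hblen : dBoth.length = 8 := by
    have := a_perm.2.2.2.2.2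
    have h2 := a_perm.2.2.1
    simp only [permsB, Bool.and_eq_true] at h2
    rw [dBoth, List.length_append, ← Nat.eq_of_beq_eq_true h2.1, this]
  have hw' : ltB dBoth.length (w.drop 2) = true := hblen.symm ▸ hw
  have hcm : wd 339 dBoth (w.drop 2) ∈ Grp ⊓ centralizer ({(s : Perm (Fin 339))} : Set (Perm (Fin 339))) := by
    refine (genG_le (H := Grp ⊓ centralizer ({(s : Perm (Fin 339))} : Set (Perm (Fin 339)))) hpb fun a ha => ?_)
      (wd_mem hpb hw')
    have hmem : dBoth.getD a 0 ∈ dBoth := by rw [List.getD_eq_getElem _ _ ha]; exact List.getElem_mem _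
    have hm : el 339 dBoth a ∈ Grp := mem_table (by norm_num) table valid hpb a_sift.2.2.1 ha
    exact ⟨hm, mem_centralizer_singleton_iff.mpr (congrArg Subtype.val (eqX (List.all_eq_true.mp a_comm.1 _ hmem)
      ((show Fx _ ⟨_, hm⟩ from rep_el hpb ha).mul s_spec) (s_spec.mul (show Fx _ ⟨_, hm⟩ from rep_el hpb ha))))⟩
  let c : Grp := ⟨wd 339 dBoth (w.drop 2), hcm.1⟩
  have hc4 : c * b 4 * c⁻¹ = ax (w.getD 0 16) :=
    eqX he (show Fx _ _ from rep_cev (by norm_num) hpb hw' Fi) (ax_spec hk)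
  have hc8 : c * b 8 * c⁻¹ = ax (w.getD 1 16) :=
    eqX he' (show Fx _ _ from rep_cev (by norm_num) hpb hw' Fj) (ax_spec hk')
  have hcs : c * s = s * c := Subtype.ext (mem_centralizer_singleton_iff.mp hcm.2)
  have conj_b : ∀ m < 16, S.ψ c * g * S.ag m * (S.ψ c * g)⁻¹ = S.ψ (c * b m * c⁻¹) := fun m hm => by
    rw [map_mul, map_mul, map_inv, hb m hm]; group
  refine ⟨S.ψ c * g, _, _, hk, hk', ⟨by norm_num, by norm_num, hk, hk', ?_, ?_, ?_, ?_⟩⟩
  · rw [conj_b 1 (by norm_num), b1, hcs, mul_inv_cancel_right, S.ag_two]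
  · rw [conj_b 2 (by norm_num), b2, map_mul, map_mul, map_inv, S.map_z, (S.comm c).eq, mul_inv_cancel_right, S.ag_one]
  · rw [conj_b 4 (by norm_num), hc4]; rfl
  · rw [conj_b 8 (by norm_num), hc8]; rfl

theorem Maps.comp {y y' : G} {a b c d a' b' c' d' : ℕ} (M : Maps S y a b c d) (M' : Maps S y' a' b' c' d') :
    Maps S (y * y') (lin a b c d a') (lin a b c d b') (lin a b c d c') (lin a b c d d') := by
  have key : ∀ i v, y' * S.ag i * y'⁻¹ = S.ag v → v < 16 → y * y' * S.ag i * (y * y')⁻¹ = S.ag (lin a b c d v) :=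
    fun i v e hv => by
      rw [← M.apply S v hv, ← e]; group
  exact ⟨lin_lt M.la M.lb M.lc M.ld _, lin_lt M.la M.lb M.lc M.ld _, lin_lt M.la M.lb M.lc M.ld _,
    lin_lt M.la M.lb M.lc M.ld _, key 1 a' M'.h1 M'.la, key 2 b' M'.h2 M'.lb, key 4 c' M'.h4 M'.lc,
    key 8 d' M'.h8 M'.ld⟩

theorem Maps.inv {y : G} {a b c d i j k l : ℕ} (M : Maps S y a b c d) (hi : i < 16) (hj : j < 16) (hk : k < 16)
    (hl : l < 16) (e1 : lin a b c d i = 1) (e2 : lin a b c d j = 2) (e4 : lin a b c d k = 4)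
    (e8 : lin a b c d l = 8) : Maps S y⁻¹ i j k l := by
  have key : ∀ v m, v < 16 → lin a b c d v = m → y⁻¹ * S.ag m * y⁻¹⁻¹ = S.ag v := fun v m hv e => by
    rw [← e, ← M.apply S v hv]; group
  exact ⟨hi, hj, hk, hl, key i 1 hi e1, key j 2 hj e2, key k 4 hk e4, key l 8 hl e8⟩

theorem Setup.maps_of_mem {p : Grp} (hp : (p : Perm (Fin 339)) ∈ genG 339 pGens) {a b c : ℕ}
    (ha : a < 16) (hb : b < 16) (hc : c < 16)
    (h1 : S.ψ p * S.ag 1 * (S.ψ p)⁻¹ = S.ag a) (h2 : S.ψ p * S.ag 2 * (S.ψ p)⁻¹ = S.ag b)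
    (h4 : S.ψ p * S.ag 4 * (S.ψ p)⁻¹ = S.ag c) : ∃ d, Maps S (S.ψ p) a b c d := by
  obtain ⟨d, hd, e⟩ := ax_norm hp 8 (by norm_num)
  exact ⟨d, ha, hb, hc, hd, h1, h2, h4, by rw [Setup.ag, Setup.ag, ← map_inv, ← map_mul, ← map_mul, e]⟩

theorem Setup.quad_four {m : ℕ} (hm : m < 16) (h4 : 4 ≤ m) : ∃ y d, Maps S y 1 2 m d := by
  obtain ⟨p, hp, he, hf⟩ := S.quad (lev := 1) (m := m) (by norm_num) hm h4
  exact ⟨_, S.maps_of_mem hp (by norm_num) (by norm_num) hm (hf 0 (by norm_num)) (hf 1 le_rfl) he⟩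

theorem Setup.quad_eight {m : ℕ} (hm : m < 16) (h8 : 8 ≤ m) : ∃ y, Maps S y 1 2 4 m := by
  obtain ⟨p, -, he, hf⟩ := S.quad (lev := 2) (m := m) (by norm_num) hm h8
  exact ⟨_, by norm_num, by norm_num, by norm_num, hm, hf 0 (by norm_num), hf 1 (by norm_num), hf 2 le_rfl, he⟩

/-- The action of the letter `w`. -/
theorem Setup.exists_target : ∃ y, Maps S y 2 1 10 5 := by
  obtain ⟨y, m, k, hm, hk, M⟩ := S.exists_swap
  have hm4 : 4 ≤ m := by
    by_contra h
    have key : ∀ v < 4, ∃ j < 4, ∀ x x', lin 2 1 x x' j = v := by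
      intro v hv
      have h : ∀ v < 4, ∃ j < 4, lin 2 1 0 0 j = v := by decide
      obtain ⟨j, hj, e⟩ := h v hv
      exact ⟨j, hj, fun x x' => (lin_low 2 1 x x' j hj).trans e⟩
    obtain ⟨j, hj, e⟩ := key m (by omega)
    have := M.inj S (m := j) (k := 4) (by omega) (by norm_num) ((e m k).trans (lin_basis 2 1 m k).2.2.2.1.symm)
    omega
  obtain ⟨y1, d1, Q1⟩ := S.quad_four hm hm4
  obtain ⟨k', hk', ek'⟩ := Q1.surj S hk
  obtain ⟨l, hl, el'⟩ := Q1.surj S (by norm_num : 8 < 16)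
  obtain ⟨n4, hn4, en4⟩ := Q1.surj S (by norm_num : 4 < 16)
  have Q1i : Maps S y1⁻¹ 1 2 n4 l := Q1.inv S (by norm_num) (by norm_num) hn4 hl (lin_basis _ _ _ _).2.1 (lin_basis _ _ _ _).2.2.1 en4 el'
  have Z1 : Maps S (y1⁻¹ * y) 2 1 4 k' := by
    have key : ∀ v j, j < 16 → lin 1 2 m d1 j = v → y1⁻¹ * S.ag v * y1⁻¹⁻¹ = S.ag j := fun v j hj e => by
      rw [← e, ← Q1.apply S j hj]; group
    have step : ∀ i v j, j < 16 → y * S.ag i * y⁻¹ = S.ag v → lin 1 2 m d1 j = v →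
        y1⁻¹ * y * S.ag i * (y1⁻¹ * y)⁻¹ = S.ag j := fun i v j hj e e' => by
      rw [← key v j hj e', ← e]; group
    exact ⟨by norm_num, by norm_num, by norm_num, hk', step 1 2 2 (by norm_num) M.h1 (lin_basis _ _ _ _).2.2.1,
      step 2 1 1 (by norm_num) M.h2 (lin_basis _ _ _ _).2.1, step 4 m 4 (by norm_num) M.h4 (lin_basis _ _ _ _).2.2.2.1, step 8 k k' hk' M.h8 ek'⟩
  have hk8 : 8 ≤ k' := by
    by_contra h
    have key : ∀ v < 8, ∀ x < 16, lin 2 1 4 x (lin 2 1 4 0 v) = v ∧ lin 2 1 4 0 v < 8 := by decide +kernel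
    obtain ⟨e, hlt⟩ := key k' (by omega) k' hk'
    have := Z1.inj S (m := lin 2 1 4 0 k') (k := 8) (by omega) (by norm_num) (e.trans (lin_basis 2 1 4 k').2.2.2.2.symm)
    omega
  obtain ⟨y2, Q2⟩ := S.quad_eight hk' hk8
  have Z2 : Maps S (y2⁻¹ * (y1⁻¹ * y)) 2 1 4 8 := by
    have step : ∀ i v j, j < 16 → y1⁻¹ * y * S.ag i * (y1⁻¹ * y)⁻¹ = S.ag v → lin 1 2 4 k' j = v →
        y2⁻¹ * (y1⁻¹ * y) * S.ag i * (y2⁻¹ * (y1⁻¹ * y))⁻¹ = S.ag j := fun i v j hj e e' => by
      rw [show y2⁻¹ * (y1⁻¹ * y) * S.ag i * (y2⁻¹ * (y1⁻¹ * y))⁻¹ =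
          y2⁻¹ * (y1⁻¹ * y * S.ag i * (y1⁻¹ * y)⁻¹) * y2 by group, e, ← e', ← Q2.apply S j hj]
      group
    exact ⟨by norm_num, by norm_num, by norm_num, by norm_num, step 1 2 2 (by norm_num) Z1.h1 (lin_basis _ _ _ _).2.2.1,
      step 2 1 1 (by norm_num) Z1.h2 (lin_basis _ _ _ _).2.1, step 4 4 4 (by norm_num) Z1.h4 (lin_basis _ _ _ _).2.2.2.1,
      step 8 k' 8 (by norm_num) Z1.h8 (lin_basis _ _ _ _).2.2.2.2⟩
  obtain ⟨y3, d3, Q3⟩ := S.quad_four (by norm_num : 10 < 16) (by norm_num)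
  obtain ⟨j, hj, ej⟩ := Q3.surj S (by norm_num : 5 < 16)
  have hj8 : 8 ≤ j := by
    by_contra h
    have key : ∀ v < 8, ∀ x < 16, lin 1 2 10 x v ≠ 5 := by decide +kernel
    exact key j (by omega) d3 Q3.ld ej
  obtain ⟨y4, Q4⟩ := S.quad_eight hj hj8
  have T := (Q3.comp S Q4).comp S Z2
  refine ⟨y3 * y4 * (y2⁻¹ * (y1⁻¹ * y)), ?_⟩
  have e : ∀ x, lin 1 2 10 x 2 = 2 ∧ lin 1 2 10 x 1 = 1 ∧ lin 1 2 10 x 4 = 10 := fun x =>
    ⟨(lin_basis _ _ _ _).2.2.1, (lin_basis _ _ _ _).2.1, (lin_basis _ _ _ _).2.2.2.1⟩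
  have e' : ∀ a b c x, lin a b c x 2 = b ∧ lin a b c x 1 = a ∧ lin a b c x 4 = c ∧ lin a b c x 8 = x := fun a b c x =>
    ⟨(lin_basis _ _ _ _).2.2.1, (lin_basis _ _ _ _).2.1, (lin_basis _ _ _ _).2.2.2.1, (lin_basis _ _ _ _).2.2.2.2⟩
  rw [(e' _ _ _ _).1, (e' _ _ _ _).2.1, (e' _ _ _ _).2.2.1, (e' _ _ _ _).2.2.2, (e d3).1, (e d3).2.1, (e d3).2.2,
    ej] at T
  exact T

end CfsgLib.Co3Recog.X
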