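/-
An isomorphism on a subgroup of odd index over a self-centralising elementary abelian normal subgroup extends.
-/
import Cfsg.Agent.S0051
import Mathlib.GroupTheory.QuotientGroup.Basic
import Mathlib.GroupTheory.PGroup

set_option autoImplicit false
set_option linter.unusedSectionVars false
set_option linter.style.haveILetI false

namespace CfsgLib.Co3Recog.Extension

open Subgroup

variable {N₁ : Type*} {N₂ : Type*} [Group N₁] [Finite N₁] [Group N₂] [Finite N₂]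

theorem extend (A : Subgroup N₁) [A.Normal] (hsq : ∀ a ∈ A, a * a = 1)
    (hcomm : ∀ a ∈ A, ∀ b ∈ A, a * b = b * a)
    (P : Subgroup N₁) (hAP : A ≤ P) (hodd : Odd P.index)
    (θ : P →* N₂) (hinj : ∀ (a : N₁) (ha : a ∈ A), θ ⟨a, hAP ha⟩ = 1 → a = 1)
    (hself₂ : ∀ y : N₂, (∀ (a : N₁) (ha : a ∈ A), y * θ ⟨a, hAP ha⟩ = θ ⟨a, hAP ha⟩ * y) →
      ∃ (a : N₁) (ha : a ∈ A), y = θ ⟨a, hAP ha⟩)
    (hcov : ∀ x : N₁, ∃ y : N₂, ∀ (a : N₁) (ha : a ∈ A),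
      θ ⟨x * a * x⁻¹, hAP (Subgroup.Normal.conj_mem inferInstance a ha x)⟩ = y * θ ⟨a, hAP ha⟩ * y⁻¹) :
    ∃ φ : N₁ →* N₂, (∀ (a : N₁) (ha : a ∈ A), φ a = θ ⟨a, hAP ha⟩) ∧
      ∀ p : P, ∃ (a : N₁) (ha : a ∈ A), φ p = θ ⟨a, hAP ha⟩ * θ p := by
  classical
  have hAn : ∀ (x : N₁) {a : N₁}, a ∈ A → x * a * x⁻¹ ∈ A := fun x a ha =>
    Subgroup.Normal.conj_mem inferInstance a ha x
  let α : A →* N₂ := θ.comp (Subgroup.inclusion hAP)
  have hα : ∀ (a : N₁) (ha : a ∈ A), α ⟨a, ha⟩ = θ ⟨a, hAP ha⟩ := fun a ha => rfl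
  have hαinj : Function.Injective α := fun a b e => Subtype.ext (by
    have := hinj _ (mul_mem a.2 (inv_mem b.2)) (show α (a * b⁻¹) = 1 by rw [map_mul, map_inv, e, mul_inv_cancel])
    exact mul_inv_eq_one.mp this)
  -- pairs acting alike
  let F : Subgroup (N₁ × N₂) :=
    { carrier := {p | ∀ a : A, α ⟨p.1 * a * p.1⁻¹, hAn _ a.2⟩ = p.2 * α a * p.2⁻¹}
      one_mem' := fun a => by
        simp only [Prod.fst_one, Prod.snd_one, one_mul, inv_one, mul_one]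
      mul_mem' := fun {p q} hp hq a => by
        have e : (⟨(p * q).1 * a * (p * q).1⁻¹, hAn _ a.2⟩ : A) =
            ⟨p.1 * (⟨q.1 * a * q.1⁻¹, hAn _ a.2⟩ : A) * p.1⁻¹, hAn _ (hAn _ a.2)⟩ := Subtype.ext (by
          simp [mul_assoc])
        rw [e, hp ⟨_, hAn _ a.2⟩, hq a]
        simp [mul_assoc]
      inv_mem' := fun {p} hp a => by
        have h := hp ⟨p.1⁻¹ * a * p.1, by simpa using hAn p.1⁻¹ a.2⟩
        have e : (⟨p.1 * (p.1⁻¹ * a * p.1) * p.1⁻¹, hAn _ (by simpa using hAn p.1⁻¹ a.2)⟩ : A) = a :=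
          Subtype.ext (by simp [mul_assoc])
        rw [e] at h
        have e' : (⟨(p⁻¹).1 * a * (p⁻¹).1⁻¹, hAn _ a.2⟩ : A) =
            ⟨p.1⁻¹ * a * p.1, by simpa using hAn p.1⁻¹ a.2⟩ := Subtype.ext (by simp)
        rw [e', h]
        simp [mul_assoc] }
  have hF : ∀ p : N₁ × N₂, p ∈ F ↔ ∀ a : A, α ⟨p.1 * a * p.1⁻¹, hAn _ a.2⟩ = p.2 * α a * p.2⁻¹ :=
    fun p => Iff.rfl
  have hαc : ∀ a b : A, α a * α b * (α a)⁻¹ = α b := fun a b => by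
    rw [← map_mul, ← map_inv, ← map_mul]
    exact congrArg α (Subtype.ext (by
      show (a : N₁) * b * (a : N₁)⁻¹ = b
      rw [hcomm _ a.2 _ b.2, mul_inv_cancel_right]))
  have hAF : ∀ a b : A, ((a : N₁), α b) ∈ F := fun a b c => by
    show α ⟨(a : N₁) * c * (a : N₁)⁻¹, _⟩ = α b * α c * (α b)⁻¹
    rw [hαc]
    exact congrArg α (Subtype.ext (by
      show (a : N₁) * c * (a : N₁)⁻¹ = c
      rw [hcomm _ a.2 _ c.2, mul_inv_cancel_right]))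
  let D : Subgroup F :=
    { carrier := {p | ∃ a : A, (p : N₁ × N₂) = ((a : N₁), α a)}
      one_mem' := ⟨1, by simp; rfl⟩
      mul_mem' := fun {p q} ⟨a, ha⟩ ⟨b, hb⟩ => ⟨a * b, by rw [Subgroup.coe_mul, ha, hb]; simp⟩
      inv_mem' := fun {p} ⟨a, ha⟩ => ⟨a⁻¹, by rw [Subgroup.coe_inv, ha]; simp⟩ }
  haveI : D.Normal := ⟨fun p hp q => by
    obtain ⟨a, ha⟩ := hp
    refine ⟨⟨(q : N₁ × N₂).1 * a * (q : N₁ × N₂).1⁻¹, hAn _ a.2⟩, ?_⟩
    rw [Subgroup.coe_mul, Subgroup.coe_mul, Subgroup.coe_inv, ha]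
    exact Prod.ext rfl ((hF _).mp q.2 a).symm⟩
  let κ : A →* F :=
    { toFun := fun b => ⟨(1, α b), by simpa using hAF 1 b⟩
      map_one' := Subtype.ext (by simp)
      map_mul' := fun a b => Subtype.ext (by simp) }
  let π := QuotientGroup.mk' D
  let K : Subgroup (F ⧸ D) := (π.comp κ).range
  haveI : IsMulCommutative K := ⟨⟨by
    rintro ⟨_, a, rfl⟩ ⟨_, b, rfl⟩
    refine Subtype.ext ?_
    show π.comp κ a * π.comp κ b = π.comp κ b * π.comp κ a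
    rw [← map_mul, ← map_mul]
    exact congrArg _ (Subtype.ext (hcomm _ a.2 _ b.2))⟩⟩
  haveI : K.Normal := ⟨by
    rintro _ ⟨b, rfl⟩ g
    obtain ⟨q, rfl⟩ := QuotientGroup.mk'_surjective D g
    refine ⟨⟨(q : N₁ × N₂).1 * b * (q : N₁ × N₂).1⁻¹, hAn _ b.2⟩, ?_⟩
    show π (κ _) = π q * π (κ b) * (π q)⁻¹
    rw [← map_mul, ← map_inv, ← map_mul]
    refine congrArg π (Subtype.ext (Prod.ext ?_ ?_))
    · simp [κ]
    · exact (hF _).mp q.2 b⟩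
  let U₀ : Subgroup F := P.comap ((MonoidHom.fst N₁ N₂).comp F.subtype)
  have hsurj : Function.Surjective ((MonoidHom.fst N₁ N₂).comp F.subtype) := fun x => by
    obtain ⟨y, hy⟩ := hcov x
    refine ⟨⟨(x, y), (hF (x, y)).mpr fun a => ?_⟩, rfl⟩
    exact hy (a : N₁) a.2
  have hDU : D ≤ U₀ := by
    intro p hp
    obtain ⟨a, ha⟩ := hp
    show (p : N₁ × N₂).1 ∈ P
    rw [ha]
    exact hAP a.2
  let U : Subgroup (F ⧸ D) := U₀.map π
  have hUi : U.index = P.index := by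
    rw [← Subgroup.index_comap_of_surjective U (QuotientGroup.mk'_surjective D), Subgroup.comap_map_eq_self,
      Subgroup.index_comap_of_surjective P hsurj]
    rw [QuotientGroup.ker_mk']
    exact hDU
  have hKU : K ≤ U := by
    rintro _ ⟨b, rfl⟩
    exact ⟨κ b, show (1 : N₁) ∈ P from one_mem _, rfl⟩
  have hKp : IsPGroup 2 K := by
    rintro ⟨_, b, rfl⟩
    refine ⟨1, Subtype.ext ?_⟩
    show (π.comp κ b) ^ (2 ^ 1) = 1
    rw [pow_one, sq, ← map_mul, show b * b = 1 from Subtype.ext (hsq _ b.2), map_one]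
  have hcop : (Nat.card K).Coprime U.index := by
    haveI : Fact (Nat.Prime 2) := ⟨Nat.prime_two⟩
    obtain ⟨k, hk⟩ := IsPGroup.iff_card.mp hKp
    rw [hk, hUi]
    exact Nat.Coprime.pow_left k (Nat.coprime_two_left.mpr hodd)
  -- the graph of the given map
  have hgr : ∀ p : P, ((p : N₁), θ p) ∈ F := fun p a => by
    show θ ⟨(p : N₁) * a * (p : N₁)⁻¹, _⟩ = θ p * θ ⟨a, hAP a.2⟩ * (θ p)⁻¹
    rw [← map_mul, ← map_inv, ← map_mul]
    rfl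
  let ι : P →* F :=
    { toFun := fun p => ⟨((p : N₁), θ p), hgr p⟩
      map_one' := Subtype.ext (by simp)
      map_mul' := fun a b => Subtype.ext (by simp) }
  let W : Subgroup (F ⧸ D) := (π.comp ι).range
  have hWU : W ≤ U := by
    rintro _ ⟨p, rfl⟩
    exact ⟨ι p, p.2, rfl⟩
  have hker : ∀ q : F, π q = 1 ↔ ∃ a : A, (q : N₁ × N₂) = ((a : N₁), α a) := fun q =>
    QuotientGroup.eq_one_iff q
  have hWK : W ⊓ K = ⊥ := by
    rw [eq_bot_iff]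
    rintro x ⟨⟨p, hp⟩, b, hb⟩
    rw [Subgroup.mem_bot, ← hp]
    obtain ⟨a, ha⟩ := (hker ((κ b)⁻¹ * ι p)).mp (by
      rw [map_mul, map_inv, show π (κ b) = π (ι p) from hb.trans hp.symm, inv_mul_cancel])
    have h1 : (p : N₁) = a := by simpa [κ, ι] using congrArg Prod.fst ha
    have h2 : (α b)⁻¹ * θ p = α a := by simpa [κ, ι] using congrArg Prod.snd ha
    have hpa : θ p = α a := congrArg θ (Subtype.ext h1)
    rw [hpa, mul_eq_right, inv_eq_one] at h2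
    rw [show π.comp ι p = π.comp κ b from hp.trans hb.symm, show b = 1 from hαinj (h2.trans (map_one α).symm), map_one]
  have hKW : K ⊔ W = U := by
    refine le_antisymm (sup_le hKU hWU) ?_
    rintro _ ⟨q, hq, rfl⟩
    set p : P := ⟨(q : N₁ × N₂).1, hq⟩
    obtain ⟨a, ha, e⟩ := hself₂ ((q : N₁ × N₂).2 * (θ p)⁻¹) (fun a ha => by
      have hb : (p : N₁)⁻¹ * a * p ∈ A := by simpa using hAn (p : N₁)⁻¹ ha
      have h1 := (hF _).mp q.2 ⟨_, hb⟩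
      have e1 : θ ⟨(p : N₁)⁻¹ * a * p, hAP hb⟩ = (θ p)⁻¹ * θ ⟨a, hAP ha⟩ * θ p := by
        rw [← map_inv, ← map_mul, ← map_mul]; rfl
      rw [hα _ hb, e1] at h1
      have e2 : (⟨(q : N₁ × N₂).1 * ((p : N₁)⁻¹ * a * p) * (q : N₁ × N₂).1⁻¹, hAn _ hb⟩ : A) = ⟨a, ha⟩ :=
        Subtype.ext (by simp [p, mul_assoc])
      rw [e2, hα a ha] at h1
      conv_rhs => rw [h1]
      simp only [mul_assoc, mul_inv_rev, inv_inv, inv_mul_cancel_left, inv_mul_cancel, mul_inv_cancel, mul_one, mul_inv_cancel_left])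
    have hq' : q = κ ⟨a, ha⟩ * ι p := Subtype.ext (Prod.ext (by simp [κ, ι, p]) (by
      show (q : N₁ × N₂).2 = α ⟨a, ha⟩ * θ p
      rw [hα, ← e, inv_mul_cancel_right]))
    rw [hq', map_mul]
    exact mul_mem (Subgroup.mem_sup_left ⟨_, rfl⟩) (Subgroup.mem_sup_right ⟨_, rfl⟩)
  obtain ⟨H, hH⟩ := Cfsg.Agent.S0051.result K U hKU hcop W hWU hWK hKW
  -- the complement is the graph of a map
  let H₀ : Subgroup F := H.comap π
  have hex : ∀ x : N₁, ∃ q : F, q ∈ H₀ ∧ (q : N₁ × N₂).1 = x := by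
    intro x
    obtain ⟨q, hq⟩ := hsurj x
    obtain ⟨k, hk, h, hh, hkh⟩ := (Set.eq_univ_iff_forall.mp hH.mul_eq (π q))
    obtain ⟨b, rfl⟩ := hk
    refine ⟨(κ b)⁻¹ * q, ?_, by simpa [κ] using hq⟩
    show π ((κ b)⁻¹ * q) ∈ H
    rw [map_mul, map_inv, ← hkh]
    simpa using hh
  have huniq : ∀ q ∈ H₀, (q : N₁ × N₂).1 = 1 → q = 1 := by
    intro q hq h1
    obtain ⟨a, ha, e⟩ := hself₂ (q : N₁ × N₂).2 (fun a ha => by
      have h := (hF _).mp q.2 ⟨a, ha⟩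
      rw [show (⟨(q : N₁ × N₂).1 * a * (q : N₁ × N₂).1⁻¹, hAn _ ha⟩ : A) = ⟨a, ha⟩ from
        Subtype.ext (by simp [h1]), hα a ha] at h
      conv_rhs => rw [h]
      simp [mul_assoc])
    have hqk : q = κ ⟨a, ha⟩ := Subtype.ext (Prod.ext h1 e)
    have hb : π q ∈ K ⊓ H := ⟨⟨⟨a, ha⟩, by rw [hqk]; rfl⟩, hq⟩
    rw [hH.disjoint.eq_bot, Subgroup.mem_bot, hqk] at hb
    obtain ⟨c, hc⟩ := (hker _).mp hb
    have hc1 : c = 1 := Subtype.ext (congrArg Prod.fst hc).symm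
    have hc2 : α ⟨a, ha⟩ = α c := congrArg Prod.snd hc
    rw [hqk, hαinj hc2, hc1, map_one]
  choose φ hφH hφ1 using hex
  have hφeq : ∀ (q : F) (x : N₁), q ∈ H₀ → (q : N₁ × N₂).1 = x → q = φ x := fun q x hq hx => by
    have := huniq ((φ x)⁻¹ * q) (mul_mem (inv_mem (hφH x)) hq) (by simp [hφ1, hx])
    exact (inv_mul_eq_one.mp this).symm
  let φ' : N₁ →* N₂ := MonoidHom.mk' (fun x => (φ x : N₁ × N₂).2) fun x y => by
    rw [← hφeq (φ x * φ y) (x * y) (mul_mem (hφH x) (hφH y)) (by simp [hφ1])]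
    rfl
  have hφA : ∀ (a : N₁) (ha : a ∈ A), φ' a = θ ⟨a, hAP ha⟩ := by
    intro a ha
    have : φ a = ⟨(a, α ⟨a, ha⟩), hAF ⟨a, ha⟩ ⟨a, ha⟩⟩ := (hφeq _ a (by
      show π ⟨(a, α ⟨a, ha⟩), _⟩ ∈ H
      rw [(hker _).mpr ⟨⟨a, ha⟩, rfl⟩]
      exact one_mem H) rfl).symm
    exact congrArg (fun q : F => (q : N₁ × N₂).2) this
  refine ⟨φ', hφA, fun p => ?_⟩
  obtain ⟨a, ha, e⟩ := hself₂ (φ' p * (θ p)⁻¹) (fun a ha => by
    have hb : (p : N₁)⁻¹ * a * p ∈ A := by simpa using hAn (p : N₁)⁻¹ ha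
    have h1 := (hF _).mp (φ p).2 ⟨_, hb⟩
    have e1 : θ ⟨(p : N₁)⁻¹ * a * p, hAP hb⟩ = (θ p)⁻¹ * θ ⟨a, hAP ha⟩ * θ p := by
      rw [← map_inv, ← map_mul, ← map_mul]; rfl
    rw [hα _ hb, e1] at h1
    have e2 : (⟨(φ p : N₁ × N₂).1 * ((p : N₁)⁻¹ * a * p) * (φ p : N₁ × N₂).1⁻¹, hAn _ hb⟩ : A) = ⟨a, ha⟩ :=
      Subtype.ext (by simp [hφ1, mul_assoc])
    rw [e2, hα a ha] at h1
    conv_rhs => rw [h1]
    simp only [φ', MonoidHom.mk'_apply, mul_assoc, mul_inv_rev, inv_inv, inv_mul_cancel_left, inv_mul_cancel,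
      mul_inv_cancel, mul_one, mul_inv_cancel_left])
  exact ⟨a, ha, mul_inv_eq_iff_eq_mul.mp e⟩

end CfsgLib.Co3Recog.Extension
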