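/-
The letters in a group with this centraliser of an involution satisfy the relations of the enumerations.
-/
import Cfsg.Agent.Lib.Co3Recog.A
import Cfsg.Agent.Lib.Co3Recog.M
import Cfsg.Agent.Lib.Co3Recog.Extension
import Cfsg.Agent.Lib.Co3Recog.DataInv
import Cfsg.Agent.Lib.Co3Recog.EnumH.Main
import Cfsg.Agent.Lib.Co3Recog.EnumG.Main

set_option autoImplicit false
set_option linter.unusedSectionVars false
set_option linter.style.haveILetI false
set_option maxRecDepth 30000
set_option maxHeartbeats 1000000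

namespace CfsgLib.Co3Recog.Rel

open Equiv Subgroup CfsgPC Base Data X CfsgLib.CosetEnum

attribute [local irreducible] xGens xInv xLetters xChain kChain pChain sGens dGens dInv dChain dZero dZeroImg
  alphaTests derCand derRels aConj aElems mLetters zC sC uC EnumH.rels EnumG.rels

theorem der_orig : (derRels.all fun r => eqB xBases (apW pGens r) id) = true := by decide +kernel

theorem alpha_orig : (alphaTests.all fun t => eqB xBases
    (fun b => (List.replicate t.2 t.1).flatten.foldr
      (fun a c => if a = 5 then ap (xGens.getD 4 0) c else ap (dZero.getD a 0) c) b) id) = true := by decide +kernel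

theorem alpha_perm : permsB 339 dZero dZeroInv = true ∧ permsB 339 dZeroImg dZeroImgInv = true ∧
    siftsB 339 pChain dZeroImg = true := by decide +kernel

theorem k_perm : permsB 339 kGens kGens = true ∧ kGens.length = 5 ∧
    ((List.range 5).all fun a => Nat.beq (kGens.getD a 0) (xGens.getD a 0)) = true := by decide +kernel

theorem k_closed : Nat.card (genG 339 kGens) = 80640 ∧ kGens.length = 5 ∧ genG 339 kGens ≤ X.Grp := by
  obtain ⟨hp, hl, he⟩ := k_perm
  obtain ⟨ht, hall, hs⟩ := k_table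
  have hle : genG 339 kGens ≤ X.Grp := genG_le hp fun a ha => by
    have ha5 : a < 5 := hl ▸ ha
    rw [el, Nat.eq_of_beq_eq_true (List.all_eq_true.mp he a (List.mem_range.mpr ha5))]
    exact el_mem_gen x_perm.1 (gens_len.symm ▸ (by omega))
  have h := closed_ofF (by norm_num) faith_bases (valid_of_perms hp) hle ht hall
  exact ⟨hs ▸ h.2, hl, hle⟩

/-- The subgroup of the normaliser in the model. -/
noncomputable def pSub : Subgroup X.Grp := closure (pgen '' Set.Iio 5)

theorem pSub_le : pSub.map X.Grp.subtype = genG 339 pGens := by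
  rw [pSub, MonoidHom.map_closure]
  refine le_antisymm ((closure_le _).mpr ?_) (genG_le p_table.2.2 fun a ha => ?_)
  · rintro _ ⟨_, ⟨a, ha, rfl⟩, rfl⟩
    show (pgen a : Perm (Fin 339)) ∈ genG 339 pGens
    rw [(pgen_spec ha).1]
    exact el_mem_gen p_table.2.2 (pgen_len.symm ▸ ha)
  · refine subset_closure ⟨pgen a, ⟨a, pgen_len ▸ ha, rfl⟩, ?_⟩
    exact (pgen_spec (pgen_len ▸ ha)).1

theorem mem_pSub {g : X.Grp} : g ∈ pSub ↔ (g : Perm (Fin 339)) ∈ genG 339 pGens := by
  rw [← pSub_le]
  exact ⟨fun h => mem_map_of_mem _ h, fun ⟨x, hx, e⟩ => Subtype.ext e ▸ hx⟩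

theorem sift_mem_pSub {cs is : List ℕ} (hp : permsB 339 cs is = true) (hs : siftsB 339 pChain cs = true) {a : ℕ}
    (ha : a < cs.length) : Fx (ap (cs.getD a 0)) (xe (cs.getD a 0)) ∧ xe (cs.getD a 0) ∈ pSub := by
  have hm : el 339 cs a ∈ genG 339 pGens :=
    mem_table (by norm_num) (table_of p_table.1) (valid_of_perms p_table.2.2) hp hs ha
  have e : (xe (cs.getD a 0) : Perm (Fin 339)) = el 339 cs a := xe_of_mem (pGens_le hm)
  exact ⟨fun i => by rw [e]; exact rep_el hp ha i, mem_pSub.mpr (e ▸ hm)⟩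

/-- The letters of the normaliser. -/
def nIdx : List ℕ := [0, 1, 2, 3, 6, 5]

/-- The normaliser in the group of the letters. -/
noncomputable def nSub : Subgroup M.Grp := closure ((fun g => M.lm (nIdx.getD g 0)) '' Set.Iio 6)

theorem lm_mem_n {a : ℕ} (ha : a < 7) (h4 : a ≠ 4) : M.lm a ∈ nSub := by
  obtain ⟨g, hg, e⟩ : ∃ g < 6, nIdx.getD g 0 = a := by
    interval_cases a
    exacts [⟨0, by norm_num, rfl⟩, ⟨1, by norm_num, rfl⟩, ⟨2, by norm_num, rfl⟩, ⟨3, by norm_num, rfl⟩,
      absurd rfl h4, ⟨5, by norm_num, rfl⟩, ⟨4, by norm_num, rfl⟩]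
  exact subset_closure ⟨g, hg, by rw [← e]⟩

/-- The elementary subgroup in the group of the letters. -/
noncomputable def am (m : ℕ) : M.Grp := M.fcut (ax m)

theorem am_mul {m k : ℕ} (hm : m < 16) (hk : k < 16) : am m * am k = am (m ^^^ k) := by
  rw [am, am, ← map_mul, ax_mul hm hk]; rfl

theorem am_conj {g b : ℕ} (hg : g < 6) (hb : b < 4) :
    (aConj.getD g []).getD b 16 < 16 ∧
      M.lm (nIdx.getD g 0) * am (2 ^ b) * (M.lm (nIdx.getD g 0))⁻¹ = am ((aConj.getD g []).getD b 16) := by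
  have h := List.all_eq_true.mp (List.all_eq_true.mp fused_ok.2.2.1 g (List.mem_range.mpr hg)) b (List.mem_range.mpr hb)
  simp only [Bool.and_eq_true, Nat.blt_eq] at h
  have h7 : nIdx.getD g 0 < 7 := (by decide : ∀ g < 6, nIdx.getD g 0 < 7) g hg
  have hl : nLetters.getD g 0 = ml (nIdx.getD g 0) := by interval_cases g <;> rfl
  have hlt : 2 ^ b < 16 := lt_of_le_of_lt (Nat.pow_le_pow_right (by norm_num) (by omega : b ≤ 3)) (by norm_num)
  refine ⟨h.1, ?_⟩
  rw [inv_eq_of_mul_eq_one_right (M.lm_sq h7), mul_assoc]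
  have hF := (M.lm_spec h7).1
  rw [← hl] at hF
  exact M.eqM h.2 (hF.mul ((M.fcut_spec (ax_spec hlt)).cut.mul hF)) (M.fcut_spec (ax_spec h.1)).cut

theorem aConj_five : (aConj.getD 5 []).getD 0 16 = 2 ∧ (aConj.getD 5 []).getD 1 16 = 1 ∧
    (aConj.getD 5 []).getD 2 16 = 10 ∧ (aConj.getD 5 []).getD 3 16 = 5 := by decide +kernel

theorem am_norm {x : M.Grp} (hx : x ∈ nSub) : ∀ a ∈ axSub.map M.fcut, x * a * x⁻¹ ∈ axSub.map M.fcut := by
  induction hx using closure_induction with
  | mem x h =>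
    obtain ⟨g, hg, rfl⟩ := h
    rintro _ ⟨_, ⟨m, hm, rfl⟩, rfl⟩
    have hm' : am m ∈ (axSub.map M.fcut).comap (MulAut.conj (M.lm (nIdx.getD g 0))).toMonoidHom := by
      refine span16 am (fun i hi j hj => am_mul hi hj) _ ?_ ?_ ?_ ?_ m hm
      all_goals rw [mem_comap]
      all_goals show M.lm (nIdx.getD g 0) * _ * (M.lm (nIdx.getD g 0))⁻¹ ∈ axSub.map M.fcut
      · obtain ⟨hlt, e⟩ := am_conj hg (by norm_num : 0 < 4)
        exact ⟨_, ⟨_, hlt, rfl⟩, e.symm⟩
      · obtain ⟨hlt, e⟩ := am_conj hg (by norm_num : 1 < 4)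
        exact ⟨_, ⟨_, hlt, rfl⟩, e.symm⟩
      · obtain ⟨hlt, e⟩ := am_conj hg (by norm_num : 2 < 4)
        exact ⟨_, ⟨_, hlt, rfl⟩, e.symm⟩
      · obtain ⟨hlt, e⟩ := am_conj hg (by norm_num : 3 < 4)
        exact ⟨_, ⟨_, hlt, rfl⟩, e.symm⟩
    exact hm'
  | one => intro a ha; simpa using ha
  | mul x y _ _ ihx ihy =>
    intro a ha
    rw [show x * y * a * (x * y)⁻¹ = x * (y * a * y⁻¹) * x⁻¹ by group]
    exact ihx _ (ihy _ ha)
  | inv x _ ih =>
    intro a ha
    let f : ↥(axSub.map M.fcut) → ↥(axSub.map M.fcut) := fun b => ⟨_, ih b b.2⟩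
    have hf : Function.Injective f := fun b c e => Subtype.ext (by simpa [f] using congrArg Subtype.val e)
    obtain ⟨b, hb⟩ := Finite.injective_iff_surjective.mp hf ⟨a, ha⟩
    have e : x * b * x⁻¹ = a := congrArg Subtype.val hb
    rw [← e, show x⁻¹ * (x * b * x⁻¹) * x⁻¹⁻¹ = (b : M.Grp) by group]
    exact b.2

theorem pgen_fcut {a : ℕ} (ha : a < 5) : M.fcut (pgen a) = M.lm ([0, 1, 2, 3, 6].getD a 0) := by
  interval_cases a
  exacts [M.fcut_gen (by norm_num : 0 < 6), M.fcut_gen (by norm_num : 1 < 6), M.fcut_gen (by norm_num : 2 < 6),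
    M.fcut_gen (by norm_num : 3 < 6), M.fcut_gen (by norm_num : 5 < 6)]

theorem pSub_map_le : pSub.map M.fcut ≤ nSub := by
  rw [pSub, MonoidHom.map_closure, closure_le]
  rintro _ ⟨_, ⟨a, ha, rfl⟩, rfl⟩
  rw [SetLike.mem_coe, pgen_fcut ha]
  have h5 : a < 5 := ha
  exact lm_mem_n ((by decide : ∀ a < 5, [0, 1, 2, 3, 6].getD a 0 < 7) a h5)
    ((by decide : ∀ a < 5, [0, 1, 2, 3, 6].getD a 0 ≠ 4) a h5)

theorem axSub_le : axSub ≤ pSub := by
  rintro _ ⟨m, hm, rfl⟩
  have hl : m < aElems.length := a_perm.2.1.symm ▸ hm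
  exact (sift_mem_pSub a_perm.1 a_sift.2.1 hl).2

theorem syl_le : syl ≤ pSub := fun g hg => by
  refine mem_pSub.mpr ?_
  have hp := x_perm.2.2.2.2.2.2.2.1
  exact genG_le hp (fun a ha => mem_table (by norm_num) (table_of p_table.1) (valid_of_perms p_table.2.2) hp
    p_table.2.1 ha) hg

theorem pSub_odd : Odd ((pSub.map M.fcut).subgroupOf nSub).index := by
  rw [Nat.odd_iff]
  by_contra hne
  have hdvd : 2 ∣ ((pSub.map M.fcut).subgroupOf nSub).index := by omega
  have h1 := ((pSub.map M.fcut).subgroupOf nSub).card_mul_index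
  rw [Nat.card_congr (subgroupOfEquivOfLe pSub_map_le).toEquiv, card_map_of_injective M.fcut_inj] at h1
  have h2 : 1024 ∣ Nat.card pSub := syl_facts.1 ▸ Subgroup.card_dvd_of_le syl_le
  have h3 : Nat.card nSub ∣ 495766656000 := M.closed.2.1 ▸ Subgroup.card_subgroup_dvd_card nSub
  rw [← h1] at h3
  have := (mul_dvd_mul h2 hdvd).trans h3
  norm_num at this

theorem d_closed : prodSet 339 dChain = genG 339 dGens ∧
    genG 339 dGens = X.Grp ⊓ centralizer ({(s : Perm (Fin 339))} : Set (Perm (Fin 339))) := by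
  have h := card_cent_mul_le_of_conj (H := X.Grp) (g := (s : Perm (Fin 339)))
    (fun i : Fin 630 => ((qx i : X.Grp) : Perm (Fin 339)))
    (fun i j e => Fin.ext (qx_inj i.2 j.2 (Subtype.ext e))) fun i => by
      obtain ⟨c, hc⟩ := isConj_iff.mp (qx_spec i i.2).2
      exact ⟨c, c.2, congrArg Subtype.val hc⟩
  rw [Nat.card_fin, X.closed.2] at h
  have hub : Nat.card (X.Grp ⊓ centralizer ({(s : Perm (Fin 339))} : Set (Perm (Fin 339))) :
      Subgroup (Perm (Fin 339))) ≤ 4608 := le_of_mul_le_mul_right (h.trans (by norm_num)) (by norm_num : 0 < 630)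
  have hv := valid_of_perms a_perm.2.2.1
  have hle : Nat.card (genG 339 dGens) ≤ 4608 :=
    (Nat.card_le_card_of_injective _ (inclusion_injective d_mem)).trans hub
  obtain ⟨hp, hc⟩ := table_eq (by norm_num) (table_of d_table.1) hv (hle.trans d_table.2.ge)
  rw [d_table.2] at hc
  exact ⟨hp, eq_of_le_of_card_ge d_mem (hub.trans hc.ge)⟩

variable {G : Type} [Group G] [Finite G] {t : G} (S : Setup t)

/-- The map on the elementary part and the normaliser in the model. -/
noncomputable def back (x : M.fcut.range) : X.Grp := (MonoidHom.ofInjective M.fcut_inj).symm x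

theorem back_fcut (g : X.Grp) (h : M.fcut g ∈ M.fcut.range) : back ⟨M.fcut g, h⟩ = g :=
  (MonoidHom.ofInjective M.fcut_inj).symm_apply_apply g

include S

/-- The map on the normaliser. -/
theorem exists_phi : ∃ φ : nSub →* G,
    ∀ g : X.Grp, ∀ hg : g ∈ pSub, φ ⟨M.fcut g, pSub_map_le ⟨g, hg, rfl⟩⟩ = S.ψ g := by
  classical
  let A : Subgroup nSub := (axSub.map M.fcut).subgroupOf nSub
  let P : Subgroup nSub := (pSub.map M.fcut).subgroupOf nSub
  haveI : A.Normal := ⟨fun a ha x => am_norm x.2 _ ha⟩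
  have hAP : A ≤ P := fun a ha => map_mono axSub_le ha
  let θ : P →* G := S.ψ.comp ((MonoidHom.ofInjective M.fcut_inj).symm.toMonoidHom.comp
    { toFun := fun p => ⟨((p : nSub) : M.Grp), map_le_range _ _ p.2⟩
      map_one' := rfl
      map_mul' := fun _ _ => rfl })
  have hθ : ∀ (g : X.Grp) (hn : M.fcut g ∈ nSub) (hp : (⟨M.fcut g, hn⟩ : nSub) ∈ P),
      θ ⟨⟨M.fcut g, hn⟩, hp⟩ = S.ψ g := fun g hn hp => congrArg S.ψ (back_fcut g ⟨g, rfl⟩)
  have hAg : ∀ a : nSub, a ∈ A → ∃ m < 16, ∃ h, a = ⟨am m, h⟩ := by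
    intro a ha
    obtain ⟨_, ⟨m, hm, rfl⟩, e⟩ := (show (a : M.Grp) ∈ axSub.map M.fcut from ha)
    exact ⟨m, hm, by rw [am, e]; exact a.2, Subtype.ext e.symm⟩
  have hθA : ∀ (m : ℕ) (h : am m ∈ nSub) (hp : (⟨am m, h⟩ : nSub) ∈ P), θ ⟨⟨am m, h⟩, hp⟩ = S.ag m :=
    fun m h hp => hθ (ax m) h hp
  have hcov : ∀ x : nSub, ∃ y : G, ∀ (a : nSub) (ha : a ∈ A),
      θ ⟨x * a * x⁻¹, hAP (Subgroup.Normal.conj_mem inferInstance a ha x)⟩ = y * θ ⟨a, hAP ha⟩ * y⁻¹ := by
    -- the elements whose action is realised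
    have key : ∀ x : M.Grp, x ∈ nSub → ∃ y : G, ∀ m < 16, ∃ k < 16, x * am m * x⁻¹ = am k ∧ y * S.ag m * y⁻¹ = S.ag k := by
      intro x hx
      induction hx using closure_induction with
      | mem x h =>
        obtain ⟨g, hg, rfl⟩ := h
        obtain ⟨y, hy⟩ : ∃ y : G, ∀ b < 4, y * S.ag (2 ^ b) * y⁻¹ = S.ag ((aConj.getD g []).getD b 16) := by
          by_cases h5 : g = 5
          · subst h5
            obtain ⟨y, T⟩ := S.exists_target
            obtain ⟨c0, c1, c2, c3⟩ := aConj_five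
            refine ⟨y, fun b hb => ?_⟩
            interval_cases b
            · rw [c0]; exact T.h1
            · rw [c1]; exact T.h2
            · rw [c2]; exact T.h4
            · rw [c3]; exact T.h8
          · have hg5 : g < 5 := by have : g < 6 := hg; omega
            refine ⟨S.ψ (pgen g), fun b hb => ?_⟩
            obtain ⟨hlt, e⟩ := am_conj (g := g) (by omega) hb
            rw [Setup.ag, Setup.ag, ← map_inv, ← map_mul, ← map_mul]
            refine congrArg S.ψ (M.fcut_inj ?_)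
            rw [map_mul, map_mul, map_inv, pgen_fcut hg5]
            have e' : nIdx.getD g 0 = [0, 1, 2, 3, 6].getD g 0 := by interval_cases g <;> rfl
            rw [← e']
            exact e
        refine ⟨y, fun m hm => ?_⟩
        -- both sides are additive in the index
        let K : Subgroup (M.Grp × G) :=
          (((axSub.map (M.fcut.prod S.ψ))).comap ((MulAut.conj (M.lm (nIdx.getD g 0), y)).toMonoidHom))
        have hK : (am m, S.ag m) ∈ K := by
          refine span16 (fun m => (am m, S.ag m)) (fun i hi j hj => Prod.ext (am_mul hi hj) (S.ag_mul hi hj)) K ?_ ?_ ?_ ?_ m hm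
          all_goals rw [mem_comap]
          · obtain ⟨hlt, e⟩ := am_conj hg (by norm_num : 0 < 4)
            exact ⟨_, ⟨_, hlt, rfl⟩, (Prod.ext e (hy 0 (by norm_num))).symm⟩
          · obtain ⟨hlt, e⟩ := am_conj hg (by norm_num : 1 < 4)
            exact ⟨_, ⟨_, hlt, rfl⟩, (Prod.ext e (hy 1 (by norm_num))).symm⟩
          · obtain ⟨hlt, e⟩ := am_conj hg (by norm_num : 2 < 4)
            exact ⟨_, ⟨_, hlt, rfl⟩, (Prod.ext e (hy 2 (by norm_num))).symm⟩
          · obtain ⟨hlt, e⟩ := am_conj hg (by norm_num : 3 < 4)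
            exact ⟨_, ⟨_, hlt, rfl⟩, (Prod.ext e (hy 3 (by norm_num))).symm⟩
        obtain ⟨_, ⟨k, hk, rfl⟩, e⟩ := hK
        exact ⟨k, hk, (congrArg Prod.fst e).symm, (congrArg Prod.snd e).symm⟩
      | one => exact ⟨1, fun m hm => ⟨m, hm, by simp, by simp⟩⟩
      | mul a b _ _ iha ihb =>
        obtain ⟨y, hy⟩ := iha
        obtain ⟨y', hy'⟩ := ihb
        refine ⟨y * y', fun m hm => ?_⟩
        obtain ⟨k, hk, e, e'⟩ := hy' m hm
        obtain ⟨l, hl, f, f'⟩ := hy k hk
        refine ⟨l, hl, ?_, ?_⟩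
        · rw [← f, ← e]; group
        · rw [← f', ← e']; group
      | inv a ha iha =>
        obtain ⟨y, hy⟩ := iha
        refine ⟨y⁻¹, fun m hm => ?_⟩
        choose σ hσ he hf using fun j : Fin 16 => hy j j.2
        have hinj : Function.Injective fun j : Fin 16 => (⟨σ j, hσ j⟩ : Fin 16) := fun i j e => Fin.ext (by
          have e' : σ i = σ j := congrArg Fin.val e
          refine S.ag_inj i.2 j.2 ?_
          have := (hf i).trans ((congrArg S.ag e').trans (hf j).symm)
          simpa using this)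
        obtain ⟨j, hj⟩ := Finite.injective_iff_surjective.mp hinj ⟨m, hm⟩
        have hj' : σ j = m := congrArg Fin.val hj
        refine ⟨j, j.2, ?_, ?_⟩
        · rw [← hj', ← he j]; group
        · rw [← hj', ← hf j]; group
    intro x
    obtain ⟨y, hy⟩ := key x x.2
    refine ⟨y, fun a ha => ?_⟩
    obtain ⟨m, hm, h, rfl⟩ := hAg a ha
    obtain ⟨k, hk, e, e'⟩ := hy m hm
    have hk' : am k ∈ nSub := pSub_map_le ⟨ax k, axSub_le ⟨k, hk, rfl⟩, rfl⟩
    have e2 : x * (⟨am m, h⟩ : nSub) * x⁻¹ = ⟨am k, hk'⟩ := Subtype.ext e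
    rw [hθA m h]
    simp only [e2]
    rw [hθA k hk']
    exact e'.symm
  obtain ⟨φ, hφA, hφP⟩ := Extension.extend A (fun a ha => by
      obtain ⟨m, hm, h, rfl⟩ := hAg a ha
      exact Subtype.ext (by show am m * am m = 1; rw [am_mul hm hm, Nat.xor_self, am, ax_zero, map_one]))
    (fun a ha b hb => by
      obtain ⟨m, hm, h, rfl⟩ := hAg a ha
      obtain ⟨k, hk, h', rfl⟩ := hAg b hb
      exact Subtype.ext (by show am m * am k = am k * am m; rw [am_mul hm hk, am_mul hk hm, Nat.xor_comm]))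
    P hAP pSub_odd θ
    (fun a ha e => by
      obtain ⟨m, hm, h, rfl⟩ := hAg a ha
      rw [hθA m h] at e
      refine Subtype.ext ?_
      show am m = 1
      rw [show m = 0 from S.ag_inj hm (by norm_num) (e.trans (by rw [Setup.ag, ax_zero, map_one])), am, ax_zero, map_one])
    (fun y hy => by
      have hc : ∀ m < 16, y * S.ag m = S.ag m * y := fun m hm => by
        have hm' : am m ∈ nSub := pSub_map_le ⟨ax m, axSub_le ⟨m, hm, rfl⟩, rfl⟩
        have := hy ⟨am m, hm'⟩ (show am m ∈ axSub.map M.fcut from ⟨ax m, ⟨m, hm, rfl⟩, rfl⟩)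
        rwa [hθA m hm'] at this
      obtain ⟨x, hx⟩ := S.mem_range (show Commute y t from S.ag_one ▸ hc 1 (by norm_num))
      obtain ⟨m, hm, rfl⟩ := ax_self (x := x) fun k hk => S.inj (by
        rw [map_mul, map_mul, hx]; exact hc k hk)
      refine ⟨⟨am m, pSub_map_le ⟨ax m, axSub_le ⟨m, hm, rfl⟩, rfl⟩⟩,
        show am m ∈ axSub.map M.fcut from ⟨ax m, ⟨m, hm, rfl⟩, rfl⟩, ?_⟩
      rw [hθA]
      exact hx.symm)
    hcov
  -- the map differs from the given one by a derivation, which is inner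
  have hval : ∀ (g : X.Grp) (hg : g ∈ pSub), ∃ m < 16, φ ⟨M.fcut g, pSub_map_le ⟨g, hg, rfl⟩⟩ = S.ψ (ax m * g) := by
    intro g hg
    obtain ⟨a, ha, e⟩ := hφP ⟨⟨M.fcut g, pSub_map_le ⟨g, hg, rfl⟩⟩, show M.fcut g ∈ pSub.map M.fcut from ⟨g, hg, rfl⟩⟩
    obtain ⟨m, hm, h, rfl⟩ := hAg a ha
    refine ⟨m, hm, ?_⟩
    rw [map_mul]
    exact e.trans (congrArg₂ (fun a b : G => a * b) (hθA m h _) (hθ g _ _))
  have hpm : ∀ a < 5, pgen a ∈ pSub := fun a ha => subset_closure ⟨a, ha, rfl⟩
  let pn : Fin 5 → nSub := fun a => ⟨M.fcut (pgen a), pSub_map_le ⟨_, hpm a a.2, rfl⟩⟩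
  choose d hd hde using fun a : Fin 5 => hval (pgen a) (hpm a a.2)
  let ds : List ℕ := [d 0, d 1, d 2, d 3, d 4]
  have hds : ∀ a : Fin 5, ds.getD a 0 = d a := by intro a; fin_cases a <;> rfl
  have hkill : ∀ w : List (Fin 5), (w.map fun a : Fin 5 => pgen a).prod = 1 →
      (w.map fun a => ax (d a) * pgen a).prod = 1 := fun w hw => S.inj (by
    rw [map_list_prod, List.map_map, map_one]
    have e1 : (w.map (S.ψ ∘ fun a => ax (d a) * pgen a)) = w.map (φ ∘ pn) :=
      List.map_congr_left fun a _ => (hde a).symm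
    rw [e1, ← List.map_map, ← map_list_prod, show (w.map pn).prod = 1 from Subtype.ext ?_, map_one]
    rw [Subgroup.val_list_prod, List.map_map]
    show (w.map (M.fcut ∘ fun a : Fin 5 => pgen a)).prod = 1
    rw [← List.map_map, ← map_list_prod, hw, map_one])
  have htw : ∀ a < 5, Fx (twist ds a) (ax (ds.getD a 0) * pgen a) := fun a ha =>
    (ax_spec ((hds ⟨a, ha⟩) ▸ hd ⟨a, ha⟩)).mul (pgen_spec ha).2
  have hrel : (derRels.all fun r => eqB xBases (fun b => r.foldr (twist ds) b) id) = true := by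
    rw [List.all_eq_true]
    intro r hr
    have hlt : ∀ a ∈ r, a < 5 := fun a ha => by
      have h := List.all_eq_true.mp (List.all_eq_true.mp der_cand.2 r hr) a ha
      rwa [Nat.blt_eq] at h
    let w : List (Fin 5) := r.pmap (fun a h => ⟨a, h⟩) hlt
    have hw : w.map (Fin.val) = r := by simp [w, List.map_pmap]
    have f1 : ∀ v : List (Fin 5), Fx (fun b => (v.map Fin.val).foldr (twist ds) b) (v.map fun a => ax (d a) * pgen a).prod := by
      intro v
      induction v with
      | nil => exact Fx.one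
      | cons a v ih =>
        simp only [List.map_cons, List.foldr_cons, List.prod_cons]
        have := (htw a a.2).mul ih
        rwa [hds a] at this
    have f2 : ∀ v : List (Fin 5), Fx (apW pGens (v.map Fin.val)) (v.map fun a : Fin 5 => pgen a).prod := by
      intro v
      induction v with
      | nil => exact fun _ => rfl
      | cons a v ih =>
        simp only [List.map_cons, List.prod_cons]
        exact (pgen_spec a.2).2.mul ih
    have h0 := hw ▸ f2 w
    have h1 := hw ▸ f1 w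
    exact (eqB_iff h1 Fx.one).mpr (hkill w (eqX (List.all_eq_true.mp der_orig r hr) h0 Fx.one))
  have hcand : ∀ a : Fin 5, (derCand.getD a []).contains (d a) = true := by
    intro a
    have h := List.all_eq_true.mp (List.all_eq_true.mp der_cand.1 a (List.mem_range.mpr a.2)) (d a)
      (List.mem_range.mpr (hd a))
    rw [Bool.or_eq_true] at h
    refine h.resolve_right fun h => ?_
    have hF := (ax_spec (hd a)).mul (pgen_spec a.2).2
    have h2 := neX' h (show Fx _ _ from (ax_spec (hd a)).mul ((pgen_spec a.2).2.mul hF)) Fx.one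
    refine h2 ?_
    rw [← mul_assoc]
    simpa using hkill [a, a] (by simpa using pgen_sq a.2)
  have hmem : ds ∈ derTuples := by
    simp only [derTuples, List.mem_flatMap, List.mem_map]
    exact ⟨d 0, List.contains_iff_mem.mp (hcand 0), d 1, List.contains_iff_mem.mp (hcand 1),
      d 2, List.contains_iff_mem.mp (hcand 2), d 3, List.contains_iff_mem.mp (hcand 3),
      d 4, List.contains_iff_mem.mp (hcand 4), rfl⟩
  have hder := List.all_eq_true.mp der_ok ds hmem
  rw [derB, hrel, Bool.not_true, Bool.false_or, List.any_eq_true] at hder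
  obtain ⟨x, hx, hder⟩ := hder
  rw [List.mem_range] at hx
  have hinner : ∀ a : Fin 5, ax (d a) * pgen a = ax x * (pgen a * ax x) := fun a => by
    have h := eqX (List.all_eq_true.mp hder a (List.mem_range.mpr a.2)) (htw a a.2)
      ((ax_spec hx).mul ((pgen_spec a.2).2.mul (ax_spec hx)))
    rwa [hds a] at h
  refine ⟨(MulAut.conj (S.ag x)).toMonoidHom.comp φ, ?_⟩
  intro g hg
  show S.ag x * φ _ * (S.ag x)⁻¹ = S.ψ g
  induction hg using closure_induction with
  | mem g h =>
    obtain ⟨a, ha, rfl⟩ := h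
    rw [hde ⟨a, ha⟩, hinner ⟨a, ha⟩, Setup.ag, ← map_inv, ← map_mul, ← map_mul]
    refine congrArg S.ψ ?_
    rw [inv_eq_of_mul_eq_one_right (ax_sq hx)]
    calc ax x * (ax x * (pgen a * ax x)) * ax x = ax x * ax x * pgen a * (ax x * ax x) := by group
      _ = pgen a := by rw [ax_sq hx, one_mul, mul_one]
  | one =>
    have e : (⟨M.fcut 1, pSub_map_le ⟨1, one_mem pSub, rfl⟩⟩ : nSub) = 1 := Subtype.ext (map_one _)
    rw [e, map_one, map_one, mul_one, mul_inv_cancel]
  | mul a b ha hb iha ihb =>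
    have e : (⟨M.fcut (a * b), pSub_map_le ⟨a * b, mul_mem ha hb, rfl⟩⟩ : nSub) =
        ⟨M.fcut a, pSub_map_le ⟨a, ha, rfl⟩⟩ * ⟨M.fcut b, pSub_map_le ⟨b, hb, rfl⟩⟩ := Subtype.ext (map_mul _ _ _)
    rw [e, map_mul, map_mul, ← iha, ← ihb]
    group
  | inv a ha iha =>
    have e : (⟨M.fcut a⁻¹, pSub_map_le ⟨a⁻¹, inv_mem ha, rfl⟩⟩ : nSub) =
        (⟨M.fcut a, pSub_map_le ⟨a, ha, rfl⟩⟩ : nSub)⁻¹ := Subtype.ext (map_inv _ _)
    rw [e, map_inv, map_inv, ← iha]
    group

/-- The group of the letters maps to the group, extending the given map. -/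
theorem exists_hom : ∃ Φ : M.Grp →* G, ∀ g, Φ (M.fcut g) = S.ψ g := by
  classical
  obtain ⟨φ, hφ⟩ := exists_phi S
  let w5 : nSub := ⟨M.lm 5, lm_mem_n (by norm_num) (by norm_num)⟩
  set W := φ w5 with hW
  set C := S.ψ (gen 4) with hCdef
  obtain ⟨hfus, hcw⟩ := M.fused
  have hlm5 := M.lm_sq (by norm_num : 5 < 7)
  have hfc : M.fcut (gen 4) = M.lm 4 := M.fcut_gen (by norm_num : 4 < 6)
  have W2 : W * W = 1 := by rw [hW, ← map_mul, show w5 * w5 = 1 from Subtype.ext hlm5, map_one]
  have Winv : W⁻¹ = W := inv_eq_of_mul_eq_one_right W2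
  have hz : z ∈ pSub := axSub_le ⟨1, by norm_num, ax_one.symm⟩
  have hs : s ∈ pSub := axSub_le ⟨2, by norm_num, ax_two.symm⟩
  have transfer : ∀ {g h : X.Grp}, g ∈ pSub → h ∈ pSub → M.lm 5 * M.fcut g * M.lm 5 = M.fcut h →
      W * S.ψ g * W = S.ψ h := fun {g h} hg hh e => by
    rw [← hφ g hg, ← hφ h hh, hW, ← map_mul, ← map_mul]
    exact congrArg φ (Subtype.ext e)
  have hts : W * t * W = S.ψ s := by
    have h := transfer hz hs hfus
    rwa [S.map_z] at h
  have hst : W * S.ψ s * W = t := by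
    rw [← hts, ← mul_assoc, ← mul_assoc, W2, one_mul, mul_assoc, W2, mul_one]
  have hzc : z ∈ center X.Grp := by
    obtain ⟨σ, hσ, -, hzk⟩ := exists_proj
    exact hσ.2.1 hzk
  have hcs : gen 4 * s = s * gen 4 := by
    refine M.fcut_inj ?_
    have hct : M.lm 4 * M.tm = M.tm * M.lm 4 := by
      rw [← hfc, M.tm, ← map_mul, ← map_mul, mem_center_iff.mp hzc]
    rw [map_mul, map_mul, hfc, show M.fcut s = M.lm 5 * M.tm * M.lm 5 from hfus.symm]
    calc M.lm 4 * (M.lm 5 * M.tm * M.lm 5) = M.lm 4 * M.lm 5 * M.tm * M.lm 5 := by group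
      _ = M.lm 5 * (M.lm 4 * M.tm) * M.lm 5 := by rw [hcw]; group
      _ = M.lm 5 * M.tm * (M.lm 4 * M.lm 5) := by rw [hct]; group
      _ = M.lm 5 * M.tm * M.lm 5 * M.lm 4 := by rw [hcw]; group
  have hCs : Commute C (S.ψ s) := by
    show _ = _
    rw [hCdef, ← map_mul, ← map_mul, hcs]
  have hCt : Commute C t := S.comm _
  have conjW : ∀ {a b : G}, Commute a b → Commute (W * a * W) (W * b * W) := fun {a b} h => by
    show _ = _
    calc W * a * W * (W * b * W) = W * a * (W * W) * b * W := by group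
      _ = W * (b * a) * W := by rw [W2, ← h.eq]; group
      _ = W * b * (W * W) * a * W := by rw [W2]; group
      _ = W * b * W * (W * a * W) := by group
  obtain ⟨y, hy⟩ := S.mem_range (hst ▸ conjW hCs : Commute (W * C * W) t)
  have hys : y * s = s * y := S.inj (by
    rw [map_mul, map_mul, hy]
    exact (hts ▸ conjW hCt : Commute (W * C * W) (S.ψ s)).eq)
  have hym : (y : Perm (Fin 339)) ∈ prodSet 339 dChain := by
    rw [d_closed.1, d_closed.2]
    exact ⟨y.2, mem_centralizer_singleton_iff.mpr (congrArg Subtype.val hys)⟩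
  obtain ⟨ix, hix, he⟩ := exists_idx _ hym
  have hFy : Fx (evalT dChain ix) y := he
  have hC2 : gen 4 * gen 4 = 1 := gen_sq (by norm_num)
  have hy2 : y * y = 1 := S.inj (by
    rw [map_mul, hy, map_one, show W * C * W * (W * C * W) = W * C * (W * W) * C * W by group, W2, mul_one,
      show W * C * C * W = W * (C * C) * W by group, hCdef, ← map_mul, hC2, map_one, mul_one, W2])
  have hd : ∀ a < 5, Fx (ap (dZero.getD a 0)) (xe (dZero.getD a 0)) ∧ xe (dZero.getD a 0) ∈ pSub ∧
      Fx (ap (dZeroImg.getD a 0)) (xe (dZeroImg.getD a 0)) ∧ xe (dZeroImg.getD a 0) ∈ pSub ∧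
      W * S.ψ (xe (dZero.getD a 0)) * W = S.ψ (xe (dZeroImg.getD a 0)) := fun a ha => by
    obtain ⟨h1, h2⟩ := sift_mem_pSub alpha_perm.1 a_sift.2.2.2.2 (alpha_meta.2.1.symm ▸ ha)
    obtain ⟨h3, h4⟩ := sift_mem_pSub alpha_perm.2.1 alpha_perm.2.2 (alpha_meta.2.2.symm ▸ ha)
    refine ⟨h1, h2, h3, h4, transfer h2 h4 ?_⟩
    have h5 := (M.lm_spec (by norm_num : 5 < 7)).1
    rw [mul_assoc]
    exact M.eqM (List.all_eq_true.mp fused_ok.2.2.2 a (List.mem_range.mpr ha))
      (h5.mul ((M.fcut_spec h1).cut.mul h5)) (M.fcut_spec h3).cut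
  have halpha : alphaB ix = true := by
    simp only [alphaB, Bool.and_eq_true, List.all_eq_true]
    refine ⟨(eqB_iff (hFy.mul hFy) Fx.one).mpr hy2, fun t ht => ?_⟩
    let o : ℕ → X.Grp := fun a => if a = 5 then gen 4 else xe (dZero.getD a 0)
    let o' : ℕ → X.Grp := fun a => if a = 5 then y else xe (dZeroImg.getD a 0)
    have hlt : ∀ a ∈ (List.replicate t.2 t.1).flatten, a < 6 := fun a ha => by
      obtain ⟨l, hl, hal⟩ := List.mem_flatten.mp ha
      rw [List.eq_of_mem_replicate hl] at hal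
      have h := List.all_eq_true.mp (List.all_eq_true.mp alpha_meta.1 t ht) a hal
      rwa [Nat.blt_eq] at h
    generalize hv : (List.replicate t.2 t.1).flatten = v at hlt
    have fo : ∀ v : List ℕ, (∀ a ∈ v, a < 6) →
        Fx (fun b => v.foldr (fun a c => if a = 5 then ap (xGens.getD 4 0) c else ap (dZero.getD a 0) c) b)
            (v.map o).prod ∧
          Fx (fun b => v.foldr (fun a b => if a = 5 then evalT dChain ix b else ap (dZeroImg.getD a 0) b) b)
            (v.map o').prod ∧ S.ψ (v.map o').prod = W * S.ψ (v.map o).prod * W := by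
      intro v
      induction v with
      | nil => exact fun _ => ⟨Fx.one, Fx.one, by simp only [List.map_nil, List.prod_nil, map_one, mul_one, W2]⟩
      | cons a v ih =>
        intro hlt
        obtain ⟨i1, i2, i3⟩ := ih fun b hb => hlt b (List.mem_cons_of_mem _ hb)
        simp only [List.map_cons, List.prod_cons, List.foldr_cons, map_mul, i3]
        have ha := hlt a List.mem_cons_self
        by_cases h5 : a = 5
        · subst h5
          simp only [if_true, o, o']
          refine ⟨(gen_spec (by norm_num : 4 < 6)).2.mul i1, hFy.mul i2, ?_⟩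
          rw [hy, show W * C * W * (W * S.ψ (v.map o).prod * W) = W * C * (W * W) * S.ψ (v.map o).prod * W by group,
            W2]
          group
          rfl
        · obtain ⟨f1, -, f3, -, f5⟩ := hd a (by omega)
          simp only [if_neg h5, o, o']
          refine ⟨f1.mul i1, f3.mul i2, ?_⟩
          rw [← f5]
          calc W * S.ψ (xe (dZero.getD a 0)) * W * (W * S.ψ (v.map o).prod * W)
              = W * S.ψ (xe (dZero.getD a 0)) * (W * W) * S.ψ (v.map o).prod * W := by group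
            _ = _ := by rw [W2]; group; rfl
    obtain ⟨f1, f2, f3⟩ := fo v hlt
    have e1 : (v.map o).prod = 1 := eqX (hv ▸ List.all_eq_true.mp alpha_orig t ht) f1 Fx.one
    refine (eqB_iff f2 Fx.one).mpr (S.inj ?_)
    rw [f3, e1, map_one, mul_one, W2]
  have hyc : y = gen 4 := by
    have h := List.all_eq_true.mp alpha_ok ix hix
    rw [alphaOK, halpha, Bool.not_true, Bool.false_or] at h
    exact eqX h hFy (gen_spec (by norm_num : 4 < 6)).2
  have hWC : W * C * W = C := by rw [← hy, hyc]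
  -- the pairs
  let L : ℕ → G := fun i => [S.ψ (gen 0), S.ψ (gen 1), S.ψ (gen 2), S.ψ (gen 3), C, W, S.ψ (gen 5)].getD i 1
  let τ : ℕ → G × M.Grp := fun i => if i < 7 then (L i, M.lm i) else 1
  have hτ7 : τ 7 = 1 := rfl
  have hLφ : ∀ a (ha : a < 7) (h4 : a ≠ 4), L a = φ ⟨M.lm a, lm_mem_n ha h4⟩ := by
    intro a ha h4
    have hp : ∀ (j : ℕ) (hj : j < 5) (hn : M.fcut (pgen j) ∈ nSub), S.ψ (pgen j) = φ ⟨M.fcut (pgen j), hn⟩ :=
      fun j hj hn => (hφ (pgen j) (subset_closure ⟨j, hj, rfl⟩)).symm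
    interval_cases a
    · exact (hp 0 (by norm_num) (pSub_map_le ⟨_, subset_closure ⟨0, by norm_num, rfl⟩, rfl⟩)).trans
        (congrArg φ (Subtype.ext (pgen_fcut (by norm_num))))
    · exact (hp 1 (by norm_num) (pSub_map_le ⟨_, subset_closure ⟨1, by norm_num, rfl⟩, rfl⟩)).trans
        (congrArg φ (Subtype.ext (pgen_fcut (by norm_num))))
    · exact (hp 2 (by norm_num) (pSub_map_le ⟨_, subset_closure ⟨2, by norm_num, rfl⟩, rfl⟩)).trans
        (congrArg φ (Subtype.ext (pgen_fcut (by norm_num))))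
    · exact (hp 3 (by norm_num) (pSub_map_le ⟨_, subset_closure ⟨3, by norm_num, rfl⟩, rfl⟩)).trans
        (congrArg φ (Subtype.ext (pgen_fcut (by norm_num))))
    · exact absurd rfl h4
    · rfl
    · exact (hp 4 (by norm_num) (pSub_map_le ⟨_, subset_closure ⟨4, by norm_num, rfl⟩, rfl⟩)).trans
        (congrArg φ (Subtype.ext (pgen_fcut (by norm_num))))
  have hLX : ∀ i < 6, L (M.xIdx.getD i 0) = S.ψ (gen i) := by
    intro i hi; interval_cases i <;> rfl
  have hL2 : ∀ x, τ x * τ x = 1 := fun x => by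
    by_cases hx : x < 7
    · rw [show τ x = (L x, M.lm x) from if_pos hx]
      refine Prod.ext ?_ (M.lm_sq hx)
      show L x * L x = 1
      interval_cases x
      · show S.ψ (gen 0) * S.ψ (gen 0) = 1
        rw [← map_mul, gen_sq (by norm_num), map_one]
      · show S.ψ (gen 1) * S.ψ (gen 1) = 1
        rw [← map_mul, gen_sq (by norm_num), map_one]
      · show S.ψ (gen 2) * S.ψ (gen 2) = 1
        rw [← map_mul, gen_sq (by norm_num), map_one]
      · show S.ψ (gen 3) * S.ψ (gen 3) = 1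
        rw [← map_mul, gen_sq (by norm_num), map_one]
      · show S.ψ (gen 4) * S.ψ (gen 4) = 1
        rw [← map_mul, gen_sq (by norm_num), map_one]
      · exact W2
      · show S.ψ (gen 5) * S.ψ (gen 5) = 1
        rw [← map_mul, gen_sq (by norm_num), map_one]
    · rw [show τ x = 1 from if_neg hx, mul_one]
  have hrel : ∀ r : List ℕ, relMB r = true → relKindB r = true → relXB r = true → (r.map τ).prod = 1 := by
    intro r hM hkind hX
    simp only [relMB, Bool.and_eq_true] at hM
    have hlt : ∀ a ∈ r, a < 7 := fun a ha => by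
      have := List.all_eq_true.mp hM.1 a ha
      rwa [Nat.blt_eq] at this
    have hsplit : (r.map τ).prod = ((r.map L).prod, (r.map M.lm).prod) := by
      clear hM hkind hX
      induction r with
      | nil => rfl
      | cons a r ih =>
        simp only [List.map_cons, List.prod_cons, ih fun b hb => hlt b (List.mem_cons_of_mem _ hb)]
        rw [show τ a = (L a, M.lm a) from if_pos (hlt a List.mem_cons_self)]
        rfl
    have hFM : ∀ v : List ℕ, (∀ a ∈ v, a < 7) → M.Fm (apW mLetters v) (v.map M.lm).prod := by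
      intro v
      induction v with
      | nil => exact fun _ _ => rfl
      | cons a v ih =>
        intro h
        simp only [List.map_cons, List.prod_cons]
        exact (M.lm_spec (h a List.mem_cons_self)).1.mul (ih fun b hb => h b (List.mem_cons_of_mem _ hb))
    have hMr : (r.map M.lm).prod = 1 := M.eqM hM.2 (hFM r hlt) M.Fm.one
    refine hsplit.trans (Prod.ext ?_ hMr)
    show (r.map L).prod = 1
    simp only [relKindB, Bool.or_eq_true, Bool.not_eq_true', beq_iff_eq] at hkind
    rcases hkind with (h5 | h4) | hE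
    · rw [relXB, h5, Bool.false_or] at hX
      let xo : ℕ → X.Grp := fun a => [gen 0, gen 1, gen 2, gen 3, gen 4, 1, gen 5].getD a 1
      have hxo : ∀ v : List ℕ, (∀ a ∈ v, a < 7 ∧ a ≠ 5) → Fx (apW xLetters v) (v.map xo).prod ∧
          S.ψ (v.map xo).prod = (v.map L).prod := by
        intro v
        induction v with
        | nil => exact fun _ => ⟨fun _ => rfl, map_one _⟩
        | cons a v ih =>
          intro h
          obtain ⟨i1, i2⟩ := ih fun b hb => h b (List.mem_cons_of_mem _ hb)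
          obtain ⟨ha, ha5⟩ := h a List.mem_cons_self
          have e : Fx (ap (xLetters.getD a 0)) (xo a) ∧ S.ψ (xo a) = L a := by
            have hl : ∀ i < 7, i ≠ 5 → xLetters.getD i 0 = xGens.getD ([0, 1, 2, 3, 4, 0, 5].getD i 0) 0 := by
              decide +kernel
            rw [hl a ha ha5]
            interval_cases a
            exacts [⟨(gen_spec (by norm_num : 0 < 6)).2, rfl⟩, ⟨(gen_spec (by norm_num : 1 < 6)).2, rfl⟩,
              ⟨(gen_spec (by norm_num : 2 < 6)).2, rfl⟩, ⟨(gen_spec (by norm_num : 3 < 6)).2, rfl⟩,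
              ⟨(gen_spec (by norm_num : 4 < 6)).2, rfl⟩, absurd rfl ha5, ⟨(gen_spec (by norm_num : 5 < 6)).2, rfl⟩]
          simp only [List.map_cons, List.prod_cons, map_mul, i2, e.2]
          exact ⟨e.1.mul i1, trivial⟩
      obtain ⟨f1, f2⟩ := hxo r fun a ha => ⟨hlt a ha, fun e => by
        subst e
        rw [List.contains_iff_mem.mpr ha] at h5
        exact Bool.noConfusion h5⟩
      rw [← f2, eqX hX f1 Fx.one, map_one]
    · have hn : ∀ a ∈ r, a ≠ 4 := fun a ha e => by
        subst e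
        rw [List.contains_iff_mem.mpr ha] at h4
        exact Bool.noConfusion h4
      have hmem : ∀ a ∈ r, M.lm a ∈ nSub := fun a ha => lm_mem_n (hlt a ha) (hn a ha)
      let rn : List nSub := List.map (fun a : {x // x ∈ r} => (⟨M.lm a.1, hmem a.1 a.2⟩ : nSub)) r.attach
      have e1 : rn.map φ = r.map L := by
        rw [List.map_map]
        refine (List.map_congr_left fun a _ => ?_).trans List.attach_map_val
        exact (hLφ a.1 (hlt _ a.2) (hn _ a.2)).symm
      have e2 : rn.prod = 1 := by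
        refine Subtype.ext ?_
        rw [Subgroup.val_list_prod, List.map_map, Subgroup.coe_one]
        exact (congrArg List.prod (List.attach_map_val (l := r) (f := M.lm))).trans hMr
      rw [← e1, ← map_list_prod, e2, map_one]
    · subst hE
      show W * (C * (W * (C * 1))) = 1
      rw [mul_one, ← mul_assoc, ← mul_assoc, hWC, hCdef, ← map_mul, hC2, map_one]
  obtain ⟨rmH, rmG, rkH, rkG⟩ := rels_m
  -- first step: the letters of the small subgroup
  let τH : ℕ → G × M.Grp := fun i => if i < 6 then τ i else 1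
  have hkH : EnumH.sheet.D.k = 6 := rfl
  have hkG : EnumG.sheet.D.k = 7 := rfl
  have step0 : Finite (wordsSub τH EnumH.sheet.hw) ∧ Nat.card (wordsSub τH EnumH.sheet.hw) ≤ 80640 := by
    refine ⟨inferInstance, ?_⟩
    let K : Subgroup X.Grp := (genG 339 kGens).subgroupOf X.Grp
    have hle : genG 339 kGens ≤ X.Grp := k_closed.2.2
    have hc : Nat.card K = 80640 := by
      rw [Nat.card_congr (subgroupOfEquivOfLe hle).toEquiv, k_closed.1]
    have hsub : wordsSub τH EnumH.sheet.hw ≤ K.map (S.ψ.prod M.fcut) := by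
      rw [wordsSub, closure_le]
      rintro _ ⟨w, hw, rfl⟩
      obtain ⟨a, ha, rfl⟩ : ∃ a < 5, w = [a] := by
        have hw' : w ∈ [[0], [1], [2], [3], [4]] := hw
        simp only [List.mem_cons, List.not_mem_nil, or_false] at hw'
        rcases hw' with h | h | h | h | h
        exacts [⟨0, by norm_num, h⟩, ⟨1, by norm_num, h⟩, ⟨2, by norm_num, h⟩, ⟨3, by norm_num, h⟩, ⟨4, by norm_num, h⟩]
      have hk : gen a ∈ K := by
        rw [mem_subgroupOf, (gen_spec (by omega : a < 6)).1]
        have hp := k_perm.1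
        have e : el 339 xGens a = el 339 kGens a := by
          rw [el, el, Nat.eq_of_beq_eq_true (List.all_eq_true.mp k_perm.2.2 a (List.mem_range.mpr ha))]
        rw [e]
        exact el_mem_gen hp (k_closed.2.1.symm ▸ ha)
      refine ⟨gen a, hk, ?_⟩
      have ex : M.xIdx.getD a 0 = a := by interval_cases a <;> rfl
      show (S.ψ (gen a), M.fcut (gen a)) = ([a].map τH).prod
      rw [List.map_singleton, List.prod_singleton, show τH a = τ a from if_pos (by omega),
        show τ a = (L a, M.lm a) from if_pos (by omega), M.fcut_gen (by omega), ex, ← hLX a (by omega), ex]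
    calc Nat.card (wordsSub τH EnumH.sheet.hw) ≤ Nat.card (K.map (S.ψ.prod M.fcut)) :=
          Nat.card_le_card_of_injective _ (inclusion_injective hsub)
      _ ≤ Nat.card K := Nat.le_of_dvd Nat.card_pos (Subgroup.card_map_dvd _ _)
      _ = 80640 := hc
  have hwle : ∀ (τ' : ℕ → G × M.Grp) (hw : List (List ℕ)) (k : ℕ), (hw.all (ltB k)) = true →
      wordsSub τ' hw ≤ closure (τ' '' Set.Iio k) := fun τ' hw k h => by
    rw [wordsSub, closure_le]
    rintro _ ⟨w, hw', rfl⟩
    refine Submonoid.list_prod_mem _ fun g hg => ?_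
    obtain ⟨a, ha, rfl⟩ := List.mem_map.mp hg
    have := List.all_eq_true.mp (List.all_eq_true.mp h w hw') a ha
    rw [Nat.blt_eq] at this
    exact subset_closure ⟨a, this, rfl⟩
  obtain ⟨-, hH⟩ := EnumH.sheet.card_le τH (fun x => by
      by_cases hx : x < 6
      · rw [show τH x = τ x from if_pos hx]; exact hL2 x
      · rw [show τH x = 1 from if_neg hx, mul_one])
    (by rw [hkH]; rfl)
    (fun r hr => by
      have hl : ∀ a ∈ r, a < 6 := fun a ha => by
        have := List.all_eq_true.mp (List.all_eq_true.mp rels_x.2.2.2.1 r hr) a ha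
        rwa [Nat.blt_eq] at this
      rw [List.map_congr_left fun a ha => show τH a = τ a from if_pos (hl a ha)]
      exact hrel r (List.all_eq_true.mp rmH r hr) (List.all_eq_true.mp rkH r hr) (List.all_eq_true.mp rels_x.1 r hr))
    (hwle _ _ _ (by decide +kernel)) step0
  have step1 : Finite (wordsSub τ EnumG.sheet.hw) ∧ Nat.card (wordsSub τ EnumG.sheet.hw) ≤ 22275 * 80640 := by
    refine ⟨inferInstance, le_trans ?_ hH⟩
    refine Nat.card_le_card_of_injective _ (inclusion_injective (?_ :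
      wordsSub τ EnumG.sheet.hw ≤ closure (τH '' Set.Iio EnumH.sheet.D.k)))
    rw [wordsSub, closure_le, hkH]
    rintro _ ⟨w, hw, rfl⟩
    refine Submonoid.list_prod_mem _ fun g hg => ?_
    obtain ⟨a, ha, rfl⟩ := List.mem_map.mp hg
    have hw6 : ∀ w ∈ EnumG.sheet.hw, ∀ a ∈ w, a < 6 := by
      intro w hw a ha
      have hw' : w ∈ [[0], [1], [2], [3], [4], [5]] := hw
      simp only [List.mem_cons, List.not_mem_nil, or_false] at hw'
      rcases hw' with rfl | rfl | rfl | rfl | rfl | rfl <;> simp only [List.mem_singleton] at ha <;> omega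
    exact subset_closure ⟨a, hw6 w hw a ha, if_pos (hw6 w hw a ha)⟩
  obtain ⟨-, hU⟩ := EnumG.sheet.card_le τ hL2 (by rw [hkG]; exact hτ7)
    (fun r hr => hrel r (List.all_eq_true.mp rmG r hr) (List.all_eq_true.mp rkG r hr)
      (List.all_eq_true.mp rels_x.2.1 r hr))
    (hwle _ _ _ (by decide +kernel)) step1
  rw [hkG] at hU
  let U : Subgroup (G × M.Grp) := closure (τ '' Set.Iio 7)
  let p2 : U →* M.Grp := (MonoidHom.snd G M.Grp).comp U.subtype
  have hlmem : ∀ a (ha : a < 7), (L a, M.lm a) ∈ U := fun a ha => subset_closure ⟨a, ha, if_pos ha⟩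
  have hsurj : Function.Surjective p2 := by
    rintro ⟨g, hg⟩
    have h : genG 276 mLetters ≤ (M.Grp.subtype.comp p2).range := genG_le m_perm.1 fun a ha => by
      have ha7 : a < 7 := m_perm.2.1 ▸ ha
      exact ⟨⟨_, hlmem a ha7⟩, (M.lm_spec ha7).2⟩
    obtain ⟨x, hx⟩ := h hg
    exact ⟨x, Subtype.ext hx⟩
  have hcard : Nat.card U ≤ Nat.card M.Grp := by
    rw [M.closed.2.1]
    exact hU.trans (le_of_eq (show 276 * (22275 * 80640) = 495766656000 by norm_num))
  have hbij : Function.Bijective p2 :=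
    (Nat.bijective_iff_surjective_and_card p2).mpr ⟨hsurj,
      le_antisymm hcard (Nat.card_le_card_of_surjective p2 hsurj)⟩
  let Φ : M.Grp →* G := ((MonoidHom.fst G M.Grp).comp U.subtype).comp (MulEquiv.ofBijective p2 hbij).symm.toMonoidHom
  have hΦ : ∀ a (ha : a < 7), Φ (M.lm a) = L a := fun a ha => by
    show ((((MulEquiv.ofBijective p2 hbij).symm (M.lm a)) : U) : G × M.Grp).1 = L a
    rw [show M.lm a = MulEquiv.ofBijective p2 hbij ⟨_, hlmem a ha⟩ from rfl, MulEquiv.symm_apply_apply]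
  refine ⟨Φ, fun g => ?_⟩
  refine gen_ind (p := fun g => Φ (M.fcut g) = S.ψ g) (fun a ha => ?_) ?_ ?_ ?_ g
  · show Φ (M.fcut (gen a)) = _
    rw [M.fcut_gen ha, hΦ _ ((by decide : ∀ a < 6, M.xIdx.getD a 0 < 7) a ha), hLX a ha]
  · show Φ (M.fcut 1) = S.ψ 1
    simp only [map_one]
  · intro a b ha hb
    show Φ (M.fcut (a * b)) = _
    simp only [map_mul, ha, hb]
  · intro a ha
    show Φ (M.fcut a⁻¹) = _
    simp only [map_inv, ha]

end CfsgLib.Co3Recog.Rel
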