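/-
The group is the third Conway group.
-/
import Cfsg.Agent.Lib.Co3Recog.Relations
import Cfsg.Agent.Lib.Co3Recog.Strong

set_option autoImplicit false
set_option linter.unusedSectionVars false
set_option linter.style.haveILetI false
set_option maxRecDepth 30000
set_option maxHeartbeats 1000000

namespace CfsgLib.Co3Recog.Main

open Equiv Subgroup CfsgPC Base Data X

attribute [local irreducible] mLetters mChain cuGens suGens suChain vC rC gC hC3 tTwoGens tTwoChain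

variable {G : Type} [Group G] [Finite G] {t : G} (S : Setup t) (Φ : M.Grp →* G)
  (hΦ : ∀ g, Φ (M.fcut g) = S.ψ g)
include hΦ

theorem phi_tm : Φ M.tm = t := (hΦ z).trans S.map_z

theorem phi_inj : Function.Injective Φ := by
  haveI := M.equiv_co3.2
  rcases (MonoidHom.normal_ker Φ).eq_bot_or_eq_top with h | h
  · exact (MonoidHom.ker_eq_bot_iff Φ).mp h
  · exfalso
    have h1 : Φ M.tm = 1 := MonoidHom.mem_ker.mp (h ▸ mem_top _)
    rw [phi_tm S Φ hΦ] at h1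
    have h2 := S.ht
    rw [h1, orderOf_one] at h2
    omega

theorem order_two {m : M.Grp} (h : m * m = 1) (h1 : m ≠ 1) : orderOf (Φ m) = 2 :=
  orderOf_eq_prime (by rw [sq, ← map_mul, h, map_one]) fun e => h1 (phi_inj S Φ hΦ (e.trans (map_one Φ).symm))

theorem not_t {m : M.Grp} (hf : fixNum (m : Perm (Fin 276)) = 12) : ¬ IsConj t (Φ m) := fun h => by
  obtain ⟨c, hc⟩ := isConj_iff.mp h
  have hm : m * m = 1 := phi_inj S Φ hΦ (by
    rw [map_mul, ← hc, map_one, conj_sq c S.t_sq])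
  exact S.not_conj_u (h.trans ((hΦ u ▸ Φ.map_isConj (M.conj_u_of_fix hm hf)).symm))

theorem range_ge {x : G} (h : Commute x t) : x ∈ Φ.range := by
  obtain ⟨g, rfl⟩ := S.mem_range h
  exact ⟨M.fcut g, hΦ g⟩

theorem cent_pair : centralizer ({Φ M.um, Φ M.vm} : Set G) ⊓ Φ.range = M.cvSub.map Φ := by
  have hinj := phi_inj S Φ hΦ
  ext x
  simp only [mem_inf, mem_centralizer_iff, Set.mem_insert_iff, Set.mem_singleton_iff, forall_eq_or_imp, forall_eq,
    MonoidHom.mem_range, mem_map]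
  constructor
  · rintro ⟨⟨h1, h2⟩, m, rfl⟩
    exact ⟨m, M.mem_cv.mpr ⟨hinj (by rw [map_mul, map_mul, h1]), hinj (by rw [map_mul, map_mul, h2])⟩, rfl⟩
  · rintro ⟨m, hm, rfl⟩
    obtain ⟨h1, h2⟩ := M.mem_cv.mp hm
    exact ⟨⟨by rw [← map_mul, ← map_mul, h1], by rw [← map_mul, ← map_mul, h2]⟩, m, rfl⟩

theorem cent_pair_t : centralizer ({Φ M.um, Φ M.vm} : Set G) ⊓ centralizer ({t} : Set G) = M.ctSub.map Φ := by
  ext x
  constructor
  · rintro ⟨hx, ht⟩
    have hr : x ∈ Φ.range := range_ge S Φ hΦ (mem_centralizer_singleton_iff.mp ht)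
    have hm : x ∈ M.cvSub.map Φ := cent_pair S Φ hΦ ▸ ⟨hx, hr⟩
    obtain ⟨m, hm, rfl⟩ := hm
    refine ⟨m, ⟨hm, mem_centralizer_singleton_iff.mpr (phi_inj S Φ hΦ ?_)⟩, rfl⟩
    rw [map_mul, map_mul, phi_tm S Φ hΦ]
    exact mem_centralizer_singleton_iff.mp ht
  · rintro ⟨m, ⟨hm, ht⟩, rfl⟩
    refine ⟨((cent_pair S Φ hΦ).ge (mem_map_of_mem Φ hm)).1, mem_centralizer_singleton_iff.mpr ?_⟩
    rw [← phi_tm S Φ hΦ, ← map_mul, ← map_mul, mem_centralizer_singleton_iff.mp ht]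

theorem mem_four {m : M.Grp} : Φ m ∈ closure ({Φ M.um, Φ M.vm} : Set G) ↔ m ∈ M.four := by
  have e : closure ({Φ M.um, Φ M.vm} : Set G) = M.four.map Φ := by
    rw [M.four, MonoidHom.map_closure, Set.image_pair]
  rw [e, mem_map]
  exact ⟨fun ⟨m', hm', h⟩ => phi_inj S Φ hΦ h ▸ hm', fun h => ⟨m, h, rfl⟩⟩

theorem control : Strong.Ctrl Φ.range t (Φ M.um) (Φ M.vm) := by
  have hinj := phi_inj S Φ hΦ
  have ht0 := phi_tm S Φ hΦ
  obtain ⟨ht1, htt, hu1, huu, hv1, hvv, hvu, htu, h36, hfu, hfv, hfuv⟩ := M.basic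
  obtain ⟨-, hvu', hvt'⟩ := M.vm_spec
  have ou := order_two S Φ hΦ huu hu1
  have ov := order_two S Φ hΦ hvv hv1
  have hpu : Φ M.um = S.ψ u := hΦ u
  have cvu : Commute (Φ M.um) (Φ M.vm) := by
    show _ = _
    rw [← map_mul, ← map_mul, hvu']
  have hne : Φ M.vm ≠ Φ M.um := fun e => hvu (hinj e)
  have ctu : Commute t (Φ M.um) := by
    show _ = _
    rw [← ht0, ← map_mul, ← map_mul, htu]
  have ctv : Commute t (Φ M.vm) := by
    show _ = _
    rw [← ht0, ← map_mul, ← map_mul, hvt']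
  have hW : ∀ {m : M.Grp}, m * M.um = M.um * m → m * M.vm = M.vm * m →
      Φ m ∈ centralizer ({Φ M.um, Φ M.vm} : Set G) := fun {m} h1 h2 =>
    ((cent_pair S Φ hΦ).ge (mem_map_of_mem Φ (M.mem_cv.mpr ⟨h1, h2⟩))).1
  have hct : ∀ {m : M.Grp}, m * M.tm = M.tm * m → Commute (Φ m) t := fun {m} h => by
    show _ = _
    rw [← ht0, ← map_mul, ← map_mul, h]
  obtain ⟨hw1, hw2, hw3, hw4, hw5, hw6, hw7, hw8, hw9⟩ := wit_ok
  obtain ⟨hr, hrc⟩ := M.inCent_one m_perm_two.2.2.2.2.2.2.1 hw1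
  have hps : permsB 276 [gC.1, hC3.1] [gC.2, hC3.2] = true := by
    simp only [permsB, Bool.and_eq_true, List.all_eq_true, List.mem_range]
    refine ⟨rfl, fun x hx => ?_⟩
    have hx2 : x < 2 := hx
    interval_cases x
    exacts [m_perm_two.2.2.2.2.2.2.2.1, m_perm_two.2.2.2.2.2.2.2.2.1]
  obtain ⟨hg, -, hgc⟩ := M.inCent hps hw2 (a := 0) (by simp)
  obtain ⟨hh, -, hhc⟩ := M.inCent hps hw2 (a := 1) (by simp)
  replace hg : M.Fm (ap gC.1) (M.me gC.1) := hg
  replace hh : M.Fm (ap hC3.1) (M.me hC3.1) := hh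
  have hhi : M.Fm (ap hC3.2) (M.me hC3.1)⁻¹ := rep_inv (by norm_num) hh m_perm_two.2.2.2.2.2.2.2.2.1
  have hmem4 := @mem_four _ _ _ _ S Φ hΦ
  have hV : ∀ x, Commute x (Φ M.um) → Commute x (Φ M.vm) → x ∈ Φ.range := by
    refine Strong.cent_four (r := Φ (M.me rC.1)) (g₄ := Φ (M.me gC.1)) (h := Φ (M.me hC3.1)) ou ov cvu hne S.ht
      (ht0 ▸ hW htu hvt'.symm) (fun h => M.four_fix.1 (hmem4.mp (ht0 ▸ h))) ?_ ?_ ?_ (hW (hrc uM (by simp) _ M.um_spec)
        (hrc vC.1 (by simp) _ M.vm_spec.1)) (hct (hrc tM (by simp) _ M.tm_spec)) ?_ ?_ ?_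
      (hW (hgc uM (by simp) _ M.um_spec) (hgc vC.1 (by simp) _ M.vm_spec.1)) ?_
      (hW (hhc uM (by simp) _ M.um_spec) (hhc vC.1 (by simp) _ M.vm_spec.1)) ?_ ?_ ?_ ?_ ?_
    · intro w hw hc
      have hw' : w ∈ Φ.range := by
        refine (closure_le Φ.range).mpr ?_ hw
        rintro _ (rfl | rfl) <;> exact ⟨_, rfl⟩
      obtain ⟨m, rfl⟩ := hw'
      by_contra h
      have hm1 : m ≠ 1 := fun e => h (e ▸ map_one Φ)
      rw [← ht0, ← map_mul] at hc
      exact not_t S Φ hΦ ((M.four_fix.2 m (hmem4.mp hw)).1 hm1) (ht0 ▸ hc)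
    · rw [cent_pair_t S Φ hΦ, card_map_of_injective hinj, M.ct_card.1]
    · intro x hx hxt hcc
      have hm : x ∈ M.ctSub.map Φ := cent_pair_t S Φ hΦ ▸ ⟨hx, mem_centralizer_singleton_iff.mpr hxt.eq⟩
      obtain ⟨m, hm, rfl⟩ := hm
      rcases M.ct_center hm (fun y hy => hmem4.mp (by
          rw [map_mul, map_mul, map_mul, map_inv, map_inv]
          have hy' := (cent_pair_t S Φ hΦ).ge (mem_map_of_mem Φ hy)
          exact hcc _ hy'.1 (mem_centralizer_singleton_iff.mp hy'.2))) with h | h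
      · exact Or.inl (hmem4.mpr h)
      · exact Or.inr (by rw [← ht0, ← map_mul]; exact hmem4.mpr h)
    · intro h
      rw [(M.four_scan hr).mpr (hmem4.mp h)] at hw3
      exact Bool.noConfusion hw3
    · rw [← map_mul]
      exact hmem4.mpr ((M.four_scan (hr.mul hr)).mp hw4)
    · intro w hw hc
      have hw' : w ∈ Φ.range := by
        refine (closure_le Φ.range).mpr ?_ hw
        rintro _ (rfl | rfl) <;> exact ⟨_, rfl⟩
      obtain ⟨m, rfl⟩ := hw'
      rw [← map_mul] at hc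
      exact not_t S Φ hΦ (M.four_fix.2 m (hmem4.mp hw)).2 hc
    · rw [← ht0, ← map_mul, ← map_mul]
      refine hmem4.mpr ?_
      rw [mul_assoc]
      exact (M.four_scan (hg.mul (hg.mul M.tm_spec))).mp hw5
    · rw [← map_pow, show M.me hC3.1 ^ 3 = 1 from ?_, map_one]
      rw [show (3 : ℕ) = 1 + 1 + 1 from rfl, pow_succ, pow_succ, pow_one, mul_assoc]
      exact M.eqM hw6 (hh.mul (hh.mul hh)) M.Fm.one
    · rw [← ht0, ← map_inv, ← map_mul, ← map_mul]
      show _ = _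
      rw [← map_mul, ← map_mul]
      refine congrArg Φ ?_
      have hL := hh.mul (M.tm_spec.mul (hhi.mul M.tm_spec))
      have hR := M.tm_spec.mul (hh.mul (M.tm_spec.mul hhi))
      have e := M.eqM hw7 hL hR
      simpa only [mul_assoc] using e
    · intro h
      rw [← ht0, ← map_inv, ← map_mul, ← map_mul, ← map_mul, hmem4, mul_assoc, mul_assoc] at h
      have hF := hh.mul (M.tm_spec.mul (hhi.mul M.tm_spec))
      exact Bool.noConfusion (hw8.symm.trans ((M.four_scan hF).mpr h))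
    · rw [← ht0]
      simp only [← map_inv, ← map_mul]
      rw [hmem4]
      simp only [mul_inv_rev, mul_assoc]
      exact (M.four_scan (hh.mul (hh.mul (M.tm_spec.mul (hhi.mul (hhi.mul (hh.mul (M.tm_spec.mul
        (hhi.mul M.tm_spec))))))))).mp hw9
    · rw [cent_pair S Φ hΦ, card_map_of_injective hinj, M.cv_card.1]
  refine ⟨S.ht, ou, ov, ⟨M.tm, ht0⟩, ⟨_, rfl⟩, ⟨_, rfl⟩, fun x hx => range_ge S Φ hΦ hx, ?_,
    hpu ▸ S.not_conj_u, fun h => hpu ▸ S.not_square h, cvu, ctu, hne,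
    ⟨not_t S Φ hΦ hfv, by rw [← map_mul]; exact not_t S Φ hΦ hfuv⟩, ?_, hV, ctv⟩
  · rintro x ⟨m, rfl⟩ hx
    have hm : m * m = 1 := hinj (by rw [map_mul, map_one, ← sq, ← hx]; exact pow_orderOf_eq_one _)
    have hm1 : m ≠ 1 := by
      rintro rfl
      rw [map_one, orderOf_one] at hx
      omega
    rcases M.invol_class hm hm1 with h | h
    · obtain ⟨c, hc⟩ := isConj_iff.mp h.symm
      exact ⟨Φ c, ⟨c, rfl⟩, Or.inl (by rw [← ht0, ← hc, map_mul, map_mul, map_inv])⟩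
    · obtain ⟨c, hc⟩ := isConj_iff.mp h.symm
      exact ⟨Φ c, ⟨c, rfl⟩, Or.inr (by rw [← hc, map_mul, map_mul, map_inv])⟩
  · rintro x ⟨m, rfl⟩ hx hxu hne'
    have hm : m * m = 1 := hinj (by rw [map_mul, map_one, ← sq, ← hx]; exact pow_orderOf_eq_one _)
    have hm1 : m ≠ 1 := by
      rintro rfl
      rw [map_one, orderOf_one] at hx
      omega
    rcases M.cu_class hm (hinj (by rw [map_mul, map_mul]; exact hxu.eq)) hm1 (fun e => hne' (e ▸ rfl)) with
      h | h | ⟨c, hc, h⟩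
    · exact Or.inl (ht0 ▸ Φ.map_isConj h)
    · refine Or.inr (Or.inl ?_)
      rw [← ht0, ← map_mul]
      exact Φ.map_isConj h
    · refine Or.inr (Or.inr ⟨Φ c, ⟨c, rfl⟩, by show _ = _; rw [← map_mul, ← map_mul, hc], ?_⟩)
      rcases h with h | h
      · exact Or.inl (by rw [← h, map_mul, map_mul, map_inv])
      · exact Or.inr (by rw [← map_mul Φ M.um M.vm, ← h, map_mul, map_mul, map_inv])

omit hΦ Φ S

theorem iso_of_hyps {G : Type} [Group G] [Finite G] (hO : Cfsg.oddCore G = ⊥) (hZ : center G = ⊥) (t : G)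
    (ht : orderOf t = 2)
    (hC : Cfsg.IsNonsplitDoubleCover (centralizer ({t} : Set G)) (Matrix.symplecticGroup (Fin 3) (ZMod 2))) :
    Cfsg.Spor.IsoCo3 G := by
  obtain ⟨ψ, hψ, hr, hz⟩ := exists_model t ht hC
  let S : Setup t := ⟨ψ, hψ, hr, hz, ht, hO, hZ⟩
  obtain ⟨Φ, hΦ⟩ := Rel.exists_hom S
  have hinj := phi_inj S Φ hΦ
  have htop := Strong.eq_top (control S Φ hΦ)
  obtain ⟨⟨e⟩, -⟩ := M.equiv_co3
  exact ⟨((MonoidHom.ofInjective hinj).trans ((MulEquiv.subgroupCongr htop).trans Subgroup.topEquiv)).symm.trans e⟩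

end CfsgLib.Co3Recog.Main
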